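import Mathlib

/-!
# (RCa) for helper7's S4980 squad: a socle element of `M / π M`
-/

set_option autoImplicit false
set_option linter.style.haveILetI false
universe u
open IsLocalRing

namespace Groth.Agent.H42.DvrLen

/-- (RCa) ring level: socle element. -/
theorem exists_socle_mod {A' R M : Type u} [CommRing A'] [IsDomain A'] [IsDiscreteValuationRing A']
    [CommRing R] [IsLocalRing R] [IsNoetherianRing R] [Algebra A' R]
    [IsLocalHom (algebraMap A' R)] [AddCommGroup M] [Module R M] [Module A' M]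
    [IsScalarTower A' R M] [Module.Finite R M] [Module.Flat A' M]
    (p : PrimeSpectrum R)
    (hp1 : Nontrivial (LocalizedModule p.asIdeal.primeCompl M))
    (hp2 : ∀ q : PrimeSpectrum R, q < p → Subsingleton (LocalizedModule q.asIdeal.primeCompl M))
    (hmin : ∀ q : PrimeSpectrum R, p ≤ q →
      (maximalIdeal A').map (algebraMap A' R) ≤ q.asIdeal → q.asIdeal = maximalIdeal R) :
    ∃ n : M, n ∉ ((maximalIdeal A').map (algebraMap A' R)) • (⊤ : Submodule R M) ∧
      ∀ b ∈ maximalIdeal R, b • n ∈ ((maximalIdeal A').map (algebraMap A' R)) • (⊤ : Submodule R M) := by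
  classical
  -- the uniformizer
  obtain ⟨ϖ, hϖ⟩ := IsDiscreteValuationRing.exists_irreducible A'
  set π : R := algebraMap A' R ϖ with hπ
  have hI : (maximalIdeal A').map (algebraMap A' R) = Ideal.span {π} := by
    rw [hϖ.maximalIdeal_eq, Ideal.map_span, Set.image_singleton]
  rw [hI] at hmin ⊢
  have hπm : π ∈ maximalIdeal R := by
    have h1 : ϖ ∈ maximalIdeal A' := by
      rw [hϖ.maximalIdeal_eq]; exact Ideal.mem_span_singleton_self ϖ
    have h2 : ¬ IsUnit ϖ := (IsLocalRing.mem_maximalIdeal ϖ).mp h1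
    rw [IsLocalRing.mem_maximalIdeal]
    exact fun hu => h2 (isUnit_of_map_unit (algebraMap A' R) ϖ hu)
  -- `π` is `M`-regular
  have hreg : IsSMulRegular M π := by
    have h1 : IsSMulRegular M ϖ :=
      Module.Flat.isSMulRegular_of_isRegular (IsRegular.of_ne_zero hϖ.ne_zero)
    intro a b hab
    apply h1
    simpa only [hπ, algebraMap_smul] using hab
  have hmemI : ∀ y : M, y ∈ Ideal.span {π} • (⊤ : Submodule R M) ↔ ∃ m : M, y = π • m := by
    intro y
    rw [Submodule.ideal_span_singleton_smul, Submodule.mem_smul_pointwise_iff_exists]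
    constructor
    · rintro ⟨m, -, rfl⟩; exact ⟨m, rfl⟩
    · rintro ⟨m, rfl⟩; exact ⟨m, Submodule.mem_top, rfl⟩
  -- `p` is an associated prime of `M`
  have hpAss : p.asIdeal ∈ associatedPrimes R M := by
    apply Module.associatedPrimes.minimalPrimes_annihilator_subset_associatedPrimes R M
    have hsupp : p ∈ Module.support R M := by
      rw [Module.mem_support_iff]; exact hp1
    have hann : Module.annihilator R M ≤ p.asIdeal := by
      rw [Module.support_eq_zeroLocus] at hsupp
      exact (PrimeSpectrum.mem_zeroLocus _ _).mp hsupp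
    refine ⟨⟨p.2, hann⟩, ?_⟩
    rintro q ⟨hqprime, hqann⟩ hqp
    by_contra hne
    have hlt : (⟨q, hqprime⟩ : PrimeSpectrum R) < p := lt_of_le_of_ne hqp (fun h => hne (by
      rw [← h]))
    have hsub := hp2 ⟨q, hqprime⟩ hlt
    have hqs : (⟨q, hqprime⟩ : PrimeSpectrum R) ∈ Module.support R M := by
      rw [Module.support_eq_zeroLocus]
      exact (PrimeSpectrum.mem_zeroLocus _ _).mpr hqann
    rw [Module.mem_support_iff] at hqs
    exact not_subsingleton _ hsub
  obtain ⟨hpprime, x, hx⟩ := (isAssociatedPrime_iff).mp hpAss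
  have hxmem : ∀ r : R, r ∈ p.asIdeal ↔ r • x = 0 := by
    intro r
    rw [hx, Submodule.mem_colon_singleton, Submodule.mem_bot]
  have hx0 : x ≠ 0 := by
    intro h0
    apply p.2.ne_top
    rw [Ideal.eq_top_iff_one, hxmem, h0, smul_zero]
  -- the submodule of elements killed by `p`
  set N : Submodule R M := Submodule.torsionBySet R M (p.asIdeal : Set R) with hN
  have hNmem : ∀ m : M, m ∈ N ↔ ∀ r ∈ p.asIdeal, r • m = 0 := by
    intro m
    rw [hN, Submodule.mem_torsionBySet_iff]
    exact ⟨fun h r hr => h ⟨r, hr⟩, fun h r => h r.1 r.2⟩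
  have hxN : x ∈ N := (hNmem x).mpr (fun r hr => (hxmem r).mp hr)
  have hNbot : N ≠ ⊥ := fun h => hx0 ((Submodule.mem_bot R).mp (h ▸ hxN))
  have hNfg : N.FG := IsNoetherian.noetherian N
  -- Nakayama
  have hnak : ¬ N ≤ Ideal.span {π} • N := by
    intro hle
    apply hNbot
    refine Submodule.eq_bot_of_le_smul_of_le_jacobson_bot (Ideal.span {π}) N hNfg hle ?_
    rw [IsLocalRing.jacobson_eq_maximalIdeal ⊥ bot_ne_top]
    rwa [Ideal.span_singleton_le_iff_mem]
  obtain ⟨y, hyN, hyπ⟩ := Set.not_subset.mp hnak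
  -- `y ∉ π M`
  have hyI : y ∉ Ideal.span {π} • (⊤ : Submodule R M) := by
    intro hy
    obtain ⟨m, rfl⟩ := (hmemI y).mp hy
    apply hyπ
    have hmN : m ∈ N := by
      rw [hNmem]
      intro r hr
      apply hreg
      show π • r • m = π • (0 : M)
      rw [smul_zero, smul_comm]
      exact (hNmem _).mp hyN r hr
    rw [SetLike.mem_coe, Submodule.ideal_span_singleton_smul]
    exact Submodule.smul_mem_pointwise_smul m π N hmN
  -- the quotient
  set Q := M ⧸ (Ideal.span {π} • (⊤ : Submodule R M)) with hQ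
  have hy0 : (Submodule.Quotient.mk y : Q) ≠ 0 := by
    rwa [Ne, Submodule.Quotient.mk_eq_zero]
  obtain ⟨P, hPass, hPle⟩ := exists_le_isAssociatedPrime_of_isNoetherianRing (R := R)
    (Submodule.Quotient.mk y : Q) hy0
  obtain ⟨hPprime, z, hz⟩ := (isAssociatedPrime_iff).mp hPass
  obtain ⟨z, rfl⟩ := Submodule.Quotient.mk_surjective _ z
  have hzmem : ∀ r : R, r ∈ P ↔ r • z ∈ Ideal.span {π} • (⊤ : Submodule R M) := by
    intro r
    rw [hz, Submodule.mem_colon_singleton, Submodule.mem_bot, ← Submodule.Quotient.mk_smul,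
      Submodule.Quotient.mk_eq_zero]
  have hpP : p.asIdeal ≤ P := by
    intro r hr
    apply hPle
    rw [Submodule.mem_colon_singleton, Submodule.mem_bot, ← Submodule.Quotient.mk_smul,
      (hNmem y).mp hyN r hr, Submodule.Quotient.mk_zero]
  have hπP : Ideal.span {π} ≤ P := by
    rw [Ideal.span_singleton_le_iff_mem, hzmem, hmemI]
    exact ⟨z, rfl⟩
  have hPmax : P = maximalIdeal R := hmin ⟨P, hPprime⟩ hpP hπP
  refine ⟨z, ?_, ?_⟩
  · intro hzI
    apply hPprime.ne_top
    rw [Ideal.eq_top_iff_one, hzmem, one_smul]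
    exact hzI
  · intro b hb
    rw [← hPmax, hzmem] at hb
    exact hb

end Groth.Agent.H42.DvrLen
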