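import Groth.Prelude.Def_CohTop
import Mathlib.Algebra.Homology.DerivedCategory.Ext.ExactSequences
import Mathlib.CategoryTheory.Abelian.Injective.Ext

/-!
# Helper library (helper42): cohomology of abelian sheaves on topological spaces

* `Zf X : Opens X ⥤ Ab X`, the free abelian sheaf on an open; `E U G : (Z_U ⟶ G) ≃ G(U)`,
  natural in `G` (`E_comp`) and in `U` (`E_map`).
* `isFlasque_of_injective`.
* `SecRep P U`: `P` represents sections over `U`; `secRepZf`, `secRepConst`.
* `ext_succ_eq_zero` (abstract dimension shifting), `ext_succ_eq_zero_of_isFlasque`.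
-/

set_option autoImplicit false

universe w v' u' u

open CategoryTheory Limits Opposite TopologicalSpace Abelian

namespace Groth.Agent.H42.CohTopLib

section Abstract

variable {𝒞 : Type u'} [Category.{v'} 𝒞] [Abelian 𝒞] [HasExt.{w} 𝒞] [EnoughInjectives 𝒞]

/-- Dimension shifting: if a class `𝒜` of objects is such that for every short exact sequence
`0 → A → I → C → 0` with `A ∈ 𝒜` and `I` injective, one has `C ∈ 𝒜` and every map `P ⟶ C` lifts
to `I`, then `Ext^{n+1}(P, A) = 0` for `A ∈ 𝒜`. -/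
theorem ext_succ_eq_zero (P : 𝒞) (𝒜 : 𝒞 → Prop)
    (h : ∀ S : ShortComplex 𝒞, S.ShortExact → 𝒜 S.X₁ → Injective S.X₂ →
        𝒜 S.X₃ ∧ ∀ g : P ⟶ S.X₃, ∃ g' : P ⟶ S.X₂, g' ≫ S.g = g)
    (n : ℕ) : ∀ (A : 𝒞) (_ : 𝒜 A) (x : Ext P A (n + 1)), x = 0 := by
  induction n with
  | zero =>
    intro A hA x
    let S : ShortComplex 𝒞 :=
      ShortComplex.mk (Injective.ι A) (cokernel.π (Injective.ι A)) (cokernel.condition _)
    have hS : S.ShortExact :=
      { exact := ShortComplex.exact_cokernel (Injective.ι A)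
        mono_f := inferInstanceAs (Mono (Injective.ι A))
        epi_g := inferInstanceAs (Epi (cokernel.π (Injective.ι A))) }
    obtain ⟨-, hlift⟩ := h S hS hA (inferInstanceAs (Injective (Injective.under A)))
    have h0 : x.comp (Ext.mk₀ S.f) (add_zero 1) = 0 :=
      @Ext.eq_zero_of_injective _ _ _ _ _ _ 0 (inferInstanceAs (Injective (Injective.under A))) _
    obtain ⟨y, rfl⟩ := Ext.covariant_sequence_exact₁ P hS x h0 (zero_add 1)
    obtain ⟨g, rfl⟩ := (Ext.mk₀_bijective P S.X₃).2 y
    obtain ⟨g', rfl⟩ := hlift g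
    rw [← Ext.mk₀_comp_mk₀, Ext.comp_assoc_of_second_deg_zero, hS.comp_extClass, Ext.comp_zero]
  | succ n ih =>
    intro A hA x
    let S : ShortComplex 𝒞 :=
      ShortComplex.mk (Injective.ι A) (cokernel.π (Injective.ι A)) (cokernel.condition _)
    have hS : S.ShortExact :=
      { exact := ShortComplex.exact_cokernel (Injective.ι A)
        mono_f := inferInstanceAs (Mono (Injective.ι A))
        epi_g := inferInstanceAs (Epi (cokernel.π (Injective.ι A))) }
    obtain ⟨hC, -⟩ := h S hS hA (inferInstanceAs (Injective (Injective.under A)))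
    have h0 : x.comp (Ext.mk₀ S.f) (add_zero (n + 1 + 1)) = 0 :=
      @Ext.eq_zero_of_injective _ _ _ _ _ _ (n + 1)
        (inferInstanceAs (Injective (Injective.under A))) _
    obtain ⟨y, rfl⟩ := Ext.covariant_sequence_exact₁ P hS x h0 (rfl : n + 1 + 1 = n + 1 + 1)
    rw [ih S.X₃ hC y, Ext.zero_comp]

end Abstract

variable {X : TopCat.{u}}

/-- The free abelian sheaf on an open subset, as a functor. -/
noncomputable abbrev Zf (X : TopCat.{u}) : Opens X ⥤ CohTop.Ab X :=
  yoneda ⋙ (Functor.whiskeringRight _ _ _).obj AddCommGrpCat.free ⋙ presheafToSheaf _ _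

/-- Morphisms from the free abelian sheaf on `U` are sections over `U`. -/
noncomputable def E (U : Opens X) (G : CohTop.Ab X) : ((Zf X).obj U ⟶ G) ≃ G.obj.obj (op U) :=
  ((sheafificationAdjunction (Opens.grothendieckTopology X) AddCommGrpCat.{u}).homEquiv _ G).trans
    ((((AddCommGrpCat.adj.{u}).whiskerRight (Opens X)ᵒᵖ).homEquiv (yoneda.obj U) G.obj).trans
      yonedaEquiv)

lemma E_comp (U : Opens X) {G G' : CohTop.Ab X} (φ : (Zf X).obj U ⟶ G) (ψ : G ⟶ G') :
    E U G' (φ ≫ ψ) = ψ.hom.app (op U) (E U G φ) := by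
  simp only [E, Equiv.trans_apply]
  rw [Adjunction.homEquiv_naturality_right, Adjunction.homEquiv_naturality_right,
    yonedaEquiv_comp]
  rfl

lemma E_map {U V : Opens X} (i : V ⟶ U) (G : CohTop.Ab X) (φ : (Zf X).obj U ⟶ G) :
    E V G ((Zf X).map i ≫ φ) = G.obj.map i.op (E U G φ) := by
  simp only [E, Equiv.trans_apply]
  have h1 : (Zf X).map i = (presheafToSheaf _ _).map
      (((Functor.whiskeringRight _ _ _).obj AddCommGrpCat.free).map (yoneda.map i)) := rfl
  rw [h1, Adjunction.homEquiv_naturality_left, Adjunction.homEquiv_naturality_left,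
    ← yonedaEquiv_naturality]
  rfl

instance mono_Zf_map {U V : Opens X} (i : V ⟶ U) : Mono ((Zf X).map i) := by
  have h1 : Mono (((Functor.whiskeringRight (Opens X)ᵒᵖ _ _).obj AddCommGrpCat.free.{u}).map
      (yoneda.map i)) := by
    have : ∀ W, Mono ((((Functor.whiskeringRight (Opens X)ᵒᵖ _ _).obj AddCommGrpCat.free.{u}).map
        (yoneda.map i)).app W) := by
      intro W
      have : Mono ((yoneda.map i).app W) := by
        rw [mono_iff_injective]
        intro (a : W.unop ⟶ V) (b : W.unop ⟶ V) _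
        exact Subsingleton.elim a b
      exact inferInstanceAs (Mono (AddCommGrpCat.free.map ((yoneda.map i).app W)))
    exact NatTrans.mono_of_mono_app _
  exact inferInstanceAs (Mono ((presheafToSheaf _ _).map
    (((Functor.whiskeringRight (Opens X)ᵒᵖ _ _).obj AddCommGrpCat.free.{u}).map (yoneda.map i))))

/-- An injective abelian sheaf is flasque. -/
theorem isFlasque_of_injective (F : CohTop.Ab X) [Injective F] : TopCat.Sheaf.IsFlasque F := by
  refine ⟨fun {U V} i => ?_⟩
  rw [AddCommGrpCat.epi_iff_surjective]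
  intro s
  let φ := (E V.unop F).symm s
  let ψ := Injective.factorThru φ ((Zf X).map i.unop)
  refine ⟨E U.unop F ψ, ?_⟩
  have h := E_map i.unop F ψ
  rw [Injective.comp_factorThru] at h
  have h2 : E V.unop F φ = s := (E V.unop F).apply_symm_apply s
  rw [← h2, h]
  rfl

/-- `P` represents the functor of sections over `U`. -/
structure SecRep (P : CohTop.Ab X) (U : Opens X) where
  /-- the bijection -/
  e : ∀ G : CohTop.Ab X, (P ⟶ G) ≃ G.obj.obj (op U)
  nat : ∀ {G G' : CohTop.Ab X} (φ : P ⟶ G) (ψ : G ⟶ G'),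
    e G' (φ ≫ ψ) = ψ.hom.app (op U) (e G φ)

/-- The free sheaf on `U` represents sections over `U`. -/
noncomputable def secRepZf (U : Opens X) : SecRep ((Zf X).obj U) U := ⟨E U, E_comp U⟩

/-- The constant sheaf `ℤ`. -/
noncomputable abbrev constZ (X : TopCat.{u}) : CohTop.Ab X :=
  (constantSheaf (Opens.grothendieckTopology X) AddCommGrpCat.{u}).obj
    (AddCommGrpCat.of (ULift ℤ))

/-- The constant sheaf `ℤ` represents global sections. -/
noncomputable def secRepConst (X : TopCat.{u}) : SecRep (constZ X) (⊤ : Opens X) where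
  e G := ((constantSheafAdj (Opens.grothendieckTopology X) AddCommGrpCat.{u}
      (isTerminalTop : IsTerminal (⊤ : Opens X))).homEquiv _ G).trans
    (AddCommGrpCat.uliftZMultiplesAddEquiv _).toEquiv
  nat φ ψ := by
    simp only [Equiv.trans_apply]
    rw [Adjunction.homEquiv_naturality_right]
    rfl

lemma SecRep.exists_lift {P : CohTop.Ab X} {U : Opens X} (r : SecRep P U)
    {S : ShortComplex (CohTop.Ab X)} (hS : S.ShortExact) [TopCat.Sheaf.IsFlasque S.X₁]
    (g : P ⟶ S.X₃) : ∃ g' : P ⟶ S.X₂, g' ≫ S.g = g := by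
  have hepi : Epi (S.g.hom.app (op U)) := TopCat.Sheaf.IsFlasque.epi_of_shortExact hS
  rw [AddCommGrpCat.epi_iff_surjective] at hepi
  obtain ⟨b, hb⟩ := hepi (r.e S.X₃ g)
  refine ⟨(r.e S.X₂).symm b, (r.e S.X₃).injective ?_⟩
  rw [r.nat, Equiv.apply_symm_apply, hb]

theorem ext_succ_eq_zero_of_isFlasque {P : CohTop.Ab X} {U : Opens X} (r : SecRep P U)
    (F : CohTop.Ab X) [hF : TopCat.Sheaf.IsFlasque F] (n : ℕ) (x : Ext P F (n + 1)) : x = 0 := by
  refine ext_succ_eq_zero P (fun G => TopCat.Sheaf.IsFlasque G) ?_ n F hF x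
  intro S hS h₁ h₂
  have : TopCat.Sheaf.IsFlasque S.X₁ := h₁
  have : TopCat.Sheaf.IsFlasque S.X₂ := isFlasque_of_injective S.X₂
  exact ⟨TopCat.Sheaf.IsFlasque.of_shortExact_of_isFlasque₁₂ hS, fun g => r.exists_lift hS g⟩

end Groth.Agent.H42.CohTopLib
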