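import Mathlib

/-!
# `QhBij E F`: the map `Hom_K(E, F) → Hom_D(E, F)` is bijective (helper42, for S14112)
-/

set_option autoImplicit false
universe w v u
open CategoryTheory

namespace Groth.Agent.H42.QH

/-- The canonical map from homotopy classes of maps `E ⟶ F` to morphisms in the derived category
is bijective. -/
def QhBij {C : Type u} [Category.{v} C] [Abelian C] [HasDerivedCategory.{w} C]
    (E F : CochainComplex C ℤ) : Prop :=
  Function.Bijective (fun φ : (HomotopyCategory.quotient C (ComplexShape.up ℤ)).obj E ⟶
      (HomotopyCategory.quotient C (ComplexShape.up ℤ)).obj F =>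
    (DerivedCategory.Qh (C := C)).map φ)

end Groth.Agent.H42.QH
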