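import Mathlib

/-!
# Generizations and primes of stalks (piece (GEN) for helper14, S7889)
-/

set_option autoImplicit false

universe u

open CategoryTheory CategoryTheory.Limits AlgebraicGeometry

namespace Groth.Agent.H42.NN_GEN

theorem exists_generization {X : Scheme.{u}} (x : X) (q : Ideal (X.presheaf.stalk x)) [q.IsPrime] :
    ∃ (x' : X) (h : x' ⤳ x), Nonempty (Localization.AtPrime q ≃+* X.presheaf.stalk x') ∧
      q = (IsLocalRing.maximalIdeal (X.presheaf.stalk x')).comap
        (X.presheaf.stalkSpecializes h).hom := by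
  obtain ⟨_, ⟨U, hU : IsAffineOpen U, rfl⟩, hxU, -⟩ :=
    X.isBasis_affineOpens.exists_subset_of_mem_open (Set.mem_univ x) isOpen_univ
  let algx : Algebra Γ(X, U) (X.presheaf.stalk x) := X.presheaf.algebra_section_stalk ⟨x, hxU⟩
  have hloc : IsLocalization.AtPrime (X.presheaf.stalk x) (hU.primeIdealOf ⟨x, hxU⟩).asIdeal :=
    hU.isLocalization_stalk ⟨x, hxU⟩
  let q₀ : Ideal Γ(X, U) := q.comap (algebraMap Γ(X, U) (X.presheaf.stalk x))
  have hq₀ : q₀.IsPrime := Ideal.comap_isPrime _ _
  let y : PrimeSpectrum Γ(X, U) := ⟨q₀, hq₀⟩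
  let x' : X := hU.fromSpec y
  have hx'U : x' ∈ U := by
    have : x' ∈ Set.range hU.fromSpec := ⟨y, rfl⟩
    rw [hU.range_fromSpec] at this
    exact this
  -- `q₀ ≤ p`
  have hle : y ≤ hU.primeIdealOf ⟨x, hxU⟩ := by
    intro a ha
    have h1 : algebraMap Γ(X, U) (X.presheaf.stalk x) a ∈ q := ha
    have h2 : algebraMap Γ(X, U) (X.presheaf.stalk x) a ∈
        IsLocalRing.maximalIdeal (X.presheaf.stalk x) :=
      IsLocalRing.le_maximalIdeal (Ideal.IsPrime.ne_top inferInstance) h1
    exact (IsLocalization.AtPrime.to_map_mem_maximal_iff (X.presheaf.stalk x)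
      (hU.primeIdealOf ⟨x, hxU⟩).asIdeal a).mp h2
  have hspec : x' ⤳ x := by
    have h1 : y ⤳ hU.primeIdealOf ⟨x, hxU⟩ := (PrimeSpectrum.le_iff_specializes _ _).mp hle
    have h2 := h1.map hU.fromSpec.continuous
    rwa [hU.fromSpec_primeIdealOf ⟨x, hxU⟩] at h2
  let algx' : Algebra Γ(X, U) (X.presheaf.stalk x') :=
    X.presheaf.algebra_section_stalk ⟨x', hx'U⟩
  have hloc' : IsLocalization.AtPrime (X.presheaf.stalk x') q₀ := hU.isLocalization_stalk' y hx'U
  have hloc'' : IsLocalization.AtPrime (Localization.AtPrime q) q₀ :=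
    IsLocalization.isLocalization_isLocalization_atPrime_isLocalization
      (hU.primeIdealOf ⟨x, hxU⟩).asIdeal.primeCompl (Localization.AtPrime q) q
  refine ⟨x', hspec, ⟨(IsLocalization.algEquiv q₀.primeCompl (Localization.AtPrime q)
    (X.presheaf.stalk x')).toRingEquiv⟩, ?_⟩
  -- the final identity of primes
  set σ := (X.presheaf.stalkSpecializes hspec).hom with hσ
  have hcomp : σ.comp (algebraMap Γ(X, U) (X.presheaf.stalk x)) =
      algebraMap Γ(X, U) (X.presheaf.stalk x') := by
    have h := TopCat.Presheaf.germ_stalkSpecializes X.presheaf hxU hspec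
    have h' := congrArg (fun f => f.hom) h
    exact h'
  set q' := (IsLocalRing.maximalIdeal (X.presheaf.stalk x')).comap σ with hq'
  have h1 : q'.comap (algebraMap Γ(X, U) (X.presheaf.stalk x)) = q₀ := by
    rw [hq', Ideal.comap_comap, hcomp]
    exact IsLocalization.AtPrime.under_maximalIdeal (X.presheaf.stalk x') q₀
  have h2 : ∀ J : Ideal (X.presheaf.stalk x),
      (J.comap (algebraMap Γ(X, U) (X.presheaf.stalk x))).map
        (algebraMap Γ(X, U) (X.presheaf.stalk x)) = J :=
    fun J => IsLocalization.map_under (hU.primeIdealOf ⟨x, hxU⟩).asIdeal.primeCompl _ J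
  rw [← h2 q, ← h2 q', h1]

end Groth.Agent.H42.NN_GEN
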