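import Groth.Agent.H24.ModLimIso
import Groth.Agent.H8.LocFreeSections
import Groth.Agent.H8.LocFreeNearFinite
import Groth.Agent.H8.FinType

/-!
# Finite presentation: pullbacks, and kernels of epimorphisms onto locally free modules
(helper42, for helper8's S8913)

* `fp_of_exact_projective` (ring level): in `0 → K → P → G → 0` with `P` f.p. and `G` finite
  projective, `K` is f.p.
* `isFP_pullback`, `isFP_kernel_of_epi_locFree`.
-/

set_option autoImplicit false
set_option linter.style.haveILetI false
universe u
open CategoryTheory CategoryTheory.Limits AlgebraicGeometry TopologicalSpace Opposite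

namespace Groth.Agent.H42.FPKernel

theorem fp_ker_of_projective {R : Type*} [CommRing R] {P G : Type*} [AddCommGroup P]
    [AddCommGroup G] [Module R P] [Module R G] [Module.FinitePresentation R P]
    [Module.Finite R G] [Module.Projective R G] (p : P →ₗ[R] G) (hp : Function.Surjective p) :
    Module.FinitePresentation R (LinearMap.ker p) := by
  obtain ⟨s, hs⟩ := Module.projective_lifting_property p LinearMap.id hp
  have hs' : ∀ g, p (s g) = g := fun g => by
    have := LinearMap.congr_fun hs g
    simpa using this
  let q : P →ₗ[R] LinearMap.ker p :=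
    (LinearMap.id - s ∘ₗ p).codRestrict (LinearMap.ker p) (fun x => by
      simp [LinearMap.mem_ker, hs'])
  have hq : Function.Surjective q := by
    rintro ⟨y, hy⟩
    refine ⟨y, Subtype.ext ?_⟩
    have hy' : p y = 0 := hy
    simp [q, hy']
  have hker : (LinearMap.ker q).FG := by
    have h1 : LinearMap.ker q = LinearMap.range s := by
      ext x
      constructor
      · intro hx
        have h2 : (q x : P) = 0 := by
          rw [LinearMap.mem_ker.mp hx]; rfl
        have h3 : x - s (p x) = 0 := by simpa [q] using h2
        exact ⟨p x, (sub_eq_zero.mp h3).symm⟩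
      · rintro ⟨g, rfl⟩
        rw [LinearMap.mem_ker]
        apply Subtype.ext
        simp [q, hs']
    rw [h1, LinearMap.range_eq_map]
    exact Submodule.FG.map _ Module.Finite.fg_top
  exact Module.finitePresentation_of_surjective q hq hker

theorem fp_of_exact_projective {R : Type*} [CommRing R] {K P G : Type*} [AddCommGroup K]
    [AddCommGroup P] [AddCommGroup G] [Module R K] [Module R P] [Module R G]
    [Module.FinitePresentation R P] [Module.Finite R G] [Module.Projective R G]
    (i : K →ₗ[R] P) (p : P →ₗ[R] G) (hi : Function.Injective i) (hex : Function.Exact i p)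
    (hp : Function.Surjective p) : Module.FinitePresentation R K := by
  haveI := fp_ker_of_projective p hp
  have hrange : LinearMap.range i = LinearMap.ker p := (LinearMap.exact_iff.mp hex).symm
  let e : K ≃ₗ[R] LinearMap.ker p :=
    (LinearEquiv.ofInjective i hi).trans (LinearEquiv.ofEq _ _ hrange)
  exact Module.FinitePresentation.of_equiv e.symm

theorem isFP_pullback {X Y : Scheme.{u}} (f : Y ⟶ X) (F : X.Modules) (hF : CohB1.IsFP F) :
    CohB1.IsFP ((Scheme.Modules.pullback f).obj F) := by
  haveI := hF
  haveI : F.IsQuasicoherent := by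
    obtain ⟨σ, hσ⟩ := SheafOfModules.IsFinitePresentation.exists_quasicoherentData F
    exact σ.isQuasicoherent
  exact Groth.Agent.H24.ModLimIso.isFinitePresentation_pullback f F

theorem isFP_kernel_of_epi_locFree {X : Scheme.{u}} {P G : X.Modules} (hP : CohB1.IsFP P)
    (r : ℕ) (hG : FlatMod.IsFinLocFreeOfRank r G) (π : P ⟶ G) [Epi π] :
    CohB1.IsFP (kernel π) := by
  haveI := hP
  haveI : P.IsQuasicoherent := by
    obtain ⟨σ, hσ⟩ := SheafOfModules.IsFinitePresentation.exists_quasicoherentData P
    exact σ.isQuasicoherent
  have hG' : FlatMod.IsFinLocFree G := fun x => by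
    obtain ⟨U, hx, e⟩ := hG x
    exact ⟨U, r, hx, e⟩
  haveI : G.IsQuasicoherent := Groth.Agent.H8.isQuasicoherent_of_isFinLocFree G hG'
  haveI : (kernel π).IsQuasicoherent := Groth.Agent.H22.QCohLimits.isQuasicoherent_kernel π
  let S : ShortComplex X.Modules := ShortComplex.mk (kernel.ι π) π (kernel.condition π)
  have hSe : S.Exact := ShortComplex.exact_of_f_is_kernel S (kernelIsKernel π)
  haveI : Mono S.f := inferInstanceAs (Mono (kernel.ι π))
  haveI : Epi S.g := inferInstanceAs (Epi π)
  have hS : S.ShortExact := { exact := hSe }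
  haveI : S.X₁.IsQuasicoherent := inferInstanceAs (kernel π).IsQuasicoherent
  refine Groth.Agent.H8.isFinitePresentation_of_forall_affine_finitePresentation _ (fun U => ?_)
  have hsurj : Function.Surjective (Groth.Agent.H8.appₗ π U.1) :=
    Groth.Agent.H22.QCohH1.app_surjective S hS U.2
  have hex : Function.Exact (Groth.Agent.H8.appₗ (kernel.ι π) U.1) (Groth.Agent.H8.appₗ π U.1) :=
    Groth.Agent.H8.appₗ_exact S hSe U.1
  have hinj : Function.Injective (Groth.Agent.H8.appₗ (kernel.ι π) U.1) :=
    Groth.Agent.H8.appₗ_injective_of_mono (kernel.ι π) U.1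
  haveI : Module.FinitePresentation Γ(X, U.1) Γ(P, U.1) :=
    Groth.Agent.H8.finitePresentation_sections_of_isAffineOpen P U.2
  obtain ⟨hGfp, hGproj⟩ :=
    Groth.Agent.H8.finitePresentation_projective_sections_of_isFinLocFree G hG' U.2
  haveI := hGfp
  haveI := hGproj
  haveI : Module.Finite Γ(X, U.1) Γ(G, U.1) := inferInstance
  exact fp_of_exact_projective _ _ hinj hex hsurj

end Groth.Agent.H42.FPKernel
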