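import Groth.Agent.H42.CohTopLib
import Mathlib.Topology.Sheaves.LocallySurjective

/-!
# Helper library (helper42): direct images of abelian sheaves on topological spaces

* `shortExact_map_push_of_flasque`: `f_*` is exact on short exact sequences with flasque kernel.
* `shortExact_map_push_of_isClosedEmbedding`: `f_*` is exact for a closed embedding `f`.
-/

set_option autoImplicit false

universe u

open CategoryTheory Limits Opposite TopologicalSpace Abelian

namespace Groth.Agent.H42.CohTopLib

variable {X Y : TopCat.{u}}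

lemma preservesLimits_push (f : X ⟶ Y) : PreservesLimitsOfSize.{u, u} (CohTop.push f) :=
  (TopCat.Sheaf.pullbackPushforwardAdjunction AddCommGrpCat.{u} f).rightAdjoint_preservesLimits

lemma epi_of_isLocallySurjective {F G : CohTop.Ab Y} (φ : F ⟶ G)
    (h : TopCat.Presheaf.IsLocallySurjective φ.hom) : Epi φ :=
  (TopCat.Sheaf.isLocallySurjective_iff_epi (X := Y) (C := AddCommGrpCat.{u}) φ).1 h

lemma isLocallySurjective_of_epi {F G : CohTop.Ab Y} (φ : F ⟶ G) [h : Epi φ] :
    TopCat.Presheaf.IsLocallySurjective φ.hom :=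
  (TopCat.Sheaf.isLocallySurjective_iff_epi (X := Y) (C := AddCommGrpCat.{u}) φ).2 h

open AlgebraicGeometry in
lemma epi_push_map_of_flasque (f : X ⟶ Y) {S : ShortComplex (CohTop.Ab X)} (hS : S.ShortExact)
    [TopCat.Sheaf.IsFlasque S.X₁] : Epi ((CohTop.push f).map S.g) := by
  apply epi_of_isLocallySurjective
  rw [TopCat.Presheaf.isLocallySurjective_iff]
  intro U t x hx
  have hepi : Epi (S.g.hom.app (op ((Opens.map f).obj U))) :=
    TopCat.Sheaf.IsFlasque.epi_of_shortExact hS
  rw [AddCommGrpCat.epi_iff_surjective] at hepi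
  obtain ⟨s, hs⟩ := hepi t
  refine ⟨U, le_rfl, ⟨s, ?_⟩, hx⟩
  rw [TopCat.Presheaf.restrict_self]
  exact hs

lemma shortExact_map_push_of_flasque (f : X ⟶ Y) {S : ShortComplex (CohTop.Ab X)}
    (hS : S.ShortExact) [TopCat.Sheaf.IsFlasque S.X₁] : (S.map (CohTop.push f)).ShortExact := by
  have := preservesLimits_push f
  have hm : Mono S.f := hS.mono_f
  have : Mono ((CohTop.push f).map S.f) := inferInstance
  exact
    { exact := hS.exact.map_of_mono_of_preservesKernel (CohTop.push f) hS.mono_f inferInstance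
      mono_f := this
      epi_g := epi_push_map_of_flasque f hS }

lemma eq_of_isEmpty_open (G : CohTop.Ab X) (V : Opens X) (hV : (V : Set X) = ∅)
    (s t : G.obj.obj (op V)) : s = t := by
  refine TopCat.Sheaf.eq_of_locally_eq' G (fun i : PEmpty.{u + 1} => i.elim) V (fun i => i.elim)
    ?_ s t (fun i => i.elim)
  intro x hx
  have : x ∈ (V : Set X) := hx
  rw [hV] at this
  exact this.elim

open AlgebraicGeometry in
lemma epi_push_map_of_isClosedEmbedding (f : X ⟶ Y) (hf : Topology.IsClosedEmbedding f)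
    {F G : CohTop.Ab X} (φ : F ⟶ G) [Epi φ] : Epi ((CohTop.push f).map φ) := by
  apply epi_of_isLocallySurjective
  have hφ := isLocallySurjective_of_epi φ
  rw [TopCat.Presheaf.isLocallySurjective_iff] at hφ ⊢
  intro U t y hy
  obtain ⟨t', rfl⟩ : ∃ t' : G.obj.obj (op ((Opens.map f).obj U)), t' = t := ⟨t, rfl⟩
  by_cases hyr : y ∈ Set.range f
  · obtain ⟨x, rfl⟩ := hyr
    obtain ⟨W, hWU, ⟨s, hs⟩, hxW⟩ := hφ ((Opens.map f).obj U) t' x hy
    obtain ⟨W', hW'o, hW'⟩ := hf.isInducing.isOpen_iff.1 W.isOpen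
    let V : Opens Y := ⟨W', hW'o⟩ ⊓ U
    have hVW : (Opens.map f).obj V ≤ W := by
      intro z hz
      have : z ∈ f ⁻¹' W' := hz.1
      rw [hW'] at this
      exact this
    have hVU : (Opens.map f).obj V ≤ (Opens.map f).obj U := fun z hz => hz.2
    refine ⟨V, inf_le_right, ⟨TopCat.Presheaf.restrictOpen s ((Opens.map f).obj V) hVW, ?_⟩,
      ⟨?_, hy⟩⟩
    · have h1 : φ.hom.app (op ((Opens.map f).obj V))
          (TopCat.Presheaf.restrictOpen s ((Opens.map f).obj V) hVW) =
          TopCat.Presheaf.restrictOpen t' ((Opens.map f).obj V) hVU := by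
        rw [TopCat.Presheaf.map_restrict, hs, TopCat.Presheaf.restrict_restrict]
      exact h1
    · have : x ∈ f ⁻¹' W' := by rw [hW']; exact hxW
      exact this
  · let V : Opens Y := ⟨(Set.range f)ᶜ, hf.isClosed_range.isOpen_compl⟩ ⊓ U
    have hV : (((Opens.map f).obj V : Opens X) : Set X) = ∅ := by
      ext z
      simp only [Set.mem_empty_iff_false, iff_false]
      intro hz
      exact hz.1 ⟨z, rfl⟩
    exact ⟨V, inf_le_right, ⟨0, eq_of_isEmpty_open G _ hV _ _⟩, ⟨hyr, hy⟩⟩

lemma shortExact_map_push_of_isClosedEmbedding (f : X ⟶ Y) (hf : Topology.IsClosedEmbedding f)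
    {S : ShortComplex (CohTop.Ab X)} (hS : S.ShortExact) : (S.map (CohTop.push f)).ShortExact := by
  have := preservesLimits_push f
  have hm : Mono S.f := hS.mono_f
  have he : Epi S.g := hS.epi_g
  have : Mono ((CohTop.push f).map S.f) := inferInstance
  exact
    { exact := hS.exact.map_of_mono_of_preservesKernel (CohTop.push f) hS.mono_f inferInstance
      mono_f := this
      epi_g := epi_push_map_of_isClosedEmbedding f hf S.g }

end Groth.Agent.H42.CohTopLib
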