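import Groth.Prelude.Def_CohCmp
import Groth.Agent.H42.CohTopPush
import Groth.Agent.H45.ToSheafColim

/-!
# Helper library (helper42): exactness of restriction to an open and local surjectivity of
epimorphisms of `O_X`-modules
-/

set_option autoImplicit false

universe u

open CategoryTheory Limits Opposite TopologicalSpace AlgebraicGeometry

namespace Groth.Agent.H42.CmpLib

section Restrict

variable {X Y : Scheme.{u}} (f : X ⟶ Y) [IsOpenImmersion f]

/-- Restriction to an open subscheme followed by the underlying presheaf is the underlying presheaf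
followed by reindexing. -/
noncomputable def restrictCompToPresheaf :
    Scheme.Modules.restrictFunctor f ⋙ Scheme.Modules.toPresheaf X ≅
      Scheme.Modules.toPresheaf Y ⋙ (Functor.whiskeringLeft _ _ _).obj f.opensFunctor.op :=
  NatIso.ofComponents (fun M => Iso.refl _) (fun φ => by rfl)

noncomputable instance reflectsFiniteLimits_toPresheaf (X : Scheme.{u}) :
    ReflectsFiniteLimits (Scheme.Modules.toPresheaf X) :=
  ⟨fun _ _ _ => reflectsLimitsOfShape_of_reflectsIsomorphisms⟩

/-- Restriction of modules to an open subscheme is left exact. -/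
theorem preservesFiniteLimits_restrictFunctor :
    PreservesFiniteLimits (Scheme.Modules.restrictFunctor f) := by
  have h1 : PreservesFiniteLimits
      ((Functor.whiskeringLeft _ _ Ab.{u}).obj f.opensFunctor.op) := inferInstance
  have h0 : PreservesFiniteLimits (Scheme.Modules.toPresheaf Y ⋙
      (Functor.whiskeringLeft _ _ Ab.{u}).obj f.opensFunctor.op) := comp_preservesFiniteLimits _ _
  have : PreservesFiniteLimits (Scheme.Modules.restrictFunctor f ⋙ Scheme.Modules.toPresheaf X) :=
    preservesFiniteLimits_of_natIso (restrictCompToPresheaf f).symm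
  exact preservesFiniteLimits_of_reflects_of_preserves (Scheme.Modules.restrictFunctor f)
    (Scheme.Modules.toPresheaf X)

theorem preservesFiniteColimits_restrictFunctor :
    PreservesFiniteColimits (Scheme.Modules.restrictFunctor f) := by
  have : PreservesColimitsOfSize.{0, 0} (Scheme.Modules.restrictFunctor f) :=
    (Scheme.Modules.restrictAdjunction f).leftAdjoint_preservesColimits
  exact PreservesColimitsOfSize.preservesFiniteColimits _

end Restrict

section ToAbOn

variable (X : Scheme.{u}) (U : X.Opens)

theorem preservesFiniteLimits_toSheaf (X : Scheme.{u}) :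
    PreservesFiniteLimits (SheafOfModules.toSheaf.{u} X.ringCatSheaf) := inferInstance

theorem preservesFiniteLimits_toAbOn : PreservesFiniteLimits (CohCmp.toAbOn X U) := by
  have := preservesFiniteLimits_restrictFunctor U.ι
  have h2 := preservesFiniteLimits_toSheaf (U : Scheme.{u})
  exact @comp_preservesFiniteLimits _ _ _ _ _ _ (Scheme.Modules.restrictFunctor U.ι)
    (SheafOfModules.toSheaf.{u} (U : Scheme.{u}).ringCatSheaf) this h2

theorem preservesFiniteColimits_toAbOn : PreservesFiniteColimits (CohCmp.toAbOn X U) := by
  have := preservesFiniteColimits_restrictFunctor U.ι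
  have h2 := Groth.Agent.H45.toSheaf_preservesFiniteColimits (U : Scheme.{u}).ringCatSheaf
  exact @comp_preservesFiniteColimits _ _ _ _ _ _ (Scheme.Modules.restrictFunctor U.ι)
    (SheafOfModules.toSheaf.{u} (U : Scheme.{u}).ringCatSheaf) this h2

/-- Restriction to an open followed by the underlying abelian sheaf is exact. -/
theorem shortExact_map_toAbOn {S : ShortComplex X.Modules} (hS : S.ShortExact) :
    (S.map (CohCmp.toAbOn X U)).ShortExact := by
  have := preservesFiniteLimits_toAbOn X U
  have := preservesFiniteColimits_toAbOn X U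
  exact hS.map_of_exact _

end ToAbOn

section LocSurj

variable {Y : Scheme.{u}}

theorem epi_toSheaf_map {M N : Y.Modules} (φ : M ⟶ N) [h : Epi φ] :
    Epi ((SheafOfModules.toSheaf.{u} Y.ringCatSheaf).map φ) := by
  have := Groth.Agent.H45.toSheaf_preservesFiniteColimits Y.ringCatSheaf
  have h2 : (SheafOfModules.toSheaf.{u} Y.ringCatSheaf).PreservesEpimorphisms := inferInstance
  exact @Functor.map_epi _ _ _ _ (SheafOfModules.toSheaf.{u} Y.ringCatSheaf) h2 M N φ h

/-- An epimorphism of `O_Y`-modules is locally surjective on sections. -/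
theorem exists_local_lift {M N : Y.Modules} (φ : M ⟶ N) [Epi φ]
    (V : Y.Opens) (t : N.presheaf.obj (op V)) (y : Y) (hy : y ∈ V) :
    ∃ (W : Y.Opens) (hWV : W ≤ V), y ∈ W ∧ ∃ s : M.presheaf.obj (op W),
      φ.app W s = N.presheaf.map (homOfLE hWV).op t := by
  have hepi := epi_toSheaf_map φ
  have hloc := Groth.Agent.H42.CohTopLib.isLocallySurjective_of_epi
    ((SheafOfModules.toSheaf.{u} Y.ringCatSheaf).map φ)
  rw [TopCat.Presheaf.isLocallySurjective_iff] at hloc
  obtain ⟨W, hWV, ⟨s, hs⟩, hyW⟩ := hloc V t y hy
  exact ⟨W, hWV, hyW, s, hs⟩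

end LocSurj

end Groth.Agent.H42.CmpLib
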