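import Mathlib

/-!
# Helper library (helper42): the unit of `R⁺F` and classical right derived functors

* `isIso_unit_iff_quasiIso`: for a quasi-isomorphism `i : K ⟶ L` of bounded below complexes with `L`
  degreewise injective, the unit `F(K) ⟶ R⁺F(K)` is an isomorphism iff `F(i)` is a quasi-isomorphism.
* `mapExtend`: `F` commutes with the extension of complexes along an embedding of complex shapes.
* `quasiIso_map_ι_iff`: `F(X[0]) ⟶ F(I)` (ℕ-indexed injective resolution) is a quasi-isomorphism iff
  `F ⟶ R⁰F` is an iso at `X` and `RⁱF X = 0` for `i > 0`.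
-/

set_option autoImplicit false
universe w w' v v' u u'

open CategoryTheory Limits

namespace Groth.Agent.H42.RDBridge

section Unit

variable {A : Type u} [Category.{v} A] [Abelian A] [HasDerivedCategory.{w} A] [EnoughInjectives A]
  {B : Type u'} [Category.{v'} B] [Abelian B] [HasDerivedCategory.{w'} B]
  (F : A ⥤ B) [F.Additive]

theorem isIso_unit_iff_quasiIso (K L : CochainComplex.Plus A) [∀ n, Injective (L.obj.X n)]
    (i : K ⟶ L) [hi : QuasiIso i.hom] :
    IsIso (F.rightDerivedFunctorPlusUnit.app ((HomotopyCategory.Plus.quotient A).obj K)) ↔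
      QuasiIso ((F.mapHomologicalComplex (.up ℤ)).map i.hom) := by
  let q := HomotopyCategory.Plus.quotient A
  have nat := F.rightDerivedFunctorPlusUnit.naturality (q.map i)
  have h1 : IsIso (DerivedCategory.Plus.Qh.map (q.map i)) := by
    apply Localization.inverts DerivedCategory.Plus.Qh (HomotopyCategory.Plus.quasiIso A)
    exact (HomotopyCategory.quotient_map_mem_quasiIso_iff i.hom).2
      (by rwa [HomologicalComplex.mem_quasiIso_iff])
  have h2 : IsIso ((DerivedCategory.Plus.Qh ⋙ F.rightDerivedFunctorPlus).map (q.map i)) := by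
    dsimp; infer_instance
  have h3 : IsIso (F.rightDerivedFunctorPlusUnit.app (q.obj L)) := inferInstance
  have h4 : IsIso (F.rightDerivedFunctorPlusUnit.app (q.obj K)) ↔
      IsIso ((F.mapHomotopyCategoryPlus ⋙ DerivedCategory.Plus.Qh).map (q.map i)) := by
    constructor
    · intro h
      have : IsIso ((F.mapHomotopyCategoryPlus ⋙ DerivedCategory.Plus.Qh).map (q.map i) ≫
          F.rightDerivedFunctorPlusUnit.app (q.obj L)) := by rw [nat]; infer_instance
      exact IsIso.of_isIso_comp_right _ (F.rightDerivedFunctorPlusUnit.app (q.obj L))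
    · intro h
      have : IsIso (F.rightDerivedFunctorPlusUnit.app (q.obj K) ≫
          (DerivedCategory.Plus.Qh ⋙ F.rightDerivedFunctorPlus).map (q.map i)) := by
        rw [← nat]; infer_instance
      exact IsIso.of_isIso_comp_right _
        ((DerivedCategory.Plus.Qh ⋙ F.rightDerivedFunctorPlus).map (q.map i))
  rw [h4, ← isIso_iff_of_reflects_iso _ DerivedCategory.Plus.ι]
  change IsIso (DerivedCategory.Qh.map ((HomotopyCategory.quotient B _).map
    ((F.mapHomologicalComplex _).map i.hom))) ↔ _
  rw [DerivedCategory.isIso_Qh_map_iff, HomotopyCategory.quotient_map_mem_quasiIso_iff,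
    HomologicalComplex.mem_quasiIso_iff]

end Unit

section Extend

variable {ι ι' : Type*} {c : ComplexShape ι} {c' : ComplexShape ι'} (e : c.Embedding c') [e.IsRelIff]
  {A : Type u} [Category.{v} A] [Abelian A] {B : Type u'} [Category.{v'} B] [Abelian B]
  (F : A ⥤ B) [F.Additive]

/-- Auxiliary morphism for `mapExtend`. -/
noncomputable def extRestr (K : HomologicalComplex A c) :
    ((F.mapHomologicalComplex c').obj (K.extend e)).restriction e ⟶
      (F.mapHomologicalComplex c).obj K where
  f i := F.map (K.extendXIso e rfl).hom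
  comm' i j _ := by
    change F.map _ ≫ F.map _ = F.map ((K.extend e).d (e.f i) (e.f j)) ≫ F.map _
    rw [← F.map_comp, ← F.map_comp, K.extend_d_eq e rfl rfl]
    simp

lemma extRestr_hasLift (K : HomologicalComplex A c) : e.HasLift (extRestr e F K) := by
  intro j hj i' hi'
  have hz : IsZero ((K.extend e).X i') := K.isZero_extend_X e i' (fun a => hj.notMem hi' a)
  have h0 : (K.extend e).d i' (e.f j) = 0 := hz.eq_of_src _ _
  change F.map ((K.extend e).d i' (e.f j)) ≫ F.map (K.extendXIso e rfl).hom = 0
  rw [h0, F.map_zero, zero_comp]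

/-- `F` commutes with extension of complexes. -/
noncomputable def mapExtend (K : HomologicalComplex A c) :
    (F.mapHomologicalComplex c').obj (K.extend e) ⟶ ((F.mapHomologicalComplex c).obj K).extend e :=
  e.liftExtend (extRestr e F K) (extRestr_hasLift e F K)

instance isIso_mapExtend (K : HomologicalComplex A c) : IsIso (mapExtend e F K) := by
  have : ∀ i', IsIso ((mapExtend e F K).f i') := by
    intro i'
    by_cases h : ∃ i, e.f i = i'
    · obtain ⟨i, rfl⟩ := h
      rw [mapExtend, e.isIso_liftExtend_f_iff _ _ rfl]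
      change IsIso (F.map _)
      infer_instance
    · have h' : ∀ i, e.f i ≠ i' := by simpa using h
      have hs : IsZero (((F.mapHomologicalComplex c').obj (K.extend e)).X i') :=
        F.map_isZero (K.isZero_extend_X e i' h')
      have ht : IsZero ((((F.mapHomologicalComplex c).obj K).extend e).X i') :=
        HomologicalComplex.isZero_extend_X _ e i' h'
      exact ⟨⟨0, hs.eq_of_src _ _, ht.eq_of_src _ _⟩⟩
  exact HomologicalComplex.Hom.isIso_of_components _

lemma restrictionXIso_inv_rfl (K : HomologicalComplex B c') (i : ι) :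
    (K.restrictionXIso e (rfl : e.f i = e.f i)).inv = 𝟙 (K.X (e.f i)) := rfl

lemma mapExtend_naturality {K L : HomologicalComplex A c} (g : K ⟶ L) :
    (F.mapHomologicalComplex c').map (HomologicalComplex.extendMap g e) ≫ mapExtend e F L =
      mapExtend e F K ≫ HomologicalComplex.extendMap ((F.mapHomologicalComplex c).map g) e := by
  ext i'
  by_cases h : ∃ i, e.f i = i'
  · obtain ⟨i, rfl⟩ := h
    have hL := e.liftExtend_f (extRestr e F L) (extRestr_hasLift e F L) (rfl : e.f i = e.f i)
    have hK := e.liftExtend_f (extRestr e F K) (extRestr_hasLift e F K) (rfl : e.f i = e.f i)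
    change F.map ((HomologicalComplex.extendMap g e).f (e.f i)) ≫ (mapExtend e F L).f (e.f i) =
      (mapExtend e F K).f (e.f i) ≫
        (HomologicalComplex.extendMap ((F.mapHomologicalComplex c).map g) e).f (e.f i)
    rw [restrictionXIso_inv_rfl] at hL hK
    rw [mapExtend, mapExtend, hL, hK, HomologicalComplex.extendMap_f g e rfl,
      HomologicalComplex.extendMap_f _ e rfl]
    have key : ∀ {P Q R S T U : B} (fa : P ⟶ Q) (fg : Q ⟶ R) (bi : R ⟶ S) (bh : S ⟶ R)
        (ci : R ⟶ T) (cKi : Q ⟶ U) (cKh : U ⟶ Q), bi ≫ bh = 𝟙 _ → cKi ≫ cKh = 𝟙 _ →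
        (fa ≫ fg ≫ bi) ≫ 𝟙 _ ≫ bh ≫ ci = (𝟙 _ ≫ fa ≫ cKi) ≫ cKh ≫ fg ≫ ci := by
      intro P Q R S T U fa fg bi bh ci cKi cKh h₁ h₂
      simp only [Category.assoc, Category.id_comp, reassoc_of% h₁, reassoc_of% h₂]
    rw [Functor.map_comp, Functor.map_comp]
    exact key _ _ _ _ _ _ _
      (by change F.map (L.extendXIso e rfl).inv ≫ F.map (L.extendXIso e rfl).hom = _
          rw [← F.map_comp, Iso.inv_hom_id, F.map_id]) (Iso.inv_hom_id _)
  · have h' : ∀ i, e.f i ≠ i' := by simpa using h
    exact (HomologicalComplex.isZero_extend_X _ e i' h').eq_of_tgt _ _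

lemma quasiIso_map_extendMap_iff {K L : HomologicalComplex A c} (g : K ⟶ L) :
    QuasiIso ((F.mapHomologicalComplex c').map (HomologicalComplex.extendMap g e)) ↔
      QuasiIso ((F.mapHomologicalComplex c).map g) := by
  rw [← HomologicalComplex.quasiIso_extendMap_iff ((F.mapHomologicalComplex c).map g) e]
  let a : (F.mapHomologicalComplex c').obj (K.extend e) ≅
      ((F.mapHomologicalComplex c).obj K).extend e := asIso (mapExtend e F K)
  let b : (F.mapHomologicalComplex c').obj (L.extend e) ≅
      ((F.mapHomologicalComplex c).obj L).extend e := asIso (mapExtend e F L)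
  exact quasiIso_iff_of_arrow_mk_iso _ _
    (Arrow.isoMk a b (mapExtend_naturality e F g).symm)

end Extend

section Classical

variable {A : Type u} [Category.{v} A] [Abelian A] [HasInjectiveResolutions A]
  {B : Type u'} [Category.{v'} B] [Abelian B]
  (F : A ⥤ B) [F.Additive] {X : A} (I : InjectiveResolution X)

lemma quasiIso_map_ι'_iff :
    QuasiIso ((F.mapHomologicalComplex (.up ℤ)).map I.ι') ↔
      QuasiIso ((F.mapHomologicalComplex (.up ℕ)).map I.ι) := by
  rw [← quasiIso_map_extendMap_iff ComplexShape.embeddingUpNat F I.ι]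
  have h2 : (F.mapHomologicalComplex (.up ℤ)).map I.ι' =
      (F.mapHomologicalComplex (.up ℤ)).map
        (HomologicalComplex.extendSingleIso ComplexShape.embeddingUpNat X 0 0 (by simp)).inv ≫
      (F.mapHomologicalComplex (.up ℤ)).map
        (HomologicalComplex.extendMap I.ι ComplexShape.embeddingUpNat) := by
    rw [← Functor.map_comp]; rfl
  have h3 : IsIso ((F.mapHomologicalComplex (.up ℤ)).map
      (HomologicalComplex.extendSingleIso ComplexShape.embeddingUpNat X 0 0 (by simp)).inv) :=
    inferInstance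
  have h4 : QuasiIso ((F.mapHomologicalComplex (.up ℤ)).map
      (HomologicalComplex.extendSingleIso ComplexShape.embeddingUpNat X 0 0 (by simp)).inv) :=
    quasiIso_of_isIso _
  rw [h2]
  exact quasiIso_iff_comp_left (hφ := h4) _ _

lemma isIso_homologyMap_zero_iff :
    IsIso (HomologicalComplex.homologyMap ((F.mapHomologicalComplex (.up ℕ)).map I.ι) 0) ↔
      IsIso (F.toRightDerivedZero.app X) := by
  let L := (F.mapHomologicalComplex (.up ℕ)).obj ((CochainComplex.single₀ A).obj X)
  let M := (F.mapHomologicalComplex (.up ℕ)).obj I.cocomplex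
  let φ : L ⟶ M := (F.mapHomologicalComplex (.up ℕ)).map I.ι
  have e1 : L.homologyπ 0 ≫ HomologicalComplex.homologyMap φ 0 =
      HomologicalComplex.cyclesMap φ 0 ≫ M.homologyπ 0 :=
    HomologicalComplex.homologyπ_naturality φ 0
  have hd : L.d 0 1 = 0 := by
    change F.map (((CochainComplex.single₀ A).obj X).d 0 1) = 0
    rw [HomologicalComplex.single_obj_d, F.map_zero]
  have hi : IsIso (L.iCycles 0) := L.isIso_iCycles 0 1 (by simp) hd
  obtain ⟨t, ht, htiso⟩ : ∃ t : L.X 0 ⟶ M.cycles 0, t ≫ M.iCycles 0 = φ.f 0 ∧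
      (IsIso t ↔ IsIso (I.toRightDerivedZero' F)) :=
    ⟨I.toRightDerivedZero' F, I.toRightDerivedZero'_comp_iCycles F, Iff.rfl⟩
  have e2 : HomologicalComplex.cyclesMap φ 0 = L.iCycles 0 ≫ t := by
    rw [← cancel_mono (M.iCycles 0), HomologicalComplex.cyclesMap_i, Category.assoc, ht]
  have e3 : IsIso (HomologicalComplex.homologyMap φ 0) ↔ IsIso (HomologicalComplex.cyclesMap φ 0) := by
    constructor
    · intro h
      have : IsIso (HomologicalComplex.cyclesMap φ 0 ≫ M.homologyπ 0) := by
        rw [← e1]; infer_instance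
      exact IsIso.of_isIso_comp_right _ (M.homologyπ 0)
    · intro h
      have : IsIso (L.homologyπ 0 ≫ HomologicalComplex.homologyMap φ 0) := by
        rw [e1]; infer_instance
      exact IsIso.of_isIso_comp_left (L.homologyπ 0) _
  have e4 : IsIso (HomologicalComplex.cyclesMap φ 0) ↔ IsIso (I.toRightDerivedZero' F) := by
    rw [e2, ← htiso]
    exact isIso_comp_left_iff _ _
  change IsIso (HomologicalComplex.homologyMap φ 0) ↔ _
  rw [e3, e4, I.toRightDerivedZero_eq F]
  exact (isIso_comp_right_iff _
    ((CochainComplex.isoHomologyπ₀ _ ≪≫ (I.isoRightDerivedObj F 0).symm).hom)).symm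

lemma isIso_homologyMap_succ_iff (n : ℕ) :
    IsIso (HomologicalComplex.homologyMap ((F.mapHomologicalComplex (.up ℕ)).map I.ι) (n + 1)) ↔
      IsZero ((F.rightDerived (n + 1)).obj X) := by
  let L := (F.mapHomologicalComplex (.up ℕ)).obj ((CochainComplex.single₀ A).obj X)
  let M := (F.mapHomologicalComplex (.up ℕ)).obj I.cocomplex
  have hz : IsZero (L.X (n + 1)) :=
    F.map_isZero (HomologicalComplex.isZero_single_obj_X (.up ℕ) 0 X (n + 1) (by simp))
  have hL : IsZero (L.homology (n + 1)) :=
    (L.exactAt_iff_isZero_homology (n + 1)).1 (ShortComplex.exact_of_isZero_X₂ _ hz)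
  rw [(I.isoRightDerivedObj F (n + 1)).isZero_iff]
  change _ ↔ IsZero (M.homology (n + 1))
  constructor
  · intro h
    exact IsZero.of_iso hL (asIso (HomologicalComplex.homologyMap
      ((F.mapHomologicalComplex (.up ℕ)).map I.ι) (n + 1))).symm
  · intro h
    exact ⟨⟨0, hL.eq_of_src _ _, h.eq_of_src _ _⟩⟩

theorem quasiIso_map_ι_iff :
    QuasiIso ((F.mapHomologicalComplex (.up ℕ)).map I.ι) ↔
      (IsIso (F.toRightDerivedZero.app X) ∧
        ∀ i : ℕ, 0 < i → IsZero ((F.rightDerived i).obj X)) := by
  rw [quasiIso_iff]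
  simp only [quasiIsoAt_iff_isIso_homologyMap]
  constructor
  · intro h
    refine ⟨(isIso_homologyMap_zero_iff F I).1 (h 0), fun i hi => ?_⟩
    obtain ⟨n, rfl⟩ := Nat.exists_eq_succ_of_ne_zero hi.ne'
    exact (isIso_homologyMap_succ_iff F I n).1 (h (n + 1))
  · rintro ⟨h0, hpos⟩ i
    cases i with
    | zero => exact (isIso_homologyMap_zero_iff F I).2 h0
    | succ n => exact (isIso_homologyMap_succ_iff F I n).2 (hpos (n + 1) (Nat.succ_pos n))

end Classical

section Main

variable {A : Type u} [Category.{v} A] [Abelian A] [HasDerivedCategory.{w} A] [EnoughInjectives A]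
  {B : Type u'} [Category.{v'} B] [Abelian B] [HasDerivedCategory.{w'} B]
  (F : A ⥤ B) [F.Additive]

/-- `X[0]` as a bounded below complex. -/
noncomputable def sgObj (X : A) : CochainComplex.Plus A :=
  ⟨(CochainComplex.singleFunctor A 0).obj X, ⟨0, inferInstance⟩⟩

lemma quotient_sgObj (X : A) : (HomotopyCategory.Plus.quotient A).obj (sgObj X) =
    (HomotopyCategory.Plus.singleFunctor A 0).obj X := rfl

/-- The unit `F(X)[0] ⟶ R⁺F(X[0])` is an isomorphism iff `X` is right `F`-acyclic in the classical
sense and `F X ≅ R⁰F X`. -/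
theorem isIso_unit_single_iff (X : A) :
    IsIso (F.rightDerivedFunctorPlusUnit.app ((HomotopyCategory.Plus.singleFunctor A 0).obj X)) ↔
      (IsIso (F.toRightDerivedZero.app X) ∧
        ∀ i : ℕ, 0 < i → IsZero ((F.rightDerived i).obj X)) := by
  let I := injectiveResolution X
  let Jp : CochainComplex.Plus A := ⟨I.cochainComplex, ⟨0, inferInstance⟩⟩
  let j : sgObj X ⟶ Jp := ObjectProperty.homMk I.ι'
  have : ∀ n, Injective (Jp.obj.X n) := fun n => inferInstanceAs (Injective (I.cochainComplex.X n))
  have : QuasiIso j.hom := inferInstanceAs (QuasiIso I.ι')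
  rw [← quotient_sgObj, isIso_unit_iff_quasiIso F (sgObj X) Jp j]
  change QuasiIso ((F.mapHomologicalComplex _).map I.ι') ↔ _
  rw [quasiIso_map_ι'_iff, quasiIso_map_ι_iff]

end Main

end Groth.Agent.H42.RDBridge
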