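import Mathlib

/-!
# Helper library (helper42): the right derived functor on `D⁺` is triangulated

`F.rightDerivedFunctorPlus` (Mathlib) is only *defined* in Mathlib.  Here we show

* `Ei C : K⁺(Inj C) ⥤ D⁺(C)` is a triangulated equivalence;
* `RFIso F : (E C).inverse ⋙ G F ≅ F.rightDerivedFunctorPlus` where
  `G F = K⁺(Inj C) ⥤ K⁺(C) ⥤ K⁺(D) ⥤ D⁺(D)`;
* `commShift F`, `isTriangulated F` : `F.rightDerivedFunctorPlus` is a triangulated functor;
* `exists_distinguished` : image under `RF` of a distinguished triangle;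
* `exists_distTriang_of_shortExact` : a short exact sequence of bounded below complexes gives a
  distinguished triangle in `D⁺(C)`.
-/

set_option autoImplicit false
universe w w' v v' u u'

open CategoryTheory Limits Pretriangulated

namespace Groth.Agent.H42.RDPlus

section Equivalence

variable (C : Type u) [Category.{v} C] [Abelian C]

/-- The bounded below homotopy category of injective objects. -/
abbrev KInj := HomotopyCategory.Plus (InjectiveObject C)

/-- The inclusion `K⁺(Inj C) ⥤ K⁺(C)`. -/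
noncomputable abbrev iPlus : KInj C ⥤ HomotopyCategory.Plus C :=
  (InjectiveObject.ι C).mapHomotopyCategoryPlus

variable [HasDerivedCategory.{w} C]

/-- The functor `K⁺(Inj C) ⥤ D⁺(C)`. -/
noncomputable def Ei : KInj C ⥤ DerivedCategory.Plus C := iPlus C ⋙ DerivedCategory.Plus.Qh

noncomputable instance : (Ei C).CommShift ℤ := by dsimp only [Ei]; infer_instance
instance : (Ei C).IsTriangulated := by dsimp only [Ei]; infer_instance

lemma Ei_map_bijective (X Y : KInj C) :
    Function.Bijective ((Ei C).map : (X ⟶ Y) → ((Ei C).obj X ⟶ (Ei C).obj Y)) := by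
  obtain ⟨K, rfl⟩ := HomotopyCategory.Plus.quotient_obj_surjective Y
  have h1 := DerivedCategory.Plus.Qh_map_bijective_of_isKInjective ((iPlus C).obj X)
    ((iPlus C).obj ((HomotopyCategory.Plus.quotient _).obj K))
    (inferInstanceAs (CochainComplex.IsKInjective
      (((InjectiveObject.ι C).mapHomologicalComplex (.up ℤ)).obj K.obj)))
  have h2 : Function.Bijective
      ((iPlus C).map : (X ⟶ (HomotopyCategory.Plus.quotient _).obj K) → _) :=
    ⟨(iPlus C).map_injective, (iPlus C).map_surjective⟩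
  exact h1.comp h2

instance : (Ei C).Full := ⟨fun {X Y} f => (Ei_map_bijective C X Y).2 f⟩
instance : (Ei C).Faithful := ⟨fun {X Y} _ _ h => (Ei_map_bijective C X Y).1 h⟩

variable [EnoughInjectives C]

instance : (Ei C).EssSurj := by dsimp only [Ei]; infer_instance
instance : (Ei C).IsEquivalence where

/-- The equivalence `K⁺(Inj C) ≌ D⁺(C)`. -/
noncomputable def E : KInj C ≌ DerivedCategory.Plus C := (Ei C).asEquivalence

noncomputable instance : (E C).functor.CommShift ℤ := inferInstanceAs ((Ei C).CommShift ℤ)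
instance : (E C).functor.IsTriangulated := inferInstanceAs ((Ei C).IsTriangulated)
noncomputable instance : (E C).inverse.CommShift ℤ := (E C).commShiftInverse ℤ
instance : (E C).CommShift ℤ := (E C).commShift_of_functor ℤ
instance : (E C).IsTriangulated := Equivalence.IsTriangulated.mk' _ inferInstance

end Equivalence

section RF

variable {C : Type u} [Category.{v} C] [Abelian C] [HasDerivedCategory.{w} C]
variable {D : Type u'} [Category.{v'} D] [Abelian D] [HasDerivedCategory.{w'} D]
variable (F : C ⥤ D) [F.Additive]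

/-- `K⁺(Inj C) ⥤ K⁺(C) ⥤ K⁺(D) ⥤ D⁺(D)`. -/
noncomputable def G : KInj C ⥤ DerivedCategory.Plus D :=
  iPlus C ⋙ F.mapHomotopyCategoryPlus ⋙ DerivedCategory.Plus.Qh

noncomputable instance : (G F).CommShift ℤ := by dsimp only [G]; infer_instance
instance : (G F).IsTriangulated := by dsimp only [G]; infer_instance

variable [EnoughInjectives C]

instance : IsIso (Functor.whiskerLeft (iPlus C) F.rightDerivedFunctorPlusUnit) := by
  rw [NatTrans.isIso_iff_isIso_app]
  intro X
  dsimp
  infer_instance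

/-- The unit isomorphism on `K⁺(Inj C)` (auxiliary form). -/
noncomputable def u₀ : iPlus C ⋙ F.mapHomotopyCategoryPlus ⋙ DerivedCategory.Plus.Qh ≅
    iPlus C ⋙ DerivedCategory.Plus.Qh ⋙ F.rightDerivedFunctorPlus :=
  asIso (Functor.whiskerLeft (iPlus C) F.rightDerivedFunctorPlusUnit)

/-- The unit isomorphism on `K⁺(Inj C)`. -/
noncomputable def u : G F ≅ Ei C ⋙ F.rightDerivedFunctorPlus :=
  u₀ F ≪≫ (Functor.associator _ _ _).symm

lemma u_hom_app (X : KInj C) :
    (u F).hom.app X = F.rightDerivedFunctorPlusUnit.app ((iPlus C).obj X) := by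
  change _ ≫ 𝟙 _ = _
  exact Category.comp_id _

/-- `RF` is computed by injective resolutions. -/
noncomputable def RFIso : (E C).inverse ⋙ G F ≅ F.rightDerivedFunctorPlus :=
  Functor.isoWhiskerLeft (E C).inverse (u F) ≪≫ (Functor.associator _ _ _).symm ≪≫
    Functor.isoWhiskerRight (E C).counitIso _ ≪≫ Functor.leftUnitor _

/-- The commutation of `F.rightDerivedFunctorPlus` with shifts (by transport of structure). -/
@[instance_reducible]
noncomputable def commShift : F.rightDerivedFunctorPlus.CommShift ℤ :=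
  Functor.CommShift.ofIso (RFIso F) ℤ

lemma commShift_RFIso : letI := commShift F; NatTrans.CommShift (RFIso F).hom ℤ :=
  Functor.CommShift.ofIso_compatibility (RFIso F) ℤ

lemma isTriangulated : letI := commShift F; F.rightDerivedFunctorPlus.IsTriangulated := by
  let _ := commShift F
  have := commShift_RFIso F
  exact Functor.isTriangulated_of_iso (RFIso F)

/-- The image by `RF` of a distinguished triangle can be completed in a distinguished triangle. -/
theorem exists_distinguished (T : Triangle (DerivedCategory.Plus C))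
    (hT : T ∈ distTriang (DerivedCategory.Plus C)) :
    ∃ h : F.rightDerivedFunctorPlus.obj T.obj₃ ⟶
        (F.rightDerivedFunctorPlus.obj T.obj₁)⟦(1 : ℤ)⟧,
      Triangle.mk (F.rightDerivedFunctorPlus.map T.mor₁)
        (F.rightDerivedFunctorPlus.map T.mor₂) h ∈ distTriang (DerivedCategory.Plus D) := by
  let _ := commShift F
  have := isTriangulated F
  exact ⟨_, F.rightDerivedFunctorPlus.map_distinguished T hT⟩

end RF

section SES

/-- Lifting a distinguished triangle along a fully faithful triangulated functor. -/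
theorem exists_distTriang_of_fullyFaithful {P₀ C₀ : Type*} [Category P₀] [Category C₀]
    [HasZeroObject P₀] [HasZeroObject C₀] [HasShift P₀ ℤ] [HasShift C₀ ℤ]
    [Preadditive P₀] [Preadditive C₀] [∀ n : ℤ, (shiftFunctor P₀ n).Additive]
    [∀ n : ℤ, (shiftFunctor C₀ n).Additive] [Pretriangulated P₀] [Pretriangulated C₀]
    (ι : P₀ ⥤ C₀) [ι.CommShift ℤ] [ι.IsTriangulated] [ι.Full] [ι.Faithful]
    {X₁ X₂ X₃ : P₀} (f : X₁ ⟶ X₂) (g : X₂ ⟶ X₃) (T₀ : Triangle C₀) (hT₀ : T₀ ∈ distTriang C₀)
    (a₁ : ι.obj X₁ ≅ T₀.obj₁) (a₂ : ι.obj X₂ ≅ T₀.obj₂) (a₃ : ι.obj X₃ ≅ T₀.obj₃)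
    (c₁ : ι.map f ≫ a₂.hom = a₁.hom ≫ T₀.mor₁) (c₂ : ι.map g ≫ a₃.hom = a₂.hom ≫ T₀.mor₂) :
    ∃ h : X₃ ⟶ X₁⟦(1 : ℤ)⟧, Triangle.mk f g h ∈ distTriang P₀ := by
  let h₀ : ι.obj X₃ ⟶ (ι.obj X₁)⟦(1 : ℤ)⟧ := a₃.hom ≫ T₀.mor₃ ≫ a₁.inv⟦(1 : ℤ)⟧'
  refine ⟨ι.preimage (h₀ ≫ (ι.commShiftIso (1 : ℤ)).inv.app X₁), ?_⟩
  rw [← ι.map_distinguished_iff]
  refine isomorphic_distinguished _ hT₀ _ (Triangle.isoMk _ _ a₁ a₂ a₃ c₁ c₂ ?_)
  change (ι.map (ι.preimage (h₀ ≫ (ι.commShiftIso (1 : ℤ)).inv.app X₁)) ≫
    (ι.commShiftIso (1 : ℤ)).hom.app X₁) ≫ a₁.hom⟦(1 : ℤ)⟧' = a₃.hom ≫ T₀.mor₃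
  rw [Functor.map_preimage]
  simp [h₀]

variable {C : Type u} [Category.{v} C] [Abelian C] [HasDerivedCategory.{w} C]

/-- A short exact sequence of bounded below complexes gives a distinguished triangle in `D⁺`. -/
theorem exists_distTriang_of_shortExact {X₁ X₂ X₃ : CochainComplex.Plus C}
    (f : X₁ ⟶ X₂) (g : X₂ ⟶ X₃) (w : f.hom ≫ g.hom = 0)
    (hS : (ShortComplex.mk f.hom g.hom w).ShortExact) :
    ∃ h : (DerivedCategory.Plus.Q (C := C)).obj X₃ ⟶
        ((DerivedCategory.Plus.Q (C := C)).obj X₁)⟦(1 : ℤ)⟧,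
      Triangle.mk ((DerivedCategory.Plus.Q (C := C)).map f)
        ((DerivedCategory.Plus.Q (C := C)).map g) h ∈ distTriang (DerivedCategory.Plus C) :=
  exists_distTriang_of_fullyFaithful (DerivedCategory.Plus.ι (C := C)) _ _
    (DerivedCategory.triangleOfSES hS) (DerivedCategory.triangleOfSES_distinguished hS)
    ((DerivedCategory.quotientCompQhIso C).app X₁.obj)
    ((DerivedCategory.quotientCompQhIso C).app X₂.obj)
    ((DerivedCategory.quotientCompQhIso C).app X₃.obj)
    ((DerivedCategory.quotientCompQhIso C).hom.naturality f.hom)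
    ((DerivedCategory.quotientCompQhIso C).hom.naturality g.hom)

end SES

end Groth.Agent.H42.RDPlus
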