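import Groth.Agent.H42.CohTopDirImB

/-!
# Helper library (helper42): higher direct images as sheafified cohomology presheaves
-/

set_option autoImplicit false

universe u

open CategoryTheory Limits Opposite TopologicalSpace Abelian

namespace Groth.Agent.H42.CohTopLib

variable {X : TopCat.{u}}

section DirectImage

variable {Y : TopCat.{u}} (f : X ⟶ Y) {F : CohTop.Ab X} (R : InjectiveResolution F) (n : ℕ)

/-- Three consecutive terms of `f_*` of the resolution. -/
noncomputable abbrev SY : ShortComplex (CohTop.Ab Y) :=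
  (R.cocomplex.sc' n (n + 1) (n + 2)).map (CohTop.push f)

/-- The same, as presheaves. -/
noncomputable abbrev SP : ShortComplex ((Opens Y)ᵒᵖ ⥤ AddCommGrpCat.{u}) :=
  (SY f R n).map (sheafToPresheaf (Opens.grothendieckTopology Y) AddCommGrpCat.{u})

/-- The presheaf `V ↦ Ext(Z_{f⁻¹V}, F)`. -/
noncomputable abbrev QP (k : ℕ) : (Opens Y)ᵒᵖ ⥤ AddCommGrpCat.{u} :=
  (Opens.map f).op ⋙ Sheaf.cohomologyPresheaf.{u} F k

/-- The sections of the homology presheaf. -/
noncomputable def isoV (V : (Opens Y)ᵒᵖ) :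
    (SP f R n).homology.obj V ≅ (QP f (n + 1) (F := F)).obj V :=
  ((SP f R n).mapHomologyIso ((evaluation _ _).obj V)).symm ≪≫
    ΦW R n ((Opens.map f).obj V.unop)

lemma isoV_naturality {V V' : (Opens Y)ᵒᵖ} (r : V ⟶ V') :
    (SP f R n).homology.map r ≫ (isoV f R n V').hom =
      (isoV f R n V).hom ≫ (QP f (n + 1) (F := F)).map r := by
  let τ := (evaluation (Opens Y)ᵒᵖ AddCommGrpCat.{u}).map r
  let a := (SP f R n).mapHomologyIso ((evaluation _ _).obj V)
  let a' := (SP f R n).mapHomologyIso ((evaluation _ _).obj V')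
  let m := ShortComplex.homologyMap ((SP f R n).mapNatTrans τ)
  let Φ : ((SP f R n).map ((evaluation _ _).obj V)).homology ⟶ (QP f (n + 1) (F := F)).obj V :=
    (ΦW R n ((Opens.map f).obj V.unop)).hom
  let Φ' : ((SP f R n).map ((evaluation _ _).obj V')).homology ⟶
      (QP f (n + 1) (F := F)).obj V' := (ΦW R n ((Opens.map f).obj V'.unop)).hom
  have h' : (SP f R n).homology.map r = a.inv ≫ m ≫ a'.hom :=
    NatTrans.app_homology τ (SP f R n)
  have hn : m ≫ Φ' = Φ ≫ (QP f (n + 1) (F := F)).map r :=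
    ΦW_naturality R n ((Opens.map f).map r.unop)
  have e1 : (isoV f R n V').hom = a'.inv ≫ Φ' := rfl
  have e2 : (isoV f R n V).hom = a.inv ≫ Φ := rfl
  rw [e1, e2, h']
  simp only [Category.assoc, Iso.hom_inv_id_assoc]
  rw [hn]

/-- The homology presheaf is `V ↦ Ext(Z_{f⁻¹V}, F)`. -/
noncomputable def isoP : (SP f R n).homology ≅ QP f (n + 1) (F := F) :=
  NatIso.ofComponents (isoV f R n) (fun r => isoV_naturality f R n r)

end DirectImage


section Assembly

variable {Y : TopCat.{u}} (f : X ⟶ Y) {F : CohTop.Ab X} (R : InjectiveResolution F) (n : ℕ)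

/-- The homology sheaf is the sheafification of the homology presheaf. -/
noncomputable def isoSheafify : (SY f R n).homology ≅
    (presheafToSheaf (Opens.grothendieckTopology Y) AddCommGrpCat.{u}).obj (SP f R n).homology :=
  let a := presheafToSheaf (Opens.grothendieckTopology Y) AddCommGrpCat.{u}
  let s2p := sheafToPresheaf (Opens.grothendieckTopology Y) AddCommGrpCat.{u}
  let e : s2p ⋙ a ≅ 𝟭 _ :=
    asIso (sheafificationAdjunction (Opens.grothendieckTopology Y) AddCommGrpCat.{u}).counit
  let i1 : (SY f R n).map (s2p ⋙ a) ≅ (SY f R n).map (𝟭 _) := (SY f R n).mapNatIso e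
  let i2 : ((SP f R n).map a).homology ≅ (SY f R n).homology := ShortComplex.homologyMapIso i1
  i2.symm ≪≫ (SP f R n).mapHomologyIso a

include R in
theorem nonempty_Rpush_succ_iso :
    Nonempty ((CohTop.Rpush f (n + 1)).obj F ≅
      (presheafToSheaf (Opens.grothendieckTopology Y) AddCommGrpCat.{u}).obj
        (QP f (n + 1) (F := F))) := by
  let K := ((CohTop.push f).mapHomologicalComplex (ComplexShape.up ℕ)).obj R.cocomplex
  let i0 : (CohTop.Rpush f (n + 1)).obj F ≅ K.homology (n + 1) :=
    R.isoRightDerivedObj (CohTop.push f) (n + 1)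
  let i1 : K.homology (n + 1) ≅ (SY f R n).homology :=
    ShortComplex.homologyMapIso (K.isoSc' n (n + 1) (n + 2) (by simp) (by simp))
  exact ⟨i0 ≪≫ i1 ≪≫ isoSheafify f R n ≪≫
    (presheafToSheaf (Opens.grothendieckTopology Y) AddCommGrpCat.{u}).mapIso (isoP f R n)⟩

end Assembly

end Groth.Agent.H42.CohTopLib
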