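import Groth.Agent.S0015
import Groth.Agent.H45.AffineOpenVanishing
import Groth.Agent.H45.MVVanish
import Groth.Agent.H42.CohTopDirIm

/-!
# Helper library (helper42): uniform vanishing of cohomology on preimages of basic opens, for a
quasi-compact quasi-separated morphism; sheafification of a presheaf vanishing on a basis.
-/

set_option autoImplicit false
universe u
open CategoryTheory CategoryTheory.Limits AlgebraicGeometry TopologicalSpace Opposite

namespace Groth.Agent.H42.QcqsPush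

section Basis

/-- A presheaf of abelian groups on a space which vanishes on a basis has zero sheafification. -/
theorem isZero_sheafify_of_basis {Y : TopCat.{u}} (P : (Opens Y)ᵒᵖ ⥤ AddCommGrpCat.{u})
    (B : Set (Opens Y)) (hB : Opens.IsBasis B) (h : ∀ V ∈ B, Subsingleton (P.obj (op V))) :
    IsZero ((presheafToSheaf (Opens.grothendieckTopology Y) AddCommGrpCat.{u}).obj P) := by
  let adj := sheafificationAdjunction (Opens.grothendieckTopology Y) AddCommGrpCat.{u}
  set T := (presheafToSheaf (Opens.grothendieckTopology Y) AddCommGrpCat.{u}).obj P with hT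
  have key : ∀ φ : P ⟶ T.obj, φ = 0 := by
    intro φ
    apply NatTrans.ext
    funext V
    induction V using Opposite.rec with
    | op V =>
      apply AddCommGrpCat.hom_ext
      ext s
      refine TopCat.Sheaf.eq_of_locally_eq' T (fun W : {W : Opens Y // W ∈ B ∧ W ≤ V} => W.1) V
        (fun W => homOfLE W.2.2) ?_ _ _ ?_
      · intro x hx
        obtain ⟨W, hWB, hxW, hWV⟩ := Opens.isBasis_iff_nbhd.1 hB hx
        exact Opens.mem_iSup.2 ⟨⟨W, hWB, hWV⟩, hxW⟩
      · intro W
        have hnat := φ.naturality (homOfLE W.2.2).op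
        have h1 : T.obj.map (homOfLE W.2.2).op ((φ.app (op V)) s) =
            (φ.app (op W.1)) (P.map (homOfLE W.2.2).op s) := by
          change (φ.app (op V) ≫ T.obj.map (homOfLE W.2.2).op) s = _
          rw [← hnat]
          rfl
        have := h W.1 W.2.1
        have h2 : P.map (homOfLE W.2.2).op s = 0 := Subsingleton.elim _ _
        rw [h1, h2, map_zero]
        exact (map_zero _).symm
  rw [IsZero.iff_id_eq_zero]
  apply (adj.homEquiv P T).injective
  rw [key (adj.homEquiv P T (𝟙 T)), key (adj.homEquiv P T 0)]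

end Basis

section Uniform

variable {X S : Scheme.{u}} (f : X ⟶ S)

/-- Induction over the quasi-compact opens of a quasi-compact quasi-separated open subscheme. -/
theorem induction_in_open (X₀ : X.Opens) [CompactSpace X₀] [QuasiSeparatedSpace X₀]
    (P : X.Opens → Prop) (h₁ : ∀ W : X.Opens, IsAffineOpen W → W ≤ X₀ → P W)
    (h₂ : ∀ U V : X.Opens, P U → P V → P (U ⊓ V) → P (U ⊔ V)) : P X₀ := by
  have := Groth.Agent.S0015.result (X₀ : Scheme.{u}) (fun W' => P (X₀.ι ''ᵁ W'))
    (fun W' hW' => h₁ _ (hW'.image_of_isOpenImmersion X₀.ι) (X₀.ι_image_le W'))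
    (fun U' V' _ _ hU hV hUV => by
      have e1 : X₀.ι ''ᵁ (U' ⊔ V') = X₀.ι ''ᵁ U' ⊔ X₀.ι ''ᵁ V' := by
        ext x
        simp only [Scheme.Hom.coe_image, Opens.coe_sup, Set.image_union]
      have e2 : X₀.ι ''ᵁ (U' ⊓ V') = X₀.ι ''ᵁ U' ⊓ X₀.ι ''ᵁ V' := by
        ext x
        simp only [Scheme.Hom.coe_image, Opens.coe_inf]
        rw [Set.image_inter X₀.ι.isOpenEmbedding.injective]
      rw [e1]
      rw [e2] at hUV
      exact h₂ _ _ hU hV hUV)
    ⊤ isCompact_univ
  rwa [X₀.ι_image_top] at this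

/-- Uniform vanishing: for `f` quasi-compact and quasi-separated and `V ⊆ S` an affine open there
is `d` such that `H^p(f⁻¹(D(g)), M) = 0` for all quasi-coherent `M`, all `p ≥ d` and all
`g ∈ Γ(S, V)`. -/
theorem exists_uniform_bound [QuasiCompact f] [QuasiSeparated f] (V : S.Opens)
    (hV : IsAffineOpen V) :
    ∃ d : ℕ, ∀ (M : X.Modules), Coh.IsQCoh M → ∀ p : ℕ, d ≤ p → ∀ g : Γ(S, V),
      Subsingleton (CohTop.HU (X := X.carrier) (Coh.toAb M) p (f ⁻¹ᵁ S.basicOpen g)) := by
  let X₀ : X.Opens := f ⁻¹ᵁ V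
  have hc : IsCompact (X₀ : Set X) := QuasiCompact.isCompact_preimage (f := f) _ V.2 hV.isCompact
  haveI : CompactSpace X₀ := isCompact_iff_compactSpace.1 hc
  haveI : QuasiSeparatedSpace X₀ := by
    have : IsAffine V := hV
    exact quasiSeparatedSpace_of_quasiSeparated (f ∣_ V)
  let P : X.Opens → Prop := fun W => ∃ d : ℕ, ∀ (M : X.Modules), Coh.IsQCoh M → ∀ p : ℕ, d ≤ p →
    ∀ g : Γ(S, V), Subsingleton (CohTop.HU (X := X.carrier) (Coh.toAb M) p
      (W ⊓ f ⁻¹ᵁ S.basicOpen g))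
  have hP : P X₀ := by
    refine induction_in_open X₀ P ?_ ?_
    · intro W hW hWX
      refine ⟨1, fun M hM p hp g => ?_⟩
      obtain ⟨q, rfl⟩ := Nat.exists_eq_succ_of_ne_zero (by omega : p ≠ 0)
      haveI : M.IsQuasicoherent := hM
      rw [← Scheme.basicOpen_appLE f W V hWX g]
      exact Groth.Agent.H45.AffineVanishing.subsingleton_HU_of_isAffineOpen M (hW.basicOpen _) q
    · rintro U₁ U₂ ⟨d₁, h₁⟩ ⟨d₂, h₂⟩ ⟨d₃, h₃⟩
      refine ⟨max (max d₁ d₂) (d₃ + 1), fun M hM p hp g => ?_⟩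
      obtain ⟨q, rfl⟩ := Nat.exists_eq_succ_of_ne_zero (by omega : p ≠ 0)
      rw [inf_sup_right]
      refine Groth.Agent.H45.MVVanish.subsingleton_HU_sup (X := X.carrier) (Coh.toAb M) _ _ q ?_
        (h₁ M hM (q + 1) (by omega) g) (h₂ M hM (q + 1) (by omega) g)
      have e : (U₁ ⊓ f ⁻¹ᵁ S.basicOpen g) ⊓ (U₂ ⊓ f ⁻¹ᵁ S.basicOpen g) =
          (U₁ ⊓ U₂) ⊓ f ⁻¹ᵁ S.basicOpen g := by
        ext x
        simp only [Opens.coe_inf, Set.mem_inter_iff]
        tauto
      rw [e]
      exact h₃ M hM q (by omega) g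
  obtain ⟨d, hd⟩ := hP
  refine ⟨d, fun M hM p hp g => ?_⟩
  have := hd M hM p hp g
  have e : X₀ ⊓ f ⁻¹ᵁ S.basicOpen g = f ⁻¹ᵁ S.basicOpen g :=
    inf_eq_right.2 (f.preimage_mono (S.basicOpen_le g))
  rwa [e] at this

end Uniform

end Groth.Agent.H42.QcqsPush
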