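import Groth.Agent.H42.CohTopDirIm

/-!
# Helper library (helper42): degree zero and the identity case of
"higher direct images are sheafified cohomology presheaves"
-/

set_option autoImplicit false

universe u

open CategoryTheory Limits Opposite TopologicalSpace Abelian

namespace Groth.Agent.H42.CohTopLib

variable {X : TopCat.{u}}

section DegreeZero

variable (F : CohTop.Ab X)

/-- `Ext^0(Z_W, F) ≃ F(W)`. -/
noncomputable def ext0Iso (W : Opens X) :
    (AddCommGrpCat.of (Ext ((Zf X).obj W) F 0) : AddCommGrpCat.{u}) ≅ F.obj.obj (op W) :=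
  AddEquiv.toAddCommGrpIso (Ext.addEquiv₀.trans (EAdd W F))

lemma ext0Iso_hom_apply (W : Opens X) (φ : (Zf X).obj W ⟶ F) :
    (ext0Iso F W).hom (Ext.mk₀ φ) = E W F φ := by
  change E W F (Ext.addEquiv₀ (Ext.mk₀ φ)) = _
  congr 1
  exact Ext.addEquiv₀.apply_symm_apply φ

lemma ext0Iso_naturality {W W' : Opens X} (i : W' ⟶ W) :
    resExt F i 0 ≫ (ext0Iso F W').hom = (ext0Iso F W).hom ≫ F.obj.map i.op := by
  ext α
  obtain ⟨φ, rfl⟩ := (Ext.mk₀_bijective _ _).2 α
  change (ext0Iso F W').hom ((Ext.mk₀ ((Zf X).map i)).comp (Ext.mk₀ φ) (zero_add 0)) =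
    F.obj.map i.op ((ext0Iso F W).hom (Ext.mk₀ φ))
  rw [Ext.mk₀_comp_mk₀, ext0Iso_hom_apply, ext0Iso_hom_apply, E_map]

/-- `cohomologyPresheaf F 0 ≅ F.obj`. -/
noncomputable def cohomologyPresheafZeroIso : Sheaf.cohomologyPresheaf.{u} F 0 ≅ F.obj :=
  NatIso.ofComponents (fun V => ext0Iso F V.unop) (fun r => ext0Iso_naturality F r.unop)

end DegreeZero

section DirectImageZero

variable {Y : TopCat.{u}} (f : X ⟶ Y) (F : CohTop.Ab X)

/-- Degree zero: `V ↦ Ext^0(Z_{f⁻¹V}, F)` is `f_* F`. -/
noncomputable def QPZeroIso : QP f 0 (F := F) ≅ ((CohTop.push f).obj F).obj :=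
  Functor.isoWhiskerLeft (Opens.map f).op (cohomologyPresheafZeroIso F)

theorem nonempty_Rpush_zero_iso :
    Nonempty ((CohTop.Rpush f 0).obj F ≅
      (presheafToSheaf (Opens.grothendieckTopology Y) AddCommGrpCat.{u}).obj
        (QP f 0 (F := F))) := by
  have := preservesLimits_push f
  have : PreservesFiniteLimits (CohTop.push f) := inferInstance
  let a := presheafToSheaf (Opens.grothendieckTopology Y) AddCommGrpCat.{u}
  let i0 : (CohTop.Rpush f 0).obj F ≅ (CohTop.push f).obj F :=
    (CohTop.push f).rightDerivedZeroIsoSelf.app F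
  let i1 : a.obj ((CohTop.push f).obj F).obj ≅ (CohTop.push f).obj F :=
    asIso ((sheafificationAdjunction (Opens.grothendieckTopology Y) AddCommGrpCat.{u}).counit.app
      ((CohTop.push f).obj F))
  exact ⟨i0 ≪≫ i1.symm ≪≫ a.mapIso (QPZeroIso f F).symm⟩

theorem nonempty_Rpush_iso (i : ℕ) :
    Nonempty ((CohTop.Rpush f i).obj F ≅
      (presheafToSheaf (Opens.grothendieckTopology Y) AddCommGrpCat.{u}).obj
        (QP f i (F := F))) := by
  cases i with
  | zero => exact nonempty_Rpush_zero_iso f F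
  | succ n => exact nonempty_Rpush_succ_iso f (injectiveResolution F) n

end DirectImageZero

section Identity

variable {F : CohTop.Ab X} (R : InjectiveResolution F) (n : ℕ)

/-- Three consecutive terms of the resolution, as presheaves. -/
noncomputable abbrev SI : ShortComplex ((Opens X)ᵒᵖ ⥤ AddCommGrpCat.{u}) :=
  (R.cocomplex.sc' n (n + 1) (n + 2)).map
    (sheafToPresheaf (Opens.grothendieckTopology X) AddCommGrpCat.{u})

/-- The sections of the homology presheaf. -/
noncomputable def isoVI (V : (Opens X)ᵒᵖ) :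
    (SI R n).homology.obj V ≅ (Sheaf.cohomologyPresheaf.{u} F (n + 1)).obj V :=
  ((SI R n).mapHomologyIso ((evaluation _ _).obj V)).symm ≪≫ ΦW R n V.unop

lemma isoVI_naturality {V V' : (Opens X)ᵒᵖ} (r : V ⟶ V') :
    (SI R n).homology.map r ≫ (isoVI R n V').hom =
      (isoVI R n V).hom ≫ (Sheaf.cohomologyPresheaf.{u} F (n + 1)).map r := by
  let τ := (evaluation (Opens X)ᵒᵖ AddCommGrpCat.{u}).map r
  let a := (SI R n).mapHomologyIso ((evaluation _ _).obj V)
  let a' := (SI R n).mapHomologyIso ((evaluation _ _).obj V')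
  let m := ShortComplex.homologyMap ((SI R n).mapNatTrans τ)
  let Φ : ((SI R n).map ((evaluation _ _).obj V)).homology ⟶
      (Sheaf.cohomologyPresheaf.{u} F (n + 1)).obj V := (ΦW R n V.unop).hom
  let Φ' : ((SI R n).map ((evaluation _ _).obj V')).homology ⟶
      (Sheaf.cohomologyPresheaf.{u} F (n + 1)).obj V' := (ΦW R n V'.unop).hom
  have h' : (SI R n).homology.map r = a.inv ≫ m ≫ a'.hom :=
    NatTrans.app_homology τ (SI R n)
  have hn : m ≫ Φ' = Φ ≫ (Sheaf.cohomologyPresheaf.{u} F (n + 1)).map r :=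
    ΦW_naturality R n r.unop
  have e1 : (isoVI R n V').hom = a'.inv ≫ Φ' := rfl
  have e2 : (isoVI R n V).hom = a.inv ≫ Φ := rfl
  rw [e1, e2, h']
  simp only [Category.assoc, Iso.hom_inv_id_assoc]
  rw [hn]

/-- The homology presheaf is `V ↦ Ext(Z_V, F)`. -/
noncomputable def isoPI : (SI R n).homology ≅ Sheaf.cohomologyPresheaf.{u} F (n + 1) :=
  NatIso.ofComponents (isoVI R n) (fun r => isoVI_naturality R n r)

end Identity

section Forget

variable (F : CohTop.Ab X)

theorem nonempty_rightDerived_sheafToPresheaf_iso (p : ℕ) :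
    Nonempty (((sheafToPresheaf (Opens.grothendieckTopology X) AddCommGrpCat.{u}).rightDerived p).obj F ≅
      Sheaf.cohomologyPresheaf.{u} F p) := by
  let s2p := sheafToPresheaf (Opens.grothendieckTopology X) AddCommGrpCat.{u}
  cases p with
  | zero =>
    have : PreservesFiniteLimits s2p := inferInstance
    exact ⟨s2p.rightDerivedZeroIsoSelf.app F ≪≫ (cohomologyPresheafZeroIso F).symm⟩
  | succ n =>
    let R := injectiveResolution F
    let K := (s2p.mapHomologicalComplex (ComplexShape.up ℕ)).obj R.cocomplex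
    let i0 : (s2p.rightDerived (n + 1)).obj F ≅ K.homology (n + 1) :=
      R.isoRightDerivedObj s2p (n + 1)
    let i1 : K.homology (n + 1) ≅ (SI R n).homology :=
      ShortComplex.homologyMapIso (K.isoSc' n (n + 1) (n + 2) (by simp) (by simp))
    exact ⟨i0 ≪≫ i1 ≪≫ isoPI R n⟩

end Forget

end Groth.Agent.H42.CohTopLib
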