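import Groth.Agent.H45.RDerivedLES

/-!
# Helper library (helper42): Mayer–Vietoris long exact sequence of right derived functors

Given additive functors `F₁ G₂ G₃ G₄ : A ⥤ B` and natural transformations
`α₂ : F₁ ⟶ G₂`, `α₃ : F₁ ⟶ G₃`, `β₂ : G₂ ⟶ G₄`, `β₃ : G₃ ⟶ G₄` such that
`0 ⟶ F₁ I ⟶ G₂ I ⊞ G₃ I ⟶ G₄ I ⟶ 0` (maps `lift α₂ α₃`, `desc β₂ (-β₃)`) is short exact for
every injective `I`, we get a long exact sequence
`⋯ ⟶ RⁿF₁ X ⟶ RⁿG₂ X ⊞ RⁿG₃ X ⟶ RⁿG₄ X ⟶ Rⁿ⁺¹F₁ X ⟶ ⋯`.
-/

set_option autoImplicit false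
open CategoryTheory CategoryTheory.Limits

namespace Groth.Agent.H42.MVDerived

open Groth.Agent.H45

universe v₁ v₂ u₁ u₂

variable {A : Type u₁} [Category.{v₁} A] [Abelian A]
  {B : Type u₂} [Category.{v₂} B] [Abelian B]

lemma exact_mk₂_of_iso {S : ShortComplex B} (hS : S.Exact) {X Y Z : B} (f : X ⟶ Y) (g : Y ⟶ Z)
    (e₁ : S.X₁ ≅ X) (e₂ : S.X₂ ≅ Y) (e₃ : S.X₃ ≅ Z) (c₁ : S.f ≫ e₂.hom = e₁.hom ≫ f)
    (c₂ : S.g ≫ e₃.hom = e₂.hom ≫ g) : (ComposableArrows.mk₂ f g).Exact := by
  have w : f ≫ g = 0 := by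
    have : e₁.hom ≫ f ≫ g = 0 := by
      rw [← reassoc_of% c₁, ← c₂, S.zero_assoc, zero_comp]
    rw [← cancel_epi e₁.hom, this, comp_zero]
  exact (ShortComplex.exact_of_iso
    (ShortComplex.isoMk e₁ e₂ e₃ c₁.symm c₂.symm : S ≅ ShortComplex.mk f g w) hS).exact_toComposableArrows

section Additivity

variable [HasInjectiveResolutions A] {G G' : A ⥤ B} [G.Additive] [G'.Additive]

lemma rightDerived_add_app (γ γ' : G ⟶ G') (n : ℕ) (X : A) :
    (NatTrans.rightDerived (γ + γ') n).app X =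
      (NatTrans.rightDerived γ n).app X + (NatTrans.rightDerived γ' n).app X := by
  rw [RDerivedLES.app_eq, RDerivedLES.app_eq, RDerivedLES.app_eq]
  have h : (NatTrans.mapHomologicalComplex (γ + γ') (ComplexShape.up ℕ)).app
        (RDerivedLES.res X).cocomplex =
      (NatTrans.mapHomologicalComplex γ (ComplexShape.up ℕ)).app (RDerivedLES.res X).cocomplex +
      (NatTrans.mapHomologicalComplex γ' (ComplexShape.up ℕ)).app
        (RDerivedLES.res X).cocomplex := by
    ext i
    rfl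
  rw [h, HomologicalComplex.homologyMap_add, Preadditive.add_comp, Preadditive.comp_add]

lemma rightDerived_zero_app (n : ℕ) (X : A) :
    (NatTrans.rightDerived (0 : G ⟶ G') n).app X = 0 := by
  rw [RDerivedLES.app_eq]
  have h : (NatTrans.mapHomologicalComplex (0 : G ⟶ G') (ComplexShape.up ℕ)).app
        (RDerivedLES.res X).cocomplex = 0 := by
    ext i
    rfl
  rw [h, HomologicalComplex.homologyMap_zero, zero_comp, comp_zero]

lemma rightDerived_neg_app (γ : G ⟶ G') (n : ℕ) (X : A) :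
    (NatTrans.rightDerived (-γ) n).app X = -(NatTrans.rightDerived γ n).app X := by
  rw [RDerivedLES.app_eq, RDerivedLES.app_eq]
  have h : (NatTrans.mapHomologicalComplex (-γ) (ComplexShape.up ℕ)).app
        (RDerivedLES.res X).cocomplex =
      -(NatTrans.mapHomologicalComplex γ (ComplexShape.up ℕ)).app
        (RDerivedLES.res X).cocomplex := by
    ext i
    rfl
  rw [h, HomologicalComplex.homologyMap_neg, Preadditive.neg_comp, Preadditive.comp_neg]

lemma rightDerived_comp_app {G'' : A ⥤ B} [G''.Additive] (γ : G ⟶ G') (γ' : G' ⟶ G'') (n : ℕ)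
    (X : A) :
    (NatTrans.rightDerived (γ ≫ γ') n).app X =
      (NatTrans.rightDerived γ n).app X ≫ (NatTrans.rightDerived γ' n).app X := by
  rw [NatTrans.rightDerived_comp]
  rfl

lemma rightDerived_id_app (n : ℕ) (X : A) :
    (NatTrans.rightDerived (𝟙 G) n).app X = 𝟙 _ := by
  rw [NatTrans.rightDerived_id]
  rfl

/-- Degree zero: a transformation which is mono on injectives induces a mono on `R⁰`. -/
lemma mono_rightDerived_zero_app (γ : G ⟶ G') (hγ : ∀ I : A, Injective I → Mono (γ.app I))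
    (X : A) : Mono ((NatTrans.rightDerived γ 0).app X) := by
  rw [RDerivedLES.app_eq]
  let K := (G.mapHomologicalComplex (ComplexShape.up ℕ)).obj (RDerivedLES.res X).cocomplex
  let L := (G'.mapHomologicalComplex (ComplexShape.up ℕ)).obj (RDerivedLES.res X).cocomplex
  let φ : K ⟶ L := (NatTrans.mapHomologicalComplex γ (ComplexShape.up ℕ)).app
    (RDerivedLES.res X).cocomplex
  have hφ : Mono (φ.f 0) := hγ _ ((RDerivedLES.res X).injective 0)
  have hK : IsIso (K.homologyπ 0) :=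
    K.isIso_homologyπ 0 0 (by simp) (K.shape _ _ (by simp))
  have hL : IsIso (L.homologyπ 0) :=
    L.isIso_homologyπ 0 0 (by simp) (L.shape _ _ (by simp))
  have hc : Mono (HomologicalComplex.cyclesMap φ 0) := by
    have : Mono (HomologicalComplex.cyclesMap φ 0 ≫ L.iCycles 0) := by
      rw [HomologicalComplex.cyclesMap_i]
      infer_instance
    exact mono_of_mono _ (L.iCycles 0)
  have hh : Mono (HomologicalComplex.homologyMap φ 0) := by
    have e : HomologicalComplex.homologyMap φ 0 =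
        inv (K.homologyπ 0) ≫ HomologicalComplex.cyclesMap φ 0 ≫ L.homologyπ 0 := by
      rw [IsIso.eq_inv_comp, HomologicalComplex.homologyπ_naturality]
    rw [e]
    infer_instance
  have : Mono (HomologicalComplex.homologyMap φ 0 ≫ (RDerivedLES.iso G' X 0).inv) :=
    mono_comp _ _
  exact mono_comp _ _

end Additivity

section MV

variable {F₁ G₂ G₃ G₄ : A ⥤ B} [F₁.Additive] [G₂.Additive] [G₃.Additive] [G₄.Additive]
  (α₂ : F₁ ⟶ G₂) (α₃ : F₁ ⟶ G₃) (β₂ : G₂ ⟶ G₄) (β₃ : G₃ ⟶ G₄)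

variable (G₂ G₃) in
/-- The functor `X ↦ G₂ X ⊞ G₃ X`. -/
@[simps, reducible]
noncomputable def mid : A ⥤ B where
  obj X := G₂.obj X ⊞ G₃.obj X
  map f := biprod.map (G₂.map f) (G₃.map f)

instance : (mid G₂ G₃).Additive where
  map_add {X Y f g} := by
    dsimp [mid]
    ext <;> simp [Preadditive.add_comp, Preadditive.comp_add]

/-- `lift α₂ α₃ : F₁ ⟶ G₂ ⊞ G₃`. -/
@[simps]
noncomputable def αm : F₁ ⟶ mid G₂ G₃ where
  app X := biprod.lift (α₂.app X) (α₃.app X)
  naturality X Y f := by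
    dsimp [mid]
    ext <;> simp

/-- `desc β₂ (-β₃) : G₂ ⊞ G₃ ⟶ G₄`. -/
@[simps]
noncomputable def βm : mid G₂ G₃ ⟶ G₄ where
  app X := biprod.desc (β₂.app X) (-β₃.app X)
  naturality X Y f := by
    dsimp [mid]
    ext <;> simp

variable (G₂ G₃) in
@[simps]
noncomputable def inlT : G₂ ⟶ mid G₂ G₃ where
  app X := biprod.inl
  naturality X Y f := by
    dsimp [mid]
    simp

variable (G₂ G₃) in
@[simps]
noncomputable def inrT : G₃ ⟶ mid G₂ G₃ where
  app X := biprod.inr
  naturality X Y f := by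
    dsimp [mid]
    simp

variable (G₂ G₃) in
@[simps]
noncomputable def fstT : mid G₂ G₃ ⟶ G₂ where
  app X := biprod.fst
  naturality X Y f := by
    dsimp [mid]
    simp

variable (G₂ G₃) in
@[simps]
noncomputable def sndT : mid G₂ G₃ ⟶ G₃ where
  app X := biprod.snd
  naturality X Y f := by
    dsimp [mid]
    simp

lemma inlT_fstT : inlT G₂ G₃ ≫ fstT G₂ G₃ = 𝟙 _ := by ext X; simp
lemma inlT_sndT : inlT G₂ G₃ ≫ sndT G₂ G₃ = 0 := by ext X; simp
lemma inrT_fstT : inrT G₂ G₃ ≫ fstT G₂ G₃ = 0 := by ext X; simp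
lemma inrT_sndT : inrT G₂ G₃ ≫ sndT G₂ G₃ = 𝟙 _ := by ext X; simp
lemma totalT : fstT G₂ G₃ ≫ inlT G₂ G₃ + sndT G₂ G₃ ≫ inrT G₂ G₃ = 𝟙 _ := by
  apply NatTrans.ext
  funext X
  simp only [NatTrans.app_add, NatTrans.comp_app, NatTrans.id_app, fstT_app, inlT_app, sndT_app,
    inrT_app]
  exact biprod.total
lemma αm_fstT : αm α₂ α₃ ≫ fstT G₂ G₃ = α₂ := by ext X; simp
lemma αm_sndT : αm α₂ α₃ ≫ sndT G₂ G₃ = α₃ := by ext X; simp
lemma inlT_βm : inlT G₂ G₃ ≫ βm β₂ β₃ = β₂ := by ext X; simp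
lemma inrT_βm : inrT G₂ G₃ ≫ βm β₂ β₃ = -β₃ := by ext X; simp

variable [HasInjectiveResolutions A]

variable (G₂ G₃) in
/-- `Rⁿ(G₂ ⊞ G₃) X ≅ RⁿG₂ X ⊞ RⁿG₃ X`. -/
noncomputable def midIso (n : ℕ) (X : A) :
    ((mid G₂ G₃).rightDerived n).obj X ≅ (G₂.rightDerived n).obj X ⊞ (G₃.rightDerived n).obj X where
  hom := biprod.lift ((NatTrans.rightDerived (fstT G₂ G₃) n).app X)
    ((NatTrans.rightDerived (sndT G₂ G₃) n).app X)
  inv := biprod.desc ((NatTrans.rightDerived (inlT G₂ G₃) n).app X)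
    ((NatTrans.rightDerived (inrT G₂ G₃) n).app X)
  hom_inv_id := by
    rw [biprod.lift_desc, ← rightDerived_comp_app, ← rightDerived_comp_app,
      ← rightDerived_add_app, totalT, rightDerived_id_app]
  inv_hom_id := by
    ext
    · simp only [Category.assoc, biprod.lift_fst, biprod.inl_desc_assoc, Category.comp_id,
        biprod.inl_fst]
      rw [← rightDerived_comp_app, inlT_fstT, rightDerived_id_app]
    · simp only [Category.assoc, biprod.lift_snd, biprod.inl_desc_assoc, Category.comp_id,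
        biprod.inl_snd]
      rw [← rightDerived_comp_app, inlT_sndT, rightDerived_zero_app]
    · simp only [Category.assoc, biprod.lift_fst, biprod.inr_desc_assoc, Category.comp_id,
        biprod.inr_fst]
      rw [← rightDerived_comp_app, inrT_fstT, rightDerived_zero_app]
    · simp only [Category.assoc, biprod.lift_snd, biprod.inr_desc_assoc, Category.comp_id,
        biprod.inr_snd]
      rw [← rightDerived_comp_app, inrT_sndT, rightDerived_id_app]

lemma α_midIso (n : ℕ) (X : A) :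
    (NatTrans.rightDerived (αm α₂ α₃) n).app X ≫ (midIso G₂ G₃ n X).hom =
      biprod.lift ((NatTrans.rightDerived α₂ n).app X) ((NatTrans.rightDerived α₃ n).app X) := by
  dsimp only [midIso]
  ext
  · rw [Category.assoc, biprod.lift_fst, biprod.lift_fst, ← rightDerived_comp_app, αm_fstT]
  · rw [Category.assoc, biprod.lift_snd, biprod.lift_snd, ← rightDerived_comp_app, αm_sndT]

lemma midIso_β (n : ℕ) (X : A) :
    (midIso G₂ G₃ n X).inv ≫ (NatTrans.rightDerived (βm β₂ β₃) n).app X =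
      biprod.desc ((NatTrans.rightDerived β₂ n).app X) (-(NatTrans.rightDerived β₃ n).app X) := by
  dsimp only [midIso]
  ext
  · rw [biprod.inl_desc_assoc, biprod.inl_desc, ← rightDerived_comp_app, inlT_βm]
  · rw [biprod.inr_desc_assoc, biprod.inr_desc, ← rightDerived_comp_app, inrT_βm,
      rightDerived_neg_app]

lemma αm_βm (w : α₂ ≫ β₂ = α₃ ≫ β₃) : αm α₂ α₃ ≫ βm β₂ β₃ = 0 := by
  ext X
  have := congr_app w X
  simp only [NatTrans.comp_app] at this
  simp [this]

/-- The Mayer–Vietoris long exact sequence of right derived functors. -/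
theorem exists_les (w : α₂ ≫ β₂ = α₃ ≫ β₃)
    (h : RDerivedLES.ExactOnInjectives (αm α₂ α₃) (βm β₂ β₃) (αm_βm α₂ α₃ β₂ β₃ w)) (X : A) :
    ∃ δ : ∀ n : ℕ, (G₄.rightDerived n).obj X ⟶ (F₁.rightDerived (n + 1)).obj X,
      Mono (biprod.lift ((NatTrans.rightDerived α₂ 0).app X)
        ((NatTrans.rightDerived α₃ 0).app X)) ∧
      ∀ n : ℕ,
        (ComposableArrows.mk₂
          (biprod.lift ((NatTrans.rightDerived α₂ n).app X) ((NatTrans.rightDerived α₃ n).app X))
          (biprod.desc ((NatTrans.rightDerived β₂ n).app X)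
            (-((NatTrans.rightDerived β₃ n).app X)))).Exact ∧
        (ComposableArrows.mk₂
          (biprod.desc ((NatTrans.rightDerived β₂ n).app X)
            (-((NatTrans.rightDerived β₃ n).app X)))
          (δ n)).Exact ∧
        (ComposableArrows.mk₂ (δ n)
          (biprod.lift ((NatTrans.rightDerived α₂ (n + 1)).app X)
            ((NatTrans.rightDerived α₃ (n + 1)).app X))).Exact := by
  refine ⟨fun n => (RDerivedLES.δ h n).app X, ?_, fun n => ⟨?_, ?_, ?_⟩⟩
  · rw [← α_midIso]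
    have : Mono ((NatTrans.rightDerived (αm α₂ α₃) 0).app X) :=
      mono_rightDerived_zero_app _ (fun I hI => (h I hI).mono_f) X
    exact mono_comp _ _
  · have e := RDerivedLES.exact₂ h n X (by
      rw [← rightDerived_comp_app, αm_βm α₂ α₃ β₂ β₃ w, rightDerived_zero_app])
    refine exact_mk₂_of_iso e _ _ (Iso.refl _) (midIso G₂ G₃ n X) (Iso.refl _) ?_ ?_
    · dsimp only [Iso.refl_hom]
      rw [Category.id_comp, α_midIso]
    · dsimp only [Iso.refl_hom]
      rw [Category.comp_id, ← midIso_β, Iso.hom_inv_id_assoc]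
  · have e := RDerivedLES.exact₃ h n X (RDerivedLES.comp_δ h n X)
    refine exact_mk₂_of_iso e _ _ (midIso G₂ G₃ n X) (Iso.refl _) (Iso.refl _) ?_ ?_
    · dsimp only [Iso.refl_hom]
      rw [Category.comp_id, ← midIso_β, Iso.hom_inv_id_assoc]
    · dsimp only [Iso.refl_hom]
      rw [Category.id_comp, Category.comp_id]
  · have e := RDerivedLES.exact₁ h n X (RDerivedLES.δ_comp h n X)
    refine exact_mk₂_of_iso e _ _ (Iso.refl _) (Iso.refl _) (midIso G₂ G₃ (n + 1) X) ?_ ?_
    · dsimp only [Iso.refl_hom]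
      rw [Category.id_comp, Category.comp_id]
    · dsimp only [Iso.refl_hom]
      rw [Category.id_comp, α_midIso]

end MV

end Groth.Agent.H42.MVDerived
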