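import Groth.Agent.H45.LocCohZLib
import Groth.Agent.H42.CohTopLib
import Groth.Agent.H42.MVDerived
import Groth.Prelude.Def_CohCx

/-!
# Helper library (helper42): the relative Mayer–Vietoris short exact sequence on injectives
-/

set_option autoImplicit false
universe u
open CategoryTheory CategoryTheory.Limits Opposite TopologicalSpace

namespace Groth.Agent.H42.MVConcrete

open Groth.Agent.H45.LocCohZLib

section General

variable {Y : TopCat.{u}}

/-- A short complex of abelian sheaves on a space which is sectionwise short exact is short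
exact. -/
theorem shortExact_of_sections (S : ShortComplex (CohTop.Ab Y))
    (h₁ : ∀ O : Opens Y, Function.Injective (S.f.hom.app (op O)))
    (h₂ : ∀ (O : Opens Y) (b : S.X₂.obj.obj (op O)), S.g.hom.app (op O) b = 0 →
      ∃ a, S.f.hom.app (op O) a = b)
    (h₃ : ∀ O : Opens Y, Function.Surjective (S.g.hom.app (op O))) : S.ShortExact := by
  have hmono : Mono S.f := by
    have : Mono S.f.hom := by
      apply (config := { allowSynthFailures := true }) NatTrans.mono_of_mono_app
      intro O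
      exact (AddCommGrpCat.mono_iff_injective _).2 (h₁ O.unop)
    exact Sheaf.Hom.mono_of_presheaf_mono _ _ S.f
  have hepi : Epi S.g := by
    have : Epi S.g.hom := by
      apply (config := { allowSynthFailures := true }) NatTrans.epi_of_epi_app
      intro O
      exact (AddCommGrpCat.epi_iff_surjective _).2 (h₃ O.unop)
    exact Sheaf.Hom.epi_of_presheaf_epi _ _ S.g
  have hex : S.Exact := by
    rw [S.exact_iff_epi_kernel_lift]
    have : Epi (kernel.lift S.g S.f S.zero).hom := by
      apply (config := { allowSynthFailures := true }) NatTrans.epi_of_epi_app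
      intro O
      rw [AddCommGrpCat.epi_iff_surjective]
      intro k
      obtain ⟨a, ha⟩ := h₂ O.unop ((kernel.ι S.g).hom.app O k) (by
        change ((kernel.ι S.g ≫ S.g).hom.app O) k = 0
        rw [kernel.condition]
        rfl)
      refine ⟨a, ?_⟩
      apply kernel_ι_app_injective S.g O.unop
      change ((kernel.lift S.g S.f S.zero ≫ kernel.ι S.g).hom.app O) a = _
      rw [kernel.lift_ι]
      exact ha
    exact Sheaf.Hom.epi_of_presheaf_epi _ _ _
  exact { exact := hex }

end General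

section Specific

open Groth.Agent.H45 Groth.Agent.H42.MVDerived

variable {X Y : TopCat.{u}} (f : X ⟶ Y)

/-- `W ∩ f⁻¹ O`, in the form in which it appears in the sections of `(f|_W)_* (F|_W)`. -/
abbrev im (W : Opens X) (O : Opens Y) : Opens X :=
  W.isOpenEmbedding.isOpenMap.functor.obj ((Opens.map (CohCx.incl W ≫ f)).obj O)

lemma mem_im {W : Opens X} {O : Opens Y} {x : X} : x ∈ im f W O ↔ x ∈ W ∧ f x ∈ O := by
  constructor
  · rintro ⟨y, hy, rfl⟩
    exact ⟨y.2, hy⟩
  · rintro ⟨hW, hO⟩
    exact ⟨⟨x, hW⟩, hO, rfl⟩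

lemma im_le (W : Opens X) (O : Opens Y) : im f W O ≤ (Opens.map f).obj O := by
  intro x hx
  exact ((mem_im f).1 hx).2

lemma im_mono {W' W : Opens X} (h : W' ≤ W) (O : Opens Y) : im f W' O ≤ im f W O := by
  intro x hx
  obtain ⟨h1, h2⟩ := (mem_im f).1 hx
  exact (mem_im f).2 ⟨h h1, h2⟩

lemma le_im_sup {U V : Opens X} (hUV : U ⊔ V = ⊤) (O : Opens Y) :
    (Opens.map f).obj O ≤ im f U O ⊔ im f V O := by
  intro x hx
  have hx' : x ∈ U ⊔ V := by rw [hUV]; trivial
  rcases hx' with h | h
  · exact Or.inl ((mem_im f).2 ⟨h, hx⟩)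
  · exact Or.inr ((mem_im f).2 ⟨h, hx⟩)

lemma im_inf_le (U V : Opens X) (O : Opens Y) : im f U O ⊓ im f V O ≤ im f (U ⊓ V) O := by
  rintro x ⟨h1, h2⟩
  obtain ⟨h1, h3⟩ := (mem_im f).1 h1
  obtain ⟨h2, -⟩ := (mem_im f).1 h2
  exact (mem_im f).2 ⟨⟨h1, h2⟩, h3⟩

lemma α_app (W : Opens X) (I : CohTop.Ab X) (O : Opens Y)
    (a : I.obj.obj (op ((Opens.map f).obj O))) :
    ((CohCx.pushToRestrPush f W).app I).hom.app (op O) a =
      I.obj.map (homOfLE (im_le f W O)).op a := rfl

lemma β_app {W' W : Opens X} (h : W' ≤ W) (I : CohTop.Ab X) (O : Opens Y)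
    (a : I.obj.obj (op (im f W O))) :
    ((CohCx.restrPushToRestrPush f h).app I).hom.app (op O) a =
      I.obj.map (homOfLE (im_mono f h O)).op a := rfl

lemma w_eq (U V : Opens X) :
    CohCx.pushToRestrPush f U ≫ CohCx.restrPushToRestrPush f (inf_le_left : U ⊓ V ≤ U) =
      CohCx.pushToRestrPush f V ≫ CohCx.restrPushToRestrPush f (inf_le_right : U ⊓ V ≤ V) := by
  apply NatTrans.ext
  funext I
  apply Sheaf.hom_ext
  apply NatTrans.ext
  funext O
  change I.obj.map _ ≫ I.obj.map _ = I.obj.map _ ≫ I.obj.map _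
  rw [← I.obj.map_comp, ← I.obj.map_comp]
  rfl

/-- restriction maps of a presheaf on a space only depend on the opens -/
lemma map_map_apply (I : CohTop.Ab X) {A B C : (Opens X)ᵒᵖ} (i : A ⟶ B) (j : B ⟶ C) (k : A ⟶ C)
    (a : I.obj.obj A) : I.obj.map j (I.obj.map i a) = I.obj.map k a := by
  rw [← ConcreteCategory.comp_apply, ← I.obj.map_comp]
  have : i ≫ j = k := Subsingleton.elim _ _
  rw [this]

theorem exactOnInjectives (U V : Opens X) (hUV : U ⊔ V = ⊤) :
    RDerivedLES.ExactOnInjectives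
      (αm (CohCx.pushToRestrPush f U) (CohCx.pushToRestrPush f V))
      (βm (CohCx.restrPushToRestrPush f (inf_le_left : U ⊓ V ≤ U))
        (CohCx.restrPushToRestrPush f (inf_le_right : U ⊓ V ≤ V)))
      (αm_βm _ _ _ _ (w_eq f U V)) := by
  intro I hI
  have hfl : TopCat.Sheaf.IsFlasque I := Groth.Agent.H42.CohTopLib.isFlasque_of_injective I
  let GU := (CohTop.restrFunctor U ⋙ CohTop.push (CohCx.incl U ≫ f)).obj I
  let GV := (CohTop.restrFunctor V ⋙ CohTop.push (CohCx.incl V ≫ f)).obj I
  let αU := (CohCx.pushToRestrPush f U).app I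
  let αV := (CohCx.pushToRestrPush f V).app I
  let βU := (CohCx.restrPushToRestrPush f (inf_le_left : U ⊓ V ≤ U)).app I
  let βV := (CohCx.restrPushToRestrPush f (inf_le_right : U ⊓ V ≤ V)).app I
  -- sections of the biproduct
  have total : ∀ (O : Opens Y) (b : (GU ⊞ GV).obj.obj (op O)),
      b = (biprod.inl : GU ⟶ GU ⊞ GV).hom.app (op O)
            ((biprod.fst : GU ⊞ GV ⟶ GU).hom.app (op O) b) +
          (biprod.inr : GV ⟶ GU ⊞ GV).hom.app (op O)
            ((biprod.snd : GU ⊞ GV ⟶ GV).hom.app (op O) b) := by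
    intro O b
    have := congrArg (fun φ : GU ⊞ GV ⟶ GU ⊞ GV => φ.hom.app (op O) b)
      (biprod.total : (biprod.fst : GU ⊞ GV ⟶ GU) ≫ biprod.inl + biprod.snd ≫ biprod.inr = 𝟙 _)
    exact this.symm
  have lift_fst : ∀ (O : Opens Y) a,
      (biprod.fst : GU ⊞ GV ⟶ GU).hom.app (op O) ((biprod.lift αU αV).hom.app (op O) a) =
        αU.hom.app (op O) a := by
    intro O a
    change ((biprod.lift αU αV ≫ biprod.fst).hom.app (op O)) a = _
    rw [biprod.lift_fst]
  have lift_snd : ∀ (O : Opens Y) a,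
      (biprod.snd : GU ⊞ GV ⟶ GV).hom.app (op O) ((biprod.lift αU αV).hom.app (op O) a) =
        αV.hom.app (op O) a := by
    intro O a
    change ((biprod.lift αU αV ≫ biprod.snd).hom.app (op O)) a = _
    rw [biprod.lift_snd]
  have inl_desc : ∀ (O : Opens Y) b,
      (biprod.desc βU (-βV)).hom.app (op O) ((biprod.inl : GU ⟶ GU ⊞ GV).hom.app (op O) b) =
        βU.hom.app (op O) b := by
    intro O b
    change ((biprod.inl ≫ biprod.desc βU (-βV)).hom.app (op O)) b = _
    rw [biprod.inl_desc]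
  have inr_desc : ∀ (O : Opens Y) b,
      (biprod.desc βU (-βV)).hom.app (op O) ((biprod.inr : GV ⟶ GU ⊞ GV).hom.app (op O) b) =
        -βV.hom.app (op O) b := by
    intro O b
    change ((biprod.inr ≫ biprod.desc βU (-βV)).hom.app (op O)) b = _
    rw [biprod.inr_desc]
    rfl
  apply shortExact_of_sections
  · -- injectivity
    intro O a a' haa'
    change (biprod.lift αU αV).hom.app (op O) a = (biprod.lift αU αV).hom.app (op O) a' at haa'
    have e₂ := congrArg (fun b => (biprod.fst : GU ⊞ GV ⟶ GU).hom.app (op O) b) haa'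
    have e₃ := congrArg (fun b => (biprod.snd : GU ⊞ GV ⟶ GV).hom.app (op O) b) haa'
    simp only [lift_fst, lift_snd] at e₂ e₃
    exact TopCat.Sheaf.eq_of_locally_eq₂ I (homOfLE (im_le f U O)) (homOfLE (im_le f V O))
      (le_im_sup f hUV O) a a' e₂ e₃
  · -- exactness in the middle
    intro O b hb
    change (biprod.desc βU (-βV)).hom.app (op O) b = 0 at hb
    set b₂ := (biprod.fst : GU ⊞ GV ⟶ GU).hom.app (op O) b with hb₂
    set b₃ := (biprod.snd : GU ⊞ GV ⟶ GV).hom.app (op O) b with hb₃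
    have hb' : βU.hom.app (op O) b₂ = βV.hom.app (op O) b₃ := by
      rw [total O b, map_add, inl_desc, inr_desc] at hb
      exact sub_eq_zero.1 ((sub_eq_add_neg _ _).trans hb)
    -- glue
    have hglue : I.obj.map (homOfLE (inf_le_left : im f U O ⊓ im f V O ≤ im f U O)).op b₂ =
        I.obj.map (homOfLE (inf_le_right : im f U O ⊓ im f V O ≤ im f V O)).op b₃ := by
      have := congrArg (I.obj.map (homOfLE (im_inf_le f U V O)).op) hb'
      exact (map_map_apply I _ _ _ b₂).symm.trans (this.trans (map_map_apply I _ _ _ b₃))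
    obtain ⟨c, hc₂, hc₃⟩ := exists_glue₂ I b₂ b₃ hglue
    let a : ((CohTop.push f).obj I).obj.obj (op O) :=
      I.obj.map (homOfLE (le_im_sup f hUV O)).op c
    refine ⟨a, ?_⟩
    have h2 : (biprod.fst : GU ⊞ GV ⟶ GU).hom.app (op O)
        ((biprod.lift αU αV).hom.app (op O) a) = b₂ :=
      (lift_fst O a).trans ((map_map_apply I _ _ _ c).trans hc₂)
    have h3 : (biprod.snd : GU ⊞ GV ⟶ GV).hom.app (op O)
        ((biprod.lift αU αV).hom.app (op O) a) = b₃ :=
      (lift_snd O a).trans ((map_map_apply I _ _ _ c).trans hc₃)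
    change (biprod.lift αU αV).hom.app (op O) a = b
    rw [total O ((biprod.lift αU αV).hom.app (op O) a), h2, h3]
    exact (total O b).symm
  · -- surjectivity
    intro O c
    have hepi : Epi (I.obj.map (homOfLE (im_mono f (inf_le_left : U ⊓ V ≤ U) O)).op) :=
      hfl.epi _
    obtain ⟨b₂, hb₂⟩ := (AddCommGrpCat.epi_iff_surjective _).1 hepi c
    refine ⟨(biprod.inl : GU ⟶ GU ⊞ GV).hom.app (op O) b₂, ?_⟩
    exact (inl_desc O b₂).trans hb₂

end Specific

end Groth.Agent.H42.MVConcrete
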