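import Groth.Agent.S8347
import Groth.Agent.S8355

/-!
# Helper library (helper42): one-row / one-column collapse of an `E₂` spectral sequence with
abutment data (`SpSeq.Abutment`), packaged from S8347 + S8355.
-/

set_option autoImplicit false

universe v u

open CategoryTheory CategoryTheory.Limits

namespace Groth.Agent.H42.SSCollapse

variable {C : Type u} [Category.{v} C] [Abelian C]

theorem isExhaustive_of_isFinite {r₀ : ℤ} {E : CohomologicalSpectralSequence C r₀} {H : ℤ → C}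
    (a : SpSeq.Abutment E H) (n : ℤ) (h : a.IsFinite n) : a.IsExhaustive n := by
  obtain ⟨b, hb⟩ := h.1
  refine ⟨fun x _ => le_top, fun y hy => ?_⟩
  exact hb ▸ hy ⟨b, rfl⟩

/-- Zero objects on page 2 stay zero on later pages. -/
theorem isZero_page (E : E₂CohomologicalSpectralSequence C) (pq : ℤ × ℤ)
    (h : IsZero ((E.page 2 le_rfl).X pq)) (r : ℤ) (hr : (2 : ℤ) ≤ r) :
    IsZero ((E.page r hr).X pq) :=
  (Groth.Agent.S8355.result E 2 le_rfl pq h).1 r hr

/-- One-column collapse: if all columns `p ≠ 0` of the second page vanish, then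
`H^n ≅ E_2^{0,n}`. -/
theorem nonempty_iso_of_cols_zero (E : E₂CohomologicalSpectralSequence C) {H : ℤ → C}
    (a : SpSeq.Abutment E H) (hfin : ∀ n, a.IsFinite n)
    (hz : ∀ pq : ℤ × ℤ, pq.1 ≠ 0 → IsZero ((E.page 2 le_rfl).X pq)) (n : ℤ) :
    Nonempty (H n ≅ (E.page 2 le_rfl).X (0, n)) := by
  have hst : SpSeq.StationaryAt E (n - n, n) 2 := by
    refine ⟨le_rfl, fun r h₀ hr => ⟨?_, ?_⟩⟩
    · apply IsZero.eq_of_src
      apply isZero_page E _ (hz _ ?_) r h₀
      change n - n - r ≠ 0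
      omega
    · apply IsZero.eq_of_tgt
      apply isZero_page E _ (hz _ ?_) r h₀
      change n - n + r ≠ 0
      omega
  obtain ⟨e1⟩ := Groth.Agent.S8347.result E a 2 le_rfl (fun m => m)
    (fun m q' hq' => hz (m - q', q') (by change m - q' ≠ 0; omega)) n (hfin n).2
    (isExhaustive_of_isFinite a n (hfin n)) hst
  have h0 : n - n = 0 := sub_self n
  rw [h0] at e1
  exact ⟨e1⟩

/-- One-row collapse: if all rows `q ≠ 0` of the second page vanish, then
`H^n ≅ E_2^{n,0}`. -/
theorem nonempty_iso_of_rows_zero (E : E₂CohomologicalSpectralSequence C) {H : ℤ → C}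
    (a : SpSeq.Abutment E H) (hfin : ∀ n, a.IsFinite n)
    (hz : ∀ pq : ℤ × ℤ, pq.2 ≠ 0 → IsZero ((E.page 2 le_rfl).X pq)) (n : ℤ) :
    Nonempty (H n ≅ (E.page 2 le_rfl).X (n, 0)) := by
  have hst : SpSeq.StationaryAt E (n - 0, 0) 2 := by
    refine ⟨le_rfl, fun r h₀ hr => ⟨?_, ?_⟩⟩
    · apply IsZero.eq_of_src
      apply isZero_page E _ (hz _ ?_) r h₀
      change (0 : ℤ) - (1 - r) ≠ 0
      omega
    · apply IsZero.eq_of_tgt
      apply isZero_page E _ (hz _ ?_) r h₀
      change (0 : ℤ) + (1 - r) ≠ 0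
      omega
  obtain ⟨e1⟩ := Groth.Agent.S8347.result E a 2 le_rfl (fun _ => 0)
    (fun m q' hq' => hz (m - q', q') hq') n (hfin n).2
    (isExhaustive_of_isFinite a n (hfin n)) hst
  have h0 : n - 0 = n := sub_zero n
  rw [h0] at e1
  exact ⟨e1⟩

end Groth.Agent.H42.SSCollapse
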