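import Mathlib

/-!
# Helper library (helper42): classes of objects adapted to an additive functor

`IsAdapted G 𝒜`: for every short exact `0 → P → Q → R → 0` with `P, Q ∈ 𝒜`, we have `R ∈ 𝒜` and
`0 → G P → G Q → G R → 0` is short exact.

* `acyclic_map`: `G` sends bounded below acyclic complexes with terms in `𝒜` to acyclic complexes.
* `quasiIso_map_of_mono`: `G` sends a monomorphism which is a quasi-isomorphism between bounded below
  complexes with terms in `𝒜` to a quasi-isomorphism.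
-/

set_option autoImplicit false
universe v v' u u'

open CategoryTheory Limits HomologicalComplex

namespace Groth.Agent.H42.Adapted

variable {A : Type u} [Category.{v} A] [Abelian A] {B : Type u'} [Category.{v'} B] [Abelian B]

/-- The class `𝒜` is adapted to the additive functor `G`. -/
def IsAdapted (G : A ⥤ B) [G.Additive] (𝒜 : ObjectProperty A) : Prop :=
  ∀ S : ShortComplex A, S.ShortExact → 𝒜 S.X₁ → 𝒜 S.X₂ → 𝒜 S.X₃ ∧ (S.map G).ShortExact

section Cycles

variable (M : CochainComplex A ℤ)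

lemma epi_toCycles (i j : ℤ) (hi : (ComplexShape.up ℤ).prev j = i) (h : M.ExactAt j) :
    Epi (M.toCycles i j) := by
  subst hi
  exact ((M.exactAt_iff j).1 h).epi_toCycles

/-- The short complex `0 → Zⁿ → Mⁿ → Zᵐ → 0`. -/
noncomputable def cyclesSC (n m : ℤ) : ShortComplex A :=
  ShortComplex.mk (M.iCycles n) (M.toCycles n m) (by
    rw [← cancel_mono (M.iCycles m), Category.assoc, M.toCycles_i, M.iCycles_d, zero_comp])

lemma cyclesSC_shortExact (n m : ℤ) (h : n + 1 = m) (hM : M.ExactAt m) :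
    (cyclesSC M n m).ShortExact := by
  subst h
  have hk : IsLimit (KernelFork.ofι (cyclesSC M n (n + 1)).f (cyclesSC M n (n + 1)).zero) :=
    isKernelOfComp (M.iCycles (n + 1)) (M.d n (n + 1)) (M.cyclesIsKernel n (n + 1) (by simp))
      (cyclesSC M n (n + 1)).zero (M.toCycles_i n (n + 1))
  exact
    { exact := ShortComplex.exact_of_f_is_kernel _ hk
      mono_f := inferInstanceAs (Mono (M.iCycles n))
      epi_g := epi_toCycles M n (n + 1) (by simp) hM }

end Cycles

section

variable (G : A ⥤ B) [G.Additive] (𝒜 : ObjectProperty A)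

theorem acyclic_map (hG : IsAdapted G 𝒜) (h0 : ∀ X : A, IsZero X → 𝒜 X)
    (M : CochainComplex A ℤ) (b : ℤ) [M.IsStrictlyGE b] (hM : M.Acyclic) (hT : ∀ n, 𝒜 (M.X n)) :
    ((G.mapHomologicalComplex (ComplexShape.up ℤ)).obj M).Acyclic := by
  have hZ0 : ∀ n : ℤ, n ≤ b → IsZero (M.cycles n) := by
    intro n hn
    have := epi_toCycles M (n - 1) n (by simp) (hM n)
    exact IsZero.of_epi (M.toCycles (n - 1) n) (M.isZero_of_isStrictlyGE b (n - 1) (by lia))
  have hZ : ∀ n : ℤ, 𝒜 (M.cycles n) := by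
    intro n
    by_cases hn : n ≤ b
    · exact h0 _ (hZ0 n hn)
    · have hb : b ≤ n := by lia
      induction n, hb using Int.le_induction with
      | base => exact h0 _ (hZ0 b le_rfl)
      | succ n hbn ih =>
        have ihn : 𝒜 (M.cycles n) := by
          by_cases hn' : n ≤ b
          · exact h0 _ (hZ0 n hn')
          · exact ih hn'
        exact (hG (cyclesSC M n (n + 1)) (cyclesSC_shortExact M n (n + 1) rfl (hM _)) ihn (hT n)).1
  intro n
  have h₁ := (hG (cyclesSC M (n - 1) n) (cyclesSC_shortExact M (n - 1) n (by lia) (hM _))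
    (hZ (n - 1)) (hT (n - 1))).2
  have h₂ := (hG (cyclesSC M n (n + 1)) (cyclesSC_shortExact M n (n + 1) rfl (hM _))
    (hZ n) (hT n)).2
  have h₃ := (hG (cyclesSC M (n + 1) (n + 1 + 1))
    (cyclesSC_shortExact M (n + 1) (n + 1 + 1) rfl (hM _)) (hZ (n + 1)) (hT (n + 1))).2
  have e₁ : Epi (G.map (M.toCycles (n - 1) n)) := h₁.epi_g
  have m₃ : Mono (G.map (M.iCycles (n + 1))) := h₃.mono_f
  rw [HomologicalComplex.exactAt_iff' _ (n - 1) n (n + 1) (by simp) (by simp)]
  have z : M.d (n - 1) n ≫ M.toCycles n (n + 1) = 0 := by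
    rw [← cancel_mono (M.iCycles (n + 1)), Category.assoc, M.toCycles_i, M.d_comp_d, zero_comp]
  let X₁ : ShortComplex B := ShortComplex.mk (G.map (M.d (n - 1) n)) (G.map (M.toCycles n (n + 1)))
    (by rw [← G.map_comp, z, G.map_zero])
  let φ₁ : X₁ ⟶ (cyclesSC M n (n + 1)).map G :=
    ShortComplex.homMk (G.map (M.toCycles (n - 1) n)) (𝟙 _) (𝟙 _)
      (by
        change G.map (M.toCycles (n - 1) n) ≫ G.map (M.iCycles n) = G.map (M.d (n - 1) n) ≫ 𝟙 _
        rw [← G.map_comp, M.toCycles_i, Category.comp_id])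
      (by
        change 𝟙 _ ≫ G.map (M.toCycles n (n + 1)) = G.map (M.toCycles n (n + 1)) ≫ 𝟙 _
        rw [Category.comp_id, Category.id_comp])
  let φ₂ : X₁ ⟶ ((G.mapHomologicalComplex (ComplexShape.up ℤ)).obj M).sc' (n - 1) n (n + 1) :=
    ShortComplex.homMk (𝟙 _) (𝟙 _) (G.map (M.iCycles (n + 1)))
      (by
        change 𝟙 _ ≫ G.map (M.d (n - 1) n) = G.map (M.d (n - 1) n) ≫ 𝟙 _
        rw [Category.comp_id, Category.id_comp])
      (by
        change 𝟙 _ ≫ G.map (M.d n (n + 1)) = G.map (M.toCycles n (n + 1)) ≫ G.map (M.iCycles (n + 1))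
        rw [Category.id_comp, ← G.map_comp, M.toCycles_i])
  have : Epi φ₁.τ₁ := e₁
  have : IsIso φ₁.τ₂ := inferInstanceAs (IsIso (𝟙 _))
  have : Mono φ₁.τ₃ := inferInstanceAs (Mono (𝟙 _))
  have : Epi φ₂.τ₁ := inferInstanceAs (Epi (𝟙 _))
  have : IsIso φ₂.τ₂ := inferInstanceAs (IsIso (𝟙 _))
  have : Mono φ₂.τ₃ := m₃
  have hX₁ : X₁.Exact := (ShortComplex.exact_iff_of_epi_of_isIso_of_mono φ₁).2 h₂.exact
  exact (ShortComplex.exact_iff_of_epi_of_isIso_of_mono φ₂).1 hX₁

end

section QuasiIso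

lemma quasiIso_f_of_acyclic {S : ShortComplex (CochainComplex B ℤ)} (hS : S.ShortExact)
    (h₃ : S.X₃.Acyclic) : QuasiIso S.f := by
  rw [quasiIso_iff]
  intro j
  rw [quasiIsoAt_iff_isIso_homologyMap]
  have hm : Mono (homologyMap S.f j) :=
    (hS.homology_exact₁ (j - 1) j (by simp)).mono_g
      ((h₃ (j - 1)).isZero_homology.eq_of_src _ _)
  have he : Epi (homologyMap S.f j) :=
    (hS.homology_exact₂ j).epi_f ((h₃ j).isZero_homology.eq_of_tgt _ _)
  exact isIso_of_mono_of_epi _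

variable (G : A ⥤ B) [G.Additive] (𝒜 : ObjectProperty A)

theorem quasiIso_map_of_mono (hG : IsAdapted G 𝒜) (h0 : ∀ X : A, IsZero X → 𝒜 X)
    {K L : CochainComplex A ℤ} (i : K ⟶ L) [Mono i] [QuasiIso i] (b : ℤ) [L.IsStrictlyGE b]
    (hK : ∀ n, 𝒜 (K.X n)) (hL : ∀ n, 𝒜 (L.X n)) :
    QuasiIso ((G.mapHomologicalComplex (ComplexShape.up ℤ)).map i) := by
  let S : ShortComplex (CochainComplex A ℤ) := ShortComplex.mk i (cokernel.π i) (cokernel.condition i)
  have hS : S.ShortExact :=
    { exact := ShortComplex.exact_cokernel i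
      mono_f := inferInstanceAs (Mono i)
      epi_g := inferInstanceAs (Epi (cokernel.π i)) }
  have hC : S.X₃.Acyclic := hS.acyclic_X₃ (inferInstanceAs (QuasiIso i))
  have hSn : ∀ n : ℤ, (S.map (HomologicalComplex.eval A (ComplexShape.up ℤ) n)).ShortExact :=
    fun n => hS.map_of_exact _
  have hGn := fun n : ℤ => hG _ (hSn n) (hK n) (hL n)
  have hCb : S.X₃.IsStrictlyGE b := by
    rw [CochainComplex.isStrictlyGE_iff]
    intro n hn
    have hz : IsZero ((S.map (HomologicalComplex.eval A (ComplexShape.up ℤ) n)).X₂) :=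
      L.isZero_of_isStrictlyGE b n hn
    exact @IsZero.of_epi _ _ _ _ _ ((S.map (HomologicalComplex.eval A (ComplexShape.up ℤ) n)).g)
      (hSn n).epi_g hz
  have hGC : ((G.mapHomologicalComplex (ComplexShape.up ℤ)).obj S.X₃).Acyclic :=
    acyclic_map G 𝒜 hG h0 S.X₃ b hC (fun n => (hGn n).1)
  have hS' : (S.map (G.mapHomologicalComplex (ComplexShape.up ℤ))).ShortExact :=
    HomologicalComplex.shortExact_of_degreewise_shortExact _ (fun n => (hGn n).2)
  exact quasiIso_f_of_acyclic hS' hGC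

end QuasiIso

end Groth.Agent.H42.Adapted
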