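import Mathlib.Algebra.Homology.DerivedCategory.Ext.Map
import Mathlib.Algebra.Homology.DerivedCategory.Ext.EnoughInjectives
import Mathlib.Algebra.Homology.DerivedCategory.Ext.ExactSequences

/-!
# Functoriality of `Ext.mapExactFunctor` in the functor (helper42 library, Mathlib only)

* `mapExactFunctor_natIso`: for a natural isomorphism `φ : F ≅ F'` of exact functors,
  `e.mapExactFunctor F' = mk₀ (φ.inv.app X) ≫ e.mapExactFunctor F ≫ mk₀ (φ.hom.app Y)`.
* `mapExactFunctor_comp_functor`: `e.mapExactFunctor (F ⋙ G) = (e.mapExactFunctor F).mapExactFunctor G`.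
* `mapExactFunctor_id`: `e.mapExactFunctor (𝟭 C) = e`.
* `postcompIsoBij`, `precompIsoBij`: composition with `mk₀` of an isomorphism is bijective.
All by induction on the degree through an injective embedding of the second variable.
-/

set_option autoImplicit false
universe w w' w'' v v' v'' u u' u''

open CategoryTheory CategoryTheory.Limits Abelian

namespace Groth.Agent.H42.ExtFunct

section

variable {C : Type u} [Category.{v} C] [Abelian C] [HasExt.{w} C]

/-- composition with (the class of) an isomorphism on the right is bijective -/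
theorem postcomp_mk₀_iso_bijective {X Y Y' : C} (θ : Y ≅ Y') (n : ℕ) :
    Function.Bijective (fun x : Ext.{w} X Y n => x.comp (Ext.mk₀ θ.hom) (add_zero n)) := by
  refine Function.bijective_iff_has_inverse.2
    ⟨fun y => y.comp (Ext.mk₀ θ.inv) (add_zero n), fun x => ?_, fun y => ?_⟩
  · dsimp only
    rw [Ext.comp_assoc_of_third_deg_zero, Ext.mk₀_comp_mk₀, Iso.hom_inv_id, Ext.comp_mk₀_id]
  · dsimp only
    rw [Ext.comp_assoc_of_third_deg_zero, Ext.mk₀_comp_mk₀, Iso.inv_hom_id, Ext.comp_mk₀_id]

/-- composition with (the class of) an isomorphism on the left is bijective -/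
theorem precomp_mk₀_iso_bijective {X X' Y : C} (θ : X' ≅ X) (n : ℕ) :
    Function.Bijective (fun x : Ext.{w} X Y n => (Ext.mk₀ θ.hom).comp x (zero_add n)) := by
  refine Function.bijective_iff_has_inverse.2
    ⟨fun y => (Ext.mk₀ θ.inv).comp y (zero_add n), fun x => ?_, fun y => ?_⟩
  · dsimp only
    rw [← Ext.comp_assoc_of_second_deg_zero, Ext.mk₀_comp_mk₀, Iso.inv_hom_id, Ext.mk₀_id_comp]
  · dsimp only
    rw [← Ext.comp_assoc_of_second_deg_zero, Ext.mk₀_comp_mk₀, Iso.hom_inv_id, Ext.mk₀_id_comp]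

variable [EnoughInjectives C]

/-- the short exact sequence `0 → Y → I → Q → 0` with `I` injective -/
noncomputable abbrev injSES (Y : C) : ShortComplex C :=
  ShortComplex.mk (Injective.ι Y) (cokernel.π (Injective.ι Y)) (cokernel.condition _)

theorem injSES_shortExact (Y : C) : (injSES Y).ShortExact :=
  { exact := ShortComplex.exact_of_g_is_cokernel _ (cokernelIsCokernel _) }

theorem exists_comp_extClass {X Y : C} {n : ℕ} (e : Ext.{w} X Y (n + 1)) :
    ∃ x' : Ext.{w} X (injSES Y).X₃ n, x'.comp (injSES_shortExact Y).extClass rfl = e :=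
  Ext.covariant_sequence_exact₁ X (injSES_shortExact Y) e (Ext.eq_zero_of_injective _) rfl

end

section

variable {C : Type u} [Category.{v} C] [Abelian C] [HasExt.{w} C]

theorem assoc4 {A B C' D E : C} {n : ℕ} (a : Ext.{w} A B 0) (b : Ext.{w} B C' n) (c : Ext.{w} C' D 0)
    (d : Ext.{w} D E 1) :
    (a.comp (b.comp c (add_zero n)) (zero_add n)).comp d rfl =
      a.comp (b.comp (c.comp d (zero_add 1)) rfl) (zero_add (n + 1)) := by
  rw [Ext.comp_assoc a (b.comp c (add_zero n)) d (zero_add n) rfl (by omega),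
    Ext.comp_assoc b c d (add_zero n) (zero_add 1) (by omega)]

theorem assoc4' {A B C' D E : C} {n : ℕ} (a : Ext.{w} A B 0) (b : Ext.{w} B C' n) (d : Ext.{w} C' D 1)
    (c : Ext.{w} D E 0) :
    a.comp ((b.comp d rfl).comp c (add_zero (n + 1))) (zero_add (n + 1)) =
      a.comp (b.comp (d.comp c (add_zero 1)) rfl) (zero_add (n + 1)) := by
  rw [Ext.comp_assoc b d c rfl (add_zero 1) (by omega)]

end

section

variable {C : Type u} [Category.{v} C] [Abelian C] [HasExt.{w} C] [EnoughInjectives C]
  {D : Type u'} [Category.{v'} D] [Abelian D] [HasExt.{w'} D]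

theorem natIso_step (F F' : C ⥤ D) [F.Additive] [F'.Additive]
    [PreservesFiniteLimits F] [PreservesFiniteColimits F]
    [PreservesFiniteLimits F'] [PreservesFiniteColimits F'] (φ : F ≅ F') {X : C} {n : ℕ}
    (S : ShortComplex C) (hS : S.ShortExact) (x' : Ext.{w} X S.X₃ n)
    (ih : x'.mapExactFunctor F' = (Ext.mk₀ (φ.inv.app X)).comp
      ((x'.mapExactFunctor F).comp (Ext.mk₀ (φ.hom.app S.X₃)) (add_zero n)) (zero_add n)) :
    (x'.comp hS.extClass rfl).mapExactFunctor F' =
      (Ext.mk₀ (φ.inv.app X)).comp (((x'.comp hS.extClass rfl).mapExactFunctor F).comp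
        (Ext.mk₀ (φ.hom.app S.X₁)) (add_zero (n + 1))) (zero_add (n + 1)) := by
  have hnat : (hS.map_of_exact F).extClass.comp (Ext.mk₀ (φ.hom.app S.X₁)) (add_zero 1) =
      (Ext.mk₀ (φ.hom.app S.X₃)).comp (hS.map_of_exact F').extClass (zero_add 1) :=
    ShortComplex.ShortExact.extClass_naturality (hS.map_of_exact F)
      (hS.map_of_exact F') (S.mapNatTrans φ.hom)
  have e1 : (x'.comp hS.extClass rfl).mapExactFunctor F' =
      (x'.mapExactFunctor F').comp (hS.map_of_exact F').extClass rfl := by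
    rw [Ext.mapExactFunctor_comp, Ext.mapExactFunctor_extClass]
    rfl
  have e2 : (x'.comp hS.extClass rfl).mapExactFunctor F =
      (x'.mapExactFunctor F).comp (hS.map_of_exact F).extClass rfl := by
    rw [Ext.mapExactFunctor_comp, Ext.mapExactFunctor_extClass]
    rfl
  rw [e1, e2, ih]
  refine (assoc4 _ _ _ _).trans ?_
  refine Eq.trans ?_ (assoc4' _ _ _ _).symm
  exact congrArg (fun t => (Ext.mk₀ (φ.inv.app X)).comp ((x'.mapExactFunctor F).comp t rfl)
    (zero_add (n + 1))) hnat.symm

theorem mapExactFunctor_natIso (F F' : C ⥤ D) [F.Additive] [F'.Additive]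
    [PreservesFiniteLimits F] [PreservesFiniteColimits F]
    [PreservesFiniteLimits F'] [PreservesFiniteColimits F'] (φ : F ≅ F') {X : C} {n : ℕ} :
    ∀ {Y : C} (e : Ext.{w} X Y n), e.mapExactFunctor F' =
      (Ext.mk₀ (φ.inv.app X)).comp ((e.mapExactFunctor F).comp (Ext.mk₀ (φ.hom.app Y)) (add_zero n))
        (zero_add n) := by
  induction n with
  | zero =>
    intro Y e
    obtain ⟨f, rfl⟩ := (Ext.mk₀_bijective X Y).2 e
    rw [Ext.mapExactFunctor_mk₀, Ext.mapExactFunctor_mk₀, Ext.mk₀_comp_mk₀, Ext.mk₀_comp_mk₀]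
    congr 1
    rw [φ.hom.naturality f, Iso.inv_hom_id_app_assoc]
  | succ n ih =>
    intro Y e
    obtain ⟨x', rfl⟩ := exists_comp_extClass e
    exact natIso_step F F' φ (injSES Y) (injSES_shortExact Y) x' (ih x')

end

section

variable {C : Type u} [Category.{v} C] [Abelian C] [HasExt.{w} C] [EnoughInjectives C]
  {D : Type u'} [Category.{v'} D] [Abelian D] [HasExt.{w'} D]
  {E : Type u''} [Category.{v''} E] [Abelian E] [HasExt.{w''} E]

theorem comp_functor_step (F : C ⥤ D) (G : D ⥤ E) [F.Additive] [G.Additive]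
    [PreservesFiniteLimits F] [PreservesFiniteColimits F]
    [PreservesFiniteLimits G] [PreservesFiniteColimits G]
    [(F ⋙ G).Additive] [PreservesFiniteLimits (F ⋙ G)] [PreservesFiniteColimits (F ⋙ G)]
    {X : C} {n : ℕ} (S : ShortComplex C) (hS : S.ShortExact) (x' : Ext.{w} X S.X₃ n)
    (ih : x'.mapExactFunctor (F ⋙ G) = (x'.mapExactFunctor F).mapExactFunctor G) :
    (x'.comp hS.extClass rfl).mapExactFunctor (F ⋙ G) =
      ((x'.comp hS.extClass rfl).mapExactFunctor F).mapExactFunctor G := by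
  have e1 : (x'.comp hS.extClass rfl).mapExactFunctor (F ⋙ G) =
      (x'.mapExactFunctor (F ⋙ G)).comp (hS.map_of_exact (F ⋙ G)).extClass rfl := by
    rw [Ext.mapExactFunctor_comp, Ext.mapExactFunctor_extClass]
    rfl
  have e0 : (x'.comp hS.extClass rfl).mapExactFunctor F =
      (x'.mapExactFunctor F).comp (hS.map_of_exact F).extClass rfl := by
    rw [Ext.mapExactFunctor_comp, Ext.mapExactFunctor_extClass]
    rfl
  have e2 : ((x'.comp hS.extClass rfl).mapExactFunctor F).mapExactFunctor G =
      ((x'.mapExactFunctor F).mapExactFunctor G).comp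
        ((hS.map_of_exact F).map_of_exact G).extClass rfl := by
    refine (congrArg (fun t => Ext.mapExactFunctor G t) e0).trans ?_
    refine (Ext.mapExactFunctor_comp (F := G) (x'.mapExactFunctor F)
      (hS.map_of_exact F).extClass rfl).trans ?_
    exact congrArg (fun t => ((x'.mapExactFunctor F).mapExactFunctor G).comp t rfl)
      (Ext.mapExactFunctor_extClass (F := G) (hS.map_of_exact F))
  rw [e1, e2, ih]
  rfl

theorem mapExactFunctor_comp_functor (F : C ⥤ D) (G : D ⥤ E) [F.Additive] [G.Additive]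
    [PreservesFiniteLimits F] [PreservesFiniteColimits F]
    [PreservesFiniteLimits G] [PreservesFiniteColimits G]
    [(F ⋙ G).Additive] [PreservesFiniteLimits (F ⋙ G)] [PreservesFiniteColimits (F ⋙ G)]
    {X : C} {n : ℕ} :
    ∀ {Y : C} (e : Ext.{w} X Y n), e.mapExactFunctor (F ⋙ G) =
      (e.mapExactFunctor F).mapExactFunctor G := by
  induction n with
  | zero =>
    intro Y e
    obtain ⟨f, rfl⟩ := (Ext.mk₀_bijective X Y).2 e
    rw [Ext.mapExactFunctor_mk₀, Ext.mapExactFunctor_mk₀, Ext.mapExactFunctor_mk₀]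
    rfl
  | succ n ih =>
    intro Y e
    obtain ⟨x', rfl⟩ := exists_comp_extClass e
    exact comp_functor_step F G (injSES Y) (injSES_shortExact Y) x' (ih x')

theorem id_step {X : C} {n : ℕ} (S : ShortComplex C) (hS : S.ShortExact) (x' : Ext.{w} X S.X₃ n)
    (ih : x'.mapExactFunctor (𝟭 C) = x') :
    (x'.comp hS.extClass rfl).mapExactFunctor (𝟭 C) = x'.comp hS.extClass rfl := by
  have e1 : (x'.comp hS.extClass rfl).mapExactFunctor (𝟭 C) =
      (x'.mapExactFunctor (𝟭 C)).comp (hS.map_of_exact (𝟭 C)).extClass rfl := by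
    rw [Ext.mapExactFunctor_comp, Ext.mapExactFunctor_extClass]
    rfl
  rw [e1, ih]
  rfl

theorem mapExactFunctor_id {X : C} {n : ℕ} :
    ∀ {Y : C} (e : Ext.{w} X Y n), e.mapExactFunctor (𝟭 C) = e := by
  induction n with
  | zero =>
    intro Y e
    obtain ⟨f, rfl⟩ := (Ext.mk₀_bijective X Y).2 e
    rw [Ext.mapExactFunctor_mk₀]
    rfl
  | succ n ih =>
    intro Y e
    obtain ⟨x', rfl⟩ := exists_comp_extClass e
    exact id_step (injSES Y) (injSES_shortExact Y) x' (ih x')

end

end Groth.Agent.H42.ExtFunct
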