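import Groth.Prelude.Def_EtCore
import Groth.Agent.H45.EtPullExact
import Groth.Agent.H42.ExtFunct

/-!
# Functoriality of the pullback map on étale cohomology (helper42 library)

* `Hpull_apply`: unfolding of `EtCore.Hpull`.
* `Hpull_comp`: for `a ≫ b = c`, `Hpull c G q = e₁ ∘ Hpull a (b⁻¹G) q ∘ Hpull b G q` with `e₁` bijective.
-/

set_option autoImplicit false
universe u

open CategoryTheory CategoryTheory.Limits AlgebraicGeometry Opposite Abelian

namespace Groth.Agent.H42.HpullComp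

open Groth.Agent.H42.ExtFunct

theorem Hpull_apply {X Y : Scheme.{u}} (f : X ⟶ Y) [PreservesFiniteLimits (EtCoh.pull f)]
    (G : EtCoh.Ab Y) (n : ℕ) (x : EtCoh.H Y G n) :
    EtCore.Hpull f G n x =
      (Ext.mk₀ (EtCore.pullConst f ℤ).inv).comp (Ext.mapExactFunctor (EtCoh.pull f) x) (zero_add n) :=
  rfl

theorem Hpull_comp {A B C : Scheme.{u}} (a : A ⟶ B) (b : B ⟶ C) (c : A ⟶ C) (w : a ≫ b = c)
    [PreservesFiniteLimits (EtCoh.pull a)] [PreservesFiniteLimits (EtCoh.pull b)]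
    [PreservesFiniteLimits (EtCoh.pull c)] (G : EtCoh.Ab C) (q : ℕ) :
    ∃ (e₁ : EtCoh.H A ((EtCoh.pull a).obj ((EtCoh.pull b).obj G)) q →
        EtCoh.H A ((EtCoh.pull c).obj G) q), Function.Bijective e₁ ∧
      ∀ x : EtCoh.H C G q, EtCore.Hpull c G q x =
        e₁ (EtCore.Hpull a ((EtCoh.pull b).obj G) q (EtCore.Hpull b G q x)) := by
  subst w
  let φ : EtCoh.pull (a ≫ b) ≅ EtCoh.pull b ⋙ EtCoh.pull a := EtCore.pullComp a b
  let pa := EtCore.pullConst a ℤ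
  let pb := EtCore.pullConst b ℤ
  let pab := EtCore.pullConst (a ≫ b) ℤ
  let u : EtCoh.const A ℤ ≅ EtCoh.const A ℤ :=
    pab.symm ≪≫ φ.app (EtCoh.const C ℤ) ≪≫ (EtCoh.pull a).mapIso pb ≪≫ pa
  let θ : (EtCoh.pull a).obj ((EtCoh.pull b).obj G) ≅ (EtCoh.pull (a ≫ b)).obj G :=
    (φ.app G).symm
  refine ⟨fun t => (Ext.mk₀ u.hom).comp (t.comp (Ext.mk₀ θ.hom) (add_zero q)) (zero_add q),
    (precomp_mk₀_iso_bijective u q).comp (postcomp_mk₀_iso_bijective θ q), fun x => ?_⟩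
  have : PreservesFiniteLimits (EtCoh.pull b ⋙ EtCoh.pull a) := comp_preservesFiniteLimits _ _
  have : PreservesFiniteColimits (EtCoh.pull b ⋙ EtCoh.pull a) := comp_preservesFiniteColimits _ _
  set y := Ext.mapExactFunctor (EtCoh.pull b) x with hy
  set Y := Ext.mapExactFunctor (EtCoh.pull a) y with hY
  have h1 : Ext.mapExactFunctor (EtCoh.pull (a ≫ b)) x =
      (Ext.mk₀ (φ.hom.app (EtCoh.const C ℤ))).comp (Y.comp (Ext.mk₀ (φ.inv.app G)) (add_zero q))
        (zero_add q) := by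
    have := mapExactFunctor_natIso (EtCoh.pull b ⋙ EtCoh.pull a) (EtCoh.pull (a ≫ b)) φ.symm x
    rw [mapExactFunctor_comp_functor] at this
    exact this
  have h2 : Ext.mapExactFunctor (EtCoh.pull a) ((Ext.mk₀ pb.inv).comp y (zero_add q)) =
      (Ext.mk₀ ((EtCoh.pull a).map pb.inv)).comp Y (zero_add q) := by
    rw [Ext.mapExactFunctor_comp, Ext.mapExactFunctor_mk₀]
  rw [Hpull_apply, Hpull_apply, Hpull_apply, h1, h2]
  rw [Ext.mk₀_comp_mk₀_assoc, Ext.mk₀_comp_mk₀_assoc]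
  dsimp only
  rw [Ext.comp_assoc (Ext.mk₀ (pa.inv ≫ (EtCoh.pull a).map pb.inv)) Y (Ext.mk₀ θ.hom)
    (zero_add q) (add_zero q) (by omega), Ext.mk₀_comp_mk₀_assoc]
  congr 2
  simp only [u, Iso.trans_hom, Iso.symm_hom, Iso.app_hom, Functor.mapIso_hom, Category.assoc,
    Iso.hom_inv_id_assoc]
  rw [← CategoryTheory.Functor.map_comp, Iso.hom_inv_id, CategoryTheory.Functor.map_id]
  exact congrArg (fun t => pab.inv ≫ t) (Category.comp_id (φ.hom.app (EtCoh.const C ℤ))).symm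

/-- base change along the identity is the identity functor on the small étale site -/
noncomputable def bcIdApp (A : Scheme.{u}) (U : A.Etale) : (EtCoh.bc (𝟙 A)).obj U ≅ U :=
  have : IsIso (pullback.fst U.hom (𝟙 A)) := inferInstance
  MorphismProperty.Over.isoMk (A := (EtCoh.bc (𝟙 A)).obj U) (B := U)
    (show pullback U.hom (𝟙 A) ≅ U.left from asIso (pullback.fst U.hom (𝟙 A)))
    (by
      show pullback.fst U.hom (𝟙 A) ≫ U.hom = pullback.snd U.hom (𝟙 A)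
      rw [pullback.condition, Category.comp_id])

noncomputable def bcId (A : Scheme.{u}) : EtCoh.bc (𝟙 A) ≅ 𝟭 A.Etale :=
  NatIso.ofComponents (bcIdApp A)
    (by
      intro U V f
      apply MorphismProperty.Over.Hom.ext
      show ((EtCoh.bc (𝟙 A)).map f).left ≫ (bcIdApp A V).hom.left =
        (bcIdApp A U).hom.left ≫ f.left
      exact pullback.lift_fst _ _ _)

/-- `(𝟙 A)_* ≅ id`. -/
noncomputable def pushId (A : Scheme.{u}) : EtCoh.push (𝟙 A) ≅ 𝟭 (EtCoh.Ab A) :=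
  Functor.sheafPushforwardContinuousId' (bcId A) AddCommGrpCat.{u + 1} A.smallEtaleTopology

/-- `(𝟙 A)⁻¹ ≅ id`. -/
noncomputable def pullId (A : Scheme.{u}) : EtCoh.pull (𝟙 A) ≅ 𝟭 (EtCoh.Ab A) :=
  Adjunction.leftAdjointUniq (EtCoh.pullPushAdj (𝟙 A))
    ((Adjunction.id (C := EtCoh.Ab A)).ofNatIsoRight (pushId A).symm)

theorem Hpull_id_bijective (A : Scheme.{u}) [PreservesFiniteLimits (EtCoh.pull (𝟙 A))]
    (G : EtCoh.Ab A) (q : ℕ) : Function.Bijective (EtCore.Hpull (𝟙 A) G q) := by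
  let ψ := pullId A
  have h : ∀ x : EtCoh.H A G q, EtCore.Hpull (𝟙 A) G q x =
      (Ext.mk₀ ((EtCore.pullConst (𝟙 A) ℤ).inv ≫ ψ.hom.app _)).comp
        (x.comp (Ext.mk₀ (ψ.inv.app G)) (add_zero q)) (zero_add q) := by
    intro x
    rw [Hpull_apply]
    have := mapExactFunctor_natIso (𝟭 (EtCoh.Ab A)) (EtCoh.pull (𝟙 A)) ψ.symm x
    rw [mapExactFunctor_id] at this
    rw [this, Ext.mk₀_comp_mk₀_assoc]
    rfl
  let θ₁ : EtCoh.const A ℤ ≅ EtCoh.const A ℤ := (EtCore.pullConst (𝟙 A) ℤ).symm ≪≫ ψ.app _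
  let θ₂ : G ≅ (EtCoh.pull (𝟙 A)).obj G := (ψ.app G).symm
  have hb := (precomp_mk₀_iso_bijective θ₁ q).comp (postcomp_mk₀_iso_bijective (X := EtCoh.const A ℤ) θ₂ q)
  convert hb using 1
  funext x
  exact h x

section Iso

attribute [local instance] Groth.Agent.H45.preservesFiniteLimits_pullAb

theorem Hpull_iso_aux1 {A B : Scheme.{u}} (ε : A ≅ B) (G' : EtCoh.Ab A) (q : ℕ) :
    Function.Injective (EtCore.Hpull ε.inv G' q) ∧
      Function.Surjective (EtCore.Hpull ε.hom ((EtCoh.pull ε.inv).obj G') q) := by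
  obtain ⟨e₁, he₁, h⟩ := Hpull_comp ε.hom ε.inv (𝟙 A) ε.hom_inv_id G' q
  have hb := Hpull_id_bijective A G' q
  have hfun : ⇑(EtCore.Hpull (𝟙 A) G' q) =
      e₁ ∘ ⇑(EtCore.Hpull ε.hom ((EtCoh.pull ε.inv).obj G') q) ∘ ⇑(EtCore.Hpull ε.inv G' q) := by
    funext x
    exact h x
  rw [hfun] at hb
  refine ⟨?_, ?_⟩
  · have := hb.injective
    rw [← Function.comp_assoc] at this
    exact this.of_comp
  · have := hb.surjective
    have h2 : Function.Surjective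
        (e₁ ∘ ⇑(EtCore.Hpull ε.hom ((EtCoh.pull ε.inv).obj G') q)) := by
      rw [← Function.comp_assoc] at this
      exact this.of_comp
    intro y
    obtain ⟨z, hz⟩ := h2 (e₁ y)
    exact ⟨z, he₁.injective hz⟩

theorem Hpull_iso_aux2 {A B : Scheme.{u}} (ε : A ≅ B) (G' : EtCoh.Ab A) (q : ℕ) :
    Function.Bijective (EtCore.Hpull ε.inv G' q) := by
  obtain ⟨e₁, he₁, h⟩ := Hpull_comp ε.hom ε.inv (𝟙 A) ε.hom_inv_id G' q
  have hb := Hpull_id_bijective A G' q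
  have hfun : ⇑(EtCore.Hpull (𝟙 A) G' q) =
      e₁ ∘ ⇑(EtCore.Hpull ε.hom ((EtCoh.pull ε.inv).obj G') q) ∘ ⇑(EtCore.Hpull ε.inv G' q) := by
    funext x
    exact h x
  rw [hfun] at hb
  have hf : Function.Bijective (EtCore.Hpull ε.hom ((EtCoh.pull ε.inv).obj G') q) :=
    ⟨(Hpull_iso_aux1 ε.symm ((EtCoh.pull ε.inv).obj G') q).1, (Hpull_iso_aux1 ε G' q).2⟩
  refine ⟨(Hpull_iso_aux1 ε G' q).1, ?_⟩
  intro y
  obtain ⟨x, hx⟩ := hb.surjective (e₁ (EtCore.Hpull ε.hom ((EtCoh.pull ε.inv).obj G') q y))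
  exact ⟨x, hf.injective (he₁.injective hx)⟩

/-- the pullback map on étale cohomology along an isomorphism of schemes is bijective -/
theorem Hpull_iso_bijective {A B : Scheme.{u}} (ε : A ≅ B)
    [PreservesFiniteLimits (EtCoh.pull ε.hom)] (G : EtCoh.Ab B) (q : ℕ) :
    Function.Bijective (EtCore.Hpull ε.hom G q) :=
  Hpull_iso_aux2 ε.symm G q

end Iso

end Groth.Agent.H42.HpullComp
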