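import Groth.Prelude.Def_SGA4b
import Groth.Agent.H42.HpullComp

/-!
# Units of the inverse/direct image adjunction for étale sheaves of sets under composition
(helper42 library)

* `unit_comp_abstract`: abstract statement for composable adjunctions.
* `adjSh_unit_comp`: for `a ≫ b = c`, `unit_c F = unit_b F ≫ b_*(unit_a (b^*F)) ≫ θ` with `θ` iso.
* `isIso_adjSh_unit_of_iso`: the unit along an isomorphism of schemes is an isomorphism.
-/

set_option autoImplicit false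
universe u

open CategoryTheory CategoryTheory.Limits AlgebraicGeometry Opposite

namespace Groth.Agent.H42.AdjShComp

section Abstract

variable {𝒜 ℬ 𝒞 : Type*} [Category 𝒜] [Category ℬ] [Category 𝒞]
  {Lb : 𝒞 ⥤ ℬ} {Rb : ℬ ⥤ 𝒞} {La : ℬ ⥤ 𝒜} {Ra : 𝒜 ⥤ ℬ} {Lc : 𝒞 ⥤ 𝒜} {Rc : 𝒜 ⥤ 𝒞}

theorem unit_comp_abstract (adjb : Lb ⊣ Rb) (adja : La ⊣ Ra) (adjc : Lc ⊣ Rc)
    (κ : Ra ⋙ Rb ≅ Rc) (F : 𝒞) :
    ∃ θ : Rb.obj (Ra.obj (La.obj (Lb.obj F))) ≅ Rc.obj (Lc.obj F),
      adjc.unit.app F = adjb.unit.app F ≫ Rb.map (adja.unit.app (Lb.obj F)) ≫ θ.hom := by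
  let adj' : Lb ⋙ La ⊣ Rc := (adjb.comp adja).ofNatIsoRight κ
  let φ := Adjunction.leftAdjointUniq adjc adj'
  refine ⟨κ.app _ ≪≫ Rc.mapIso (φ.app F).symm, ?_⟩
  have h1 := Adjunction.unit_leftAdjointUniq_hom_app adjc adj' F
  have h2 : adj'.unit.app F = adjb.unit.app F ≫ Rb.map (adja.unit.app (Lb.obj F)) ≫
      κ.hom.app _ := by
    simp [adj', Adjunction.comp_unit_app]
  rw [h2] at h1
  simp only [Iso.trans_hom, Iso.app_hom, Functor.mapIso_hom, Iso.symm_hom, Iso.app_inv]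
  calc adjc.unit.app F
      = adjc.unit.app F ≫ Rc.map (φ.hom.app F) ≫ Rc.map (φ.inv.app F) := by
        rw [← Functor.map_comp, Iso.hom_inv_id_app, CategoryTheory.Functor.map_id]
        exact (Category.comp_id _).symm
    _ = (adjc.unit.app F ≫ Rc.map (φ.hom.app F)) ≫ Rc.map (φ.inv.app F) := by
        rw [Category.assoc]
    _ = _ := by
        rw [h1]
        simp only [Category.assoc]

end Abstract

open Groth.Agent.H42.HpullComp

theorem adjSh_unit_comp {A B C : Scheme.{u}} (a : A ⟶ B) (b : B ⟶ C) (c : A ⟶ C) (w : a ≫ b = c)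
    (F : EtDesc.Sh C) :
    ∃ θ : (EtDesc.pushSh b).obj ((EtDesc.pushSh a).obj ((EtDesc.pullSh a).obj
        ((EtDesc.pullSh b).obj F))) ≅ (EtDesc.pushSh c).obj ((EtDesc.pullSh c).obj F),
      (EtDesc.adjSh c).unit.app F = (EtDesc.adjSh b).unit.app F ≫
        (EtDesc.pushSh b).map ((EtDesc.adjSh a).unit.app ((EtDesc.pullSh b).obj F)) ≫ θ.hom := by
  subst w
  exact unit_comp_abstract (EtDesc.adjSh b) (EtDesc.adjSh a) (EtDesc.adjSh (a ≫ b))
    (EtDesc.pushCompSh b a) F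

/-- `(𝟙 A)_* ≅ id` for sheaves of sets. -/
noncomputable def pushShId (A : Scheme.{u}) : EtDesc.pushSh (𝟙 A) ≅ 𝟭 (EtDesc.Sh A) :=
  Functor.sheafPushforwardContinuousId' (bcId A) (Type (u + 1)) A.smallEtaleTopology

theorem isIso_unit_id (A : Scheme.{u}) (G : EtDesc.Sh A) :
    IsIso ((EtDesc.adjSh (𝟙 A)).unit.app G) := by
  let adj' : 𝟭 (EtDesc.Sh A) ⊣ EtDesc.pushSh (𝟙 A) :=
    (Adjunction.id (C := EtDesc.Sh A)).ofNatIsoRight (pushShId A).symm
  have h1 := Adjunction.unit_leftAdjointUniq_hom_app (EtDesc.adjSh (𝟙 A)) adj' G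
  have h2 : IsIso (adj'.unit.app G) := by
    have : adj'.unit.app G = (pushShId A).inv.app G := by
      simp [adj']
    rw [this]
    infer_instance
  rw [← h1] at h2
  exact IsIso.of_isIso_comp_right _
    ((EtDesc.pushSh (𝟙 A)).map ((Adjunction.leftAdjointUniq (EtDesc.adjSh (𝟙 A)) adj').hom.app G))

theorem mono_unit_inv {A B : Scheme.{u}} (ε : A ≅ B) (G' : EtDesc.Sh A) :
    Mono ((EtDesc.adjSh ε.inv).unit.app G') := by
  obtain ⟨θ, h⟩ := adjSh_unit_comp ε.hom ε.inv (𝟙 A) ε.hom_inv_id G'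
  have hi := isIso_unit_id A G'
  rw [h] at hi
  exact mono_of_mono _ ((EtDesc.pushSh ε.inv).map
    ((EtDesc.adjSh ε.hom).unit.app ((EtDesc.pullSh ε.inv).obj G')) ≫ θ.hom)

theorem isIso_unit_inv {A B : Scheme.{u}} (ε : A ≅ B) (G' : EtDesc.Sh A) :
    IsIso ((EtDesc.adjSh ε.inv).unit.app G') := by
  obtain ⟨θ, h⟩ := adjSh_unit_comp ε.hom ε.inv (𝟙 A) ε.hom_inv_id G'
  have hi := isIso_unit_id A G'
  rw [h] at hi
  have hm : Mono ((EtDesc.adjSh ε.hom).unit.app ((EtDesc.pullSh ε.inv).obj G')) :=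
    mono_unit_inv ε.symm _
  have : (EtDesc.pushSh ε.inv).PreservesMonomorphisms :=
    Functor.preservesMonomorphisms_of_adjunction (EtDesc.adjSh ε.inv)
  set u := (EtDesc.adjSh ε.inv).unit.app G' with hu
  set w := (EtDesc.pushSh ε.inv).map
    ((EtDesc.adjSh ε.hom).unit.app ((EtDesc.pullSh ε.inv).obj G')) ≫ θ.hom with hw
  have hwm : Mono w := by
    rw [hw]
    infer_instance
  have hws : IsSplitEpi w := IsSplitEpi.mk' ⟨inv (u ≫ w) ≫ u, by
    rw [Category.assoc, IsIso.inv_hom_id]⟩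
  have hwi : IsIso w := isIso_of_mono_of_isSplitEpi w
  exact IsIso.of_isIso_comp_right u w

/-- the unit `G → ε_* ε^* G` along an isomorphism of schemes is an isomorphism -/
theorem isIso_unit_of_iso {A B : Scheme.{u}} (ε : A ≅ B) (G : EtDesc.Sh B) :
    IsIso ((EtDesc.adjSh ε.hom).unit.app G) :=
  isIso_unit_inv ε.symm G

end Groth.Agent.H42.AdjShComp
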