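import Groth.Agent.H42.CohTopLocal
import Mathlib.Algebra.Homology.ShortComplex.Ab

/-!
# Helper library (helper42): higher direct images as sheafified cohomology presheaves
-/

set_option autoImplicit false

universe u

open CategoryTheory Limits Opposite TopologicalSpace Abelian

namespace Groth.Agent.H42.CohTopLib

variable {X : TopCat.{u}}

lemma E_zero (U : Opens X) (G : CohTop.Ab X) : E U G 0 = 0 := by
  have h := E_comp U (0 : (Zf X).obj U ⟶ G) (0 : G ⟶ G)
  rw [comp_zero] at h
  rw [h]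
  rfl

lemma E_add (U : Opens X) (G : CohTop.Ab X) (φ ψ : (Zf X).obj U ⟶ G) :
    E U G (φ + ψ) = E U G φ + E U G ψ := by
  have h1 : φ + ψ = biprod.lift φ ψ ≫ (biprod.fst + biprod.snd) := by
    rw [Preadditive.comp_add, biprod.lift_fst, biprod.lift_snd]
  have h2 := E_comp U (biprod.lift φ ψ) (biprod.fst + biprod.snd : G ⊞ G ⟶ G)
  have h3 := E_comp U (biprod.lift φ ψ) (biprod.fst : G ⊞ G ⟶ G)
  have h4 := E_comp U (biprod.lift φ ψ) (biprod.snd : G ⊞ G ⟶ G)
  rw [biprod.lift_fst] at h3
  rw [biprod.lift_snd] at h4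
  rw [h1, h2, h3, h4]
  rfl

/-- `E` as an additive equivalence. -/
noncomputable def EAdd (U : Opens X) (G : CohTop.Ab X) : ((Zf X).obj U ⟶ G) ≃+ G.obj.obj (op U) :=
  { E U G with map_add' := E_add U G }

section AbLemma

/-- The homology of a short complex of abelian groups, computed by a surjection from the cycles
whose kernel consists of the boundaries. -/
noncomputable def abHomologyIsoOfKer (S : ShortComplex AddCommGrpCat.{u}) (M : AddCommGrpCat.{u})
    (κ : AddMonoidHom.ker S.g.hom →+ M) (hκ : Function.Surjective κ)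
    (hker : AddMonoidHom.range S.abToCycles = κ.ker) : S.homology ≅ M :=
  S.abHomologyIso ≪≫ AddEquiv.toAddCommGrpIso
    ((QuotientAddGroup.quotientAddEquivOfEq hker).trans
      (QuotientAddGroup.quotientKerEquivOfSurjective κ hκ))

lemma homologyπ_abHomologyIsoOfKer (S : ShortComplex AddCommGrpCat.{u}) (M : AddCommGrpCat.{u})
    (κ : AddMonoidHom.ker S.g.hom →+ M) (hκ : Function.Surjective κ)
    (hker : AddMonoidHom.range S.abToCycles = κ.ker) :
    S.homologyπ ≫ (abHomologyIsoOfKer S M κ hκ hker).hom =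
      S.abCyclesIso.hom ≫ AddCommGrpCat.ofHom κ := by
  have h := S.abLeftHomologyData.homologyπ_comp_homologyIso_hom
  let B : S.abLeftHomologyData.H ⟶ M := (AddEquiv.toAddCommGrpIso
    ((QuotientAddGroup.quotientAddEquivOfEq hker).trans
      (QuotientAddGroup.quotientKerEquivOfSurjective κ hκ))).hom
  calc S.homologyπ ≫ (abHomologyIsoOfKer S M κ hκ hker).hom
      = (S.homologyπ ≫ S.abLeftHomologyData.homologyIso.hom) ≫ B := (Category.assoc _ _ _).symm
    _ = (S.abLeftHomologyData.cyclesIso.hom ≫ S.abLeftHomologyData.π) ≫ B := by rw [h]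
    _ = S.abLeftHomologyData.cyclesIso.hom ≫ (S.abLeftHomologyData.π ≫ B) := Category.assoc _ _ _
    _ = S.abCyclesIso.hom ≫ AddCommGrpCat.ofHom κ := rfl

end AbLemma


section Sections

variable {F : CohTop.Ab X} (R : InjectiveResolution F) (n : ℕ)

lemma E_symm_add (U : Opens X) (G : CohTop.Ab X) (a b : G.obj.obj (op U)) :
    (E U G).symm (a + b) = (E U G).symm a + (E U G).symm b := by
  apply (E U G).injective
  rw [E_add, Equiv.apply_symm_apply, Equiv.apply_symm_apply, Equiv.apply_symm_apply]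

lemma d_comp_d_app (W : Opens X) :
    (R.cocomplex.d n (n + 1)).hom.app (op W) ≫ (R.cocomplex.d (n + 1) (n + 2)).hom.app (op W) =
      0 :=
  congrArg (fun φ => φ.hom.app (op W)) (R.cocomplex.d_comp_d n (n + 1) (n + 2))

/-- The complex of sections over `W` of three consecutive terms of the resolution. -/
noncomputable abbrev SW (W : Opens X) : ShortComplex AddCommGrpCat.{u} :=
  ShortComplex.mk ((R.cocomplex.d n (n + 1)).hom.app (op W))
    ((R.cocomplex.d (n + 1) (n + 2)).hom.app (op W)) (d_comp_d_app R n W)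

lemma extMk_congr {Z : CohTop.Ab X} {k : ℕ} {a b : Z ⟶ R.cocomplex.X k} (h : a = b) (m : ℕ)
    (hm : k + 1 = m) (ha : a ≫ R.cocomplex.d k m = 0) :
    R.extMk a m hm ha = R.extMk b m hm (h ▸ ha) := by
  subst h
  rfl

lemma cocycle_of_mem_ker (W : Opens X) (b : (R.cocomplex.X (n + 1)).obj.obj (op W))
    (hb : (R.cocomplex.d (n + 1) (n + 2)).hom.app (op W) b = 0) :
    (E W _).symm b ≫ R.cocomplex.d (n + 1) (n + 2) = 0 := by
  apply (E W _).injective
  rw [E_comp, Equiv.apply_symm_apply, E_zero]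
  exact hb

/-- The map from cocycles over `W` to `Ext`. -/
noncomputable def κ (W : Opens X) : AddMonoidHom.ker (SW R n W).g.hom →+
    (AddCommGrpCat.of (Ext ((Zf X).obj W) F (n + 1)) : AddCommGrpCat.{u}) :=
  AddMonoidHom.mk' (fun z => R.extMk ((E W _).symm z.1) (n + 2) rfl
      (cocycle_of_mem_ker R n W z.1 z.2)) (by
    intro z z'
    rw [R.add_extMk]
    exact extMk_congr R (E_symm_add W _ z.1 z'.1) _ _ _)

lemma κ_apply (W : Opens X) (z : AddMonoidHom.ker (SW R n W).g.hom) :
    κ R n W z = R.extMk ((E W _).symm z.1) (n + 2) rfl (cocycle_of_mem_ker R n W z.1 z.2) := rfl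

lemma κ_surjective (W : Opens X) : Function.Surjective (κ R n W) := by
  intro ξ
  obtain ⟨s, hs, rfl⟩ := R.extMk_surjective
    (ξ : Ext ((Zf X).obj W) F (n + 1)) (n + 2) rfl
  have hz : (R.cocomplex.d (n + 1) (n + 2)).hom.app (op W) (E W _ s) = 0 := by
    rw [← E_comp, hs, E_zero]
  refine ⟨⟨E W _ s, hz⟩, ?_⟩
  rw [κ_apply]
  exact (extMk_congr R ((E W _).symm_apply_apply s).symm _ _ hs).symm

lemma κ_ker (W : Opens X) : AddMonoidHom.range (SW R n W).abToCycles = (κ R n W).ker := by
  ext z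
  rw [AddMonoidHom.mem_range, AddMonoidHom.mem_ker, κ_apply,
    R.extMk_eq_zero_iff _ _ _ _ n rfl]
  constructor
  · rintro ⟨a, rfl⟩
    refine ⟨(E W _).symm a, ?_⟩
    apply (E W _).injective
    rw [E_comp, Equiv.apply_symm_apply, Equiv.apply_symm_apply]
    rfl
  · rintro ⟨g, hg⟩
    refine ⟨E W _ g, Subtype.ext ?_⟩
    have := congrArg (E W _) hg
    rw [E_comp, Equiv.apply_symm_apply] at this
    exact this

/-- The cohomology of the sections over `W` of an injective resolution of `F` is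
`Ext(Z_W, F)`. -/
noncomputable def ΦW (W : Opens X) : (SW R n W).homology ≅
    (AddCommGrpCat.of (Ext ((Zf X).obj W) F (n + 1)) : AddCommGrpCat.{u}) :=
  abHomologyIsoOfKer _ _ (κ R n W) (κ_surjective R n W) (κ_ker R n W)

end Sections

end Groth.Agent.H42.CohTopLib
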