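import Groth.Agent.H42.CohTopDirImA

/-!
# Helper library (helper42): naturality of the section-wise Ext computation
-/

set_option autoImplicit false

universe u

open CategoryTheory Limits Opposite TopologicalSpace Abelian

namespace Groth.Agent.H42.CohTopLib

variable {X : TopCat.{u}}

section Naturality

variable {F : CohTop.Ab X} (R : InjectiveResolution F) (n : ℕ)

lemma abCyclesIso_hom_apply_coe (S : ShortComplex AddCommGrpCat.{u}) (c : S.cycles) :
    ((S.abCyclesIso.hom c : AddMonoidHom.ker S.g.hom) : S.X₂) = S.iCycles c := by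
  have h := S.abLeftHomologyData.cyclesIso_hom_comp_i
  exact congrArg (fun φ => (ConcreteCategory.hom φ) c) h

/-- The restriction morphism. -/
noncomputable def ρ {W W' : Opens X} (i : W' ⟶ W) : SW R n W ⟶ SW R n W' where
  τ₁ := (R.cocomplex.X n).obj.map i.op
  τ₂ := (R.cocomplex.X (n + 1)).obj.map i.op
  τ₃ := (R.cocomplex.X (n + 2)).obj.map i.op
  comm₁₂ := (R.cocomplex.d n (n + 1)).hom.naturality i.op
  comm₂₃ := (R.cocomplex.d (n + 1) (n + 2)).hom.naturality i.op

lemma E_symm_map {W W' : Opens X} (i : W' ⟶ W) (G : CohTop.Ab X) (b : G.obj.obj (op W)) :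
    (E W' G).symm (G.obj.map i.op b) = (Zf X).map i ≫ (E W G).symm b := by
  apply (E W' G).injective
  rw [Equiv.apply_symm_apply, E_map, Equiv.apply_symm_apply]

/-- The restriction maps of `W ↦ Ext(Z_W, F)`. -/
noncomputable def resExt (F : CohTop.Ab X) {W W' : Opens X} (i : W' ⟶ W) (k : ℕ) :
    (AddCommGrpCat.of (Ext ((Zf X).obj W) F k) : AddCommGrpCat.{u}) ⟶
      AddCommGrpCat.of (Ext ((Zf X).obj W') F k) :=
  AddCommGrpCat.ofHom (AddMonoidHom.mk'
    (fun α => (Ext.mk₀ ((Zf X).map i)).comp α (zero_add _)) (by simp))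

lemma resExt_eq (F : CohTop.Ab X) {W W' : Opens X} (i : W' ⟶ W) (k : ℕ) :
    resExt F i k = (Sheaf.cohomologyPresheaf F k).map i.op := rfl

lemma ΦW_naturality {W W' : Opens X} (i : W' ⟶ W) :
    ShortComplex.homologyMap (ρ R n i) ≫ (ΦW R n W').hom =
      (ΦW R n W).hom ≫ resExt F i (n + 1) := by
  rw [← cancel_epi (SW R n W).homologyπ, ShortComplex.homologyπ_naturality_assoc]
  have h1 : (SW R n W').homologyπ ≫ (ΦW R n W').hom = _ :=
    homologyπ_abHomologyIsoOfKer (SW R n W') _ (κ R n W') (κ_surjective R n W') (κ_ker R n W')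
  have h2 : (SW R n W).homologyπ ≫ (ΦW R n W).hom = _ :=
    homologyπ_abHomologyIsoOfKer (SW R n W) _ (κ R n W) (κ_surjective R n W) (κ_ker R n W)
  rw [h1, reassoc_of% h2]
  ext c
  change κ R n W' ((SW R n W').abCyclesIso.hom (ShortComplex.cyclesMap (ρ R n i) c)) =
    (Ext.mk₀ ((Zf X).map i)).comp (κ R n W ((SW R n W).abCyclesIso.hom c)) (zero_add (n + 1))
  rw [κ_apply, κ_apply, InjectiveResolution.mk₀_comp_extMk]
  apply extMk_congr
  rw [abCyclesIso_hom_apply_coe, abCyclesIso_hom_apply_coe, ← E_symm_map]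
  congr 1
  exact congrArg (fun φ => (ConcreteCategory.hom φ) c) (ShortComplex.cyclesMap_i (ρ R n i))

end Naturality

end Groth.Agent.H42.CohTopLib
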