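import Groth.Agent.H42.CohTopPush

/-!
# Helper library (helper42): local vanishing of cohomology classes

* `exists_local_lift`: for an exact sequence of abelian sheaves `A → B → C` and a section of `B`
  over `U` killed in `C`, the section locally comes from `A` (in terms of maps from free sheaves).
* `res_extMk`: restriction of classes `extMk` in `H^n(U, F)`.
-/

set_option autoImplicit false

universe u

open CategoryTheory Limits Opposite TopologicalSpace Abelian

namespace Groth.Agent.H42.CohTopLib

variable {X : TopCat.{u}}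

open AlgebraicGeometry in
lemma exists_local_lift {S : ShortComplex (CohTop.Ab X)} (hS : S.Exact) {U : Opens X}
    (s : (Zf X).obj U ⟶ S.X₂) (hs : s ≫ S.g = 0) (x : X) (hx : x ∈ U) :
    ∃ (V : Opens X) (hV : V ≤ U) (_ : x ∈ V) (g : (Zf X).obj V ⟶ S.X₁),
      g ≫ S.f = (Zf X).map (homOfLE hV) ≫ s := by
  have : Epi S.toCycles := hS.epi_toCycles
  have hloc := isLocallySurjective_of_epi S.toCycles
  rw [TopCat.Presheaf.isLocallySurjective_iff] at hloc
  obtain ⟨V, hV, ⟨a, ha⟩, hxV⟩ := hloc U (E U S.cycles (S.liftCycles s hs)) x hx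
  refine ⟨V, hV, hxV, (E V S.X₁).symm a, ?_⟩
  have h1 : (E V S.X₁).symm a ≫ S.toCycles = (Zf X).map (homOfLE hV) ≫ S.liftCycles s hs := by
    apply (E V S.cycles).injective
    rw [E_comp, Equiv.apply_symm_apply, E_map]
    exact ha
  calc (E V S.X₁).symm a ≫ S.f = ((E V S.X₁).symm a ≫ S.toCycles) ≫ S.iCycles := by
        rw [Category.assoc, S.toCycles_i]
    _ = (Zf X).map (homOfLE hV) ≫ s := by
        rw [h1, Category.assoc, S.liftCycles_i]

/-- The restriction maps of `H^n(-, F)` are given by precomposition. -/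
lemma res_eq (F : CohTop.Ab X) (n : ℕ) {U V : Opens X} (h : V ≤ U)
    (ξ : Ext ((Zf X).obj U) F n) :
    CohTop.res F n h ξ = (Ext.mk₀ ((Zf X).map (homOfLE h))).comp ξ (zero_add n) := rfl

end Groth.Agent.H42.CohTopLib
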