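import Mathlib.CategoryTheory.ConnectedComponents
import Mathlib.CategoryTheory.Filtered.Basic
import Mathlib.CategoryTheory.Functor.KanExtension.Adjunction
import Mathlib.CategoryTheory.Functor.Flat
import Mathlib.CategoryTheory.Limits.Comma
import Mathlib.Algebra.Category.Grp.AB
import Mathlib.CategoryTheory.Sites.Pullback

/-!
# Helper library (helper42): colimits over categories with filtered connected components

If a small category `K` has pushouts and coequalizers, then each of its connected components is
filtered, and hence `colim : (K ⥤ Ab) ⥤ Ab` is exact (a direct sum of filtered colimits).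
Consequently, for a functor `u : C ⥤ D` between small categories such that `C` has pullbacks and
equalizers and `u` preserves them, the left Kan extension `u.op.lan` on abelian presheaves is exact.
-/

set_option autoImplicit false

universe v u

open CategoryTheory Limits Opposite

namespace Groth.Agent.H42.CompFiltered

section Zigzag

variable {K : Type u} [Category.{v} K]

lemma exists_cocone_of_zigzag [HasPushouts K] {a b : K} (h : Zigzag a b) :
    ∃ (z : K) (_ : a ⟶ z), Nonempty (b ⟶ z) := by
  induction h with
  | refl => exact ⟨a, 𝟙 a, ⟨𝟙 a⟩⟩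
  | tail _ hbc ih =>
    obtain ⟨z, f, ⟨g⟩⟩ := ih
    rcases hbc with ⟨⟨h⟩⟩ | ⟨⟨h⟩⟩
    · exact ⟨pushout g h, f ≫ pushout.inl g h, ⟨pushout.inr g h⟩⟩
    · exact ⟨z, f, ⟨h ≫ g⟩⟩

variable (K) in
/-- The projection to the discrete category of connected components. -/
abbrev proj : K ⥤ Discrete (ConnectedComponents K) :=
  ConnectedComponents.functorToDiscrete _ id

instance isFiltered_costructuredArrow_proj [HasPushouts K] [HasCoequalizers K]
    (c : Discrete (ConnectedComponents K)) :
    IsFiltered (CostructuredArrow (proj K) c) := by
  have hmk : ∀ X : CostructuredArrow (proj K) c,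
      (Quotient.mk (Zigzag.setoid K) X.left : ConnectedComponents K) = c.as :=
    fun X => Discrete.eq_of_hom X.hom
  let mkObj : ∀ (k : K), (Quotient.mk (Zigzag.setoid K) k : ConnectedComponents K) = c.as →
      CostructuredArrow (proj K) c :=
    fun k h => CostructuredArrow.mk (Y := k) (Discrete.eqToHom h)
  have hsub : ∀ (X : CostructuredArrow (proj K) c) (k : K), Subsingleton ((proj K).obj k ⟶ c) :=
    fun _ _ => inferInstance
  refine @IsFiltered.mk _ _ ?_ ?_
  · refine ⟨?_, ?_⟩
    · intro X Y
      have hz : Zigzag X.left Y.left := Quotient.exact ((hmk X).trans (hmk Y).symm)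
      obtain ⟨z, f, ⟨g⟩⟩ := exists_cocone_of_zigzag hz
      have hzc : (Quotient.mk (Zigzag.setoid K) z : ConnectedComponents K) = c.as :=
        (Quotient.sound (Zigzag.of_hom f)).symm.trans (hmk X)
      exact ⟨mkObj z hzc, CostructuredArrow.homMk f (Subsingleton.elim _ _),
        CostructuredArrow.homMk g (Subsingleton.elim _ _), trivial⟩
    · intro X Y f g
      have hzc : (Quotient.mk (Zigzag.setoid K) (coequalizer f.left g.left) :
          ConnectedComponents K) = c.as :=
        (Quotient.sound (Zigzag.of_hom (coequalizer.π f.left g.left))).symm.trans (hmk Y)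
      refine ⟨mkObj _ hzc, CostructuredArrow.homMk (coequalizer.π f.left g.left)
        (Subsingleton.elim _ _), ?_⟩
      ext
      exact coequalizer.condition f.left g.left
  · obtain ⟨k, hk⟩ := Quotient.exists_rep c.as
    exact ⟨mkObj k hk⟩

end Zigzag

section Colim

variable (K : Type u) [SmallCategory K] [HasPushouts K] [HasCoequalizers K]

/-- Colimits of abelian groups over a small category with pushouts and coequalizers are exact. -/
theorem preservesFiniteLimits_colim :
    PreservesFiniteLimits (colim : (K ⥤ AddCommGrpCat.{u}) ⥤ AddCommGrpCat.{u}) := by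
  have h1 : PreservesFiniteLimits ((proj K).lan :
      (K ⥤ AddCommGrpCat.{u}) ⥤ (Discrete (ConnectedComponents K) ⥤ AddCommGrpCat.{u})) := by
    apply preservesFiniteLimits_of_preservesFiniteLimitsOfSize.{u}
    intro J _ _
    apply preservesLimitsOfShape_of_evaluation ((proj K).lan :
      (K ⥤ AddCommGrpCat.{u}) ⥤ (Discrete (ConnectedComponents K) ⥤ AddCommGrpCat.{u})) J
    intro c
    exact preservesLimitsOfShape_of_natIso (lanEvaluationIsoColim _ _ _).symm
  have h2 : PreservesFiniteLimits (colim :
      (Discrete (ConnectedComponents K) ⥤ AddCommGrpCat.{u}) ⥤ AddCommGrpCat.{u}) :=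
    HasExactColimitsOfShape.preservesFiniteLimits
  have h3 : PreservesFiniteLimits ((proj K).lan ⋙ (colim :
      (Discrete (ConnectedComponents K) ⥤ AddCommGrpCat.{u}) ⥤ AddCommGrpCat.{u})) :=
    comp_preservesFiniteLimits _ _
  exact preservesFiniteLimits_of_natIso (Functor.lanCompColimIso (proj K))

end Colim

section Lan

variable {C D : Type u} [SmallCategory C] [SmallCategory D] (G : C ⥤ D)
  [HasPullbacks C] [HasEqualizers C]
  [PreservesLimitsOfShape WalkingCospan G] [PreservesLimitsOfShape WalkingParallelPair G]

theorem hasPushouts_costructuredArrow_op (V : D) :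
    HasPushouts (CostructuredArrow G.op (op V)) := by
  have h1 : HasPullbacks (StructuredArrow V G) := inferInstance
  have h2 : HasPushouts (StructuredArrow V G)ᵒᵖ := inferInstance
  exact Adjunction.hasColimitsOfShape_of_equivalence (structuredArrowOpEquivalence G V).inverse

theorem hasCoequalizers_costructuredArrow_op (V : D) :
    HasCoequalizers (CostructuredArrow G.op (op V)) := by
  have h1 : HasEqualizers (StructuredArrow V G) := inferInstance
  have h2 : HasCoequalizers (StructuredArrow V G)ᵒᵖ := inferInstance
  exact Adjunction.hasColimitsOfShape_of_equivalence (structuredArrowOpEquivalence G V).inverse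

/-- If `C` has pullbacks and equalizers and `G : C ⥤ D` preserves them, the left Kan extension
along `G.op` is exact on abelian presheaves. -/
theorem preservesFiniteLimits_lan :
    PreservesFiniteLimits (G.op.lan : (Cᵒᵖ ⥤ AddCommGrpCat.{u}) ⥤ (Dᵒᵖ ⥤ AddCommGrpCat.{u})) := by
  apply preservesFiniteLimits_of_preservesFiniteLimitsOfSize.{u}
  intro J _ _
  apply preservesLimitsOfShape_of_evaluation (G.op.lan :
    (Cᵒᵖ ⥤ AddCommGrpCat.{u}) ⥤ (Dᵒᵖ ⥤ AddCommGrpCat.{u})) J
  intro V
  have := hasPushouts_costructuredArrow_op G (unop V)
  have := hasCoequalizers_costructuredArrow_op G (unop V)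
  have := preservesFiniteLimits_colim (CostructuredArrow G.op (op (unop V)))
  have : PreservesLimitsOfShape J ((Functor.whiskeringLeft _ _ AddCommGrpCat.{u}).obj
      (CostructuredArrow.proj G.op V) ⋙ colim) := by
    have : PreservesLimitsOfShape J (colim :
        (CostructuredArrow G.op V ⥤ AddCommGrpCat.{u}) ⥤ AddCommGrpCat.{u}) := inferInstance
    exact comp_preservesLimitsOfShape _ _
  exact preservesLimitsOfShape_of_natIso (lanEvaluationIsoColim _ _ _).symm

end Lan

end Groth.Agent.H42.CompFiltered
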