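import Mathlib
import Groth.Prelude.Def_FlatMod2
import Groth.Prelude.Def_FDesc
import Groth.Agent.H8.QCohStalk

/-!
# (GZ) for helper7's S4980 squad: the stalk at a generization is the localization of the stalk
-/

set_option autoImplicit false
set_option linter.style.haveILetI false
universe u
open CategoryTheory CategoryTheory.Limits AlgebraicGeometry TopologicalSpace Opposite TensorProduct
open IsLocalRing

namespace Groth.Agent.H42.DvrLen

/-- Length is invariant under semilinear bijections along a surjective ring homomorphism. -/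
theorem length_eq_of_semilinear_bijective {R₁ R₂ M₁ M₂ : Type*} [Ring R₁] [Ring R₂]
    [AddCommGroup M₁] [Module R₁ M₁] [AddCommGroup M₂] [Module R₂ M₂]
    (σ : R₁ →+* R₂) [RingHomSurjective σ] (f : M₁ →ₛₗ[σ] M₂) (hf : Function.Bijective f) :
    Module.length R₁ M₁ = Module.length R₂ M₂ := by
  rw [Module.length, Module.length, WithBot.unbot_inj,
    Order.krullDim_eq_of_orderIso (Submodule.orderIsoMapComapOfBijective f hf)]

/-- Two localizations of the same module at the same submonoid, over two localizations of the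
base ring, have the same length. -/
theorem length_eq_of_isLocalizedModule {B : Type*} [CommRing B] (S : Submonoid B)
    (R₁ R₂ : Type*) [CommRing R₁] [CommRing R₂] [Algebra B R₁] [Algebra B R₂]
    [IsLocalization S R₁] [IsLocalization S R₂]
    {N M₁ M₂ : Type*} [AddCommGroup N] [Module B N]
    [AddCommGroup M₁] [Module B M₁] [Module R₁ M₁] [IsScalarTower B R₁ M₁]
    [AddCommGroup M₂] [Module B M₂] [Module R₂ M₂] [IsScalarTower B R₂ M₂]
    (f₁ : N →ₗ[B] M₁) (f₂ : N →ₗ[B] M₂) [IsLocalizedModule S f₁] [IsLocalizedModule S f₂] :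
    Module.length R₁ M₁ = Module.length R₂ M₂ := by
  let e : M₁ ≃ₗ[B] M₂ := IsLocalizedModule.linearEquiv S f₁ f₂
  let σ : R₁ ≃ₐ[B] R₂ := IsLocalization.algEquiv S R₁ R₂
  have hsemi : ∀ (a : R₁) (m : M₁), e (a • m) = σ a • e m := by
    intro a m
    obtain ⟨⟨b, s⟩, hbs⟩ := IsLocalization.surj S a
    -- `a * algebraMap s = algebraMap b`
    have hunit : IsUnit (algebraMap B (Module.End B M₂) s) :=
      IsLocalizedModule.map_units f₂ s
    have hinj : Function.Injective (fun z : M₂ => (s : B) • z) := by
      have := ((Module.End.isUnit_iff _).mp hunit).injective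
      exact this
    apply hinj
    show (s : B) • e (a • m) = (s : B) • (σ a • e m)
    have h1 : (s : B) • (a • m) = (b : B) • m := by
      rw [← algebraMap_smul R₁ (s : B) (a • m), smul_smul, mul_comm, hbs, algebraMap_smul]
    have h2 : (s : B) • (σ a • e m) = (b : B) • e m := by
      rw [← algebraMap_smul R₂ (s : B) (σ a • e m), smul_smul, ← AlgEquiv.commutes σ (s : B),
        ← map_mul, mul_comm, hbs, AlgEquiv.commutes, algebraMap_smul]
    rw [← map_smul, h1, map_smul, h2]
  haveI : RingHomSurjective (σ : R₁ →+* R₂) := ⟨σ.surjective⟩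
  let f : M₁ →ₛₗ[(σ : R₁ →+* R₂)] M₂ :=
    { toFun := e
      map_add' := map_add e
      map_smul' := hsemi }
  exact length_eq_of_semilinear_bijective (σ : R₁ →+* R₂) f e.bijective

/-- Localizing a localized module further at a prime: still a localized module of the original. -/
theorem isLocalizedModule_comp_atPrime {B : Type*} [CommRing B] (S₀ : Submonoid B)
    (O : Type*) [CommRing O] [Algebra B O] [IsLocalization S₀ O] (p : Ideal O) [p.IsPrime]
    {N M : Type*} [AddCommGroup N] [Module B N] [AddCommGroup M] [Module B M] [Module O M]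
    [IsScalarTower B O M] (f : N →ₗ[B] M) [IsLocalizedModule S₀ f] :
    IsLocalizedModule (p.comap (algebraMap B O)).primeCompl
      (((LocalizedModule.mkLinearMap p.primeCompl M).restrictScalars B).comp f) := by
  haveI : IsLocalization.AtPrime (Localization.AtPrime p) (p.comap (algebraMap B O)) :=
    IsLocalization.isLocalization_isLocalization_atPrime_isLocalization S₀
      (Localization.AtPrime p) p
  rw [isLocalizedModule_iff_isBaseChange (p.comap (algebraMap B O)).primeCompl
    (Localization.AtPrime p)]
  have h1 : IsBaseChange O f := IsLocalizedModule.isBaseChange S₀ O f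
  have h2 : IsBaseChange (Localization.AtPrime p)
      (LocalizedModule.mkLinearMap p.primeCompl M) :=
    IsLocalizedModule.isBaseChange p.primeCompl _ _
  exact IsBaseChange.comp h1 h2

open Groth.Agent.H8 in
/-- Core: for `x, y` in an affine open `U` with the prime of `y` equal to the preimage of a prime
`p` of `O_{X,x}`, the stalk at `y` has the length of the localization at `p` of the stalk at `x`. -/
theorem length_stalk_eq_of_primeIdealOf_eq (X : Scheme.{u}) (F : X.Modules) [F.IsQuasicoherent]
    {U : X.Opens} (hU : IsAffineOpen U) (x : X) (hxU : x ∈ U)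
    (p : PrimeSpectrum (X.presheaf.stalk x)) (y : X) (hyU : y ∈ U)
    (hP : (hU.primeIdealOf ⟨y, hyU⟩).asIdeal =
      p.asIdeal.comap (X.presheaf.germ U x hxU).hom) :
    Module.length (X.presheaf.stalk y) (F.presheaf.stalk y) =
      Module.length (Localization.AtPrime p.asIdeal)
        (LocalizedModule p.asIdeal.primeCompl (F.presheaf.stalk x)) := by
  letI algx := X.presheaf.algebra_section_stalk ⟨x, hxU⟩
  letI algy := X.presheaf.algebra_section_stalk ⟨y, hyU⟩
  haveI locx := hU.isLocalization_stalk ⟨x, hxU⟩
  haveI locy := hU.isLocalization_stalk ⟨y, hyU⟩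
  letI modx := moduleSectionStalk F x hxU
  letI mody := moduleSectionStalk F y hyU
  haveI towx := isScalarTower_sectionStalk F x hxU
  haveI towy := isScalarTower_sectionStalk F y hyU
  haveI lmx := isLocalizedModule_germₗ F hU x hxU
  haveI lmy := isLocalizedModule_germₗ F hU y hyU
  have hP' : (hU.primeIdealOf ⟨y, hyU⟩).asIdeal.primeCompl =
      (p.asIdeal.comap (algebraMap Γ(X, U) (X.presheaf.stalk x))).primeCompl := by
    ext a
    show a ∉ (hU.primeIdealOf ⟨y, hyU⟩).asIdeal ↔
      a ∉ p.asIdeal.comap (algebraMap Γ(X, U) (X.presheaf.stalk x))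
    rw [hP]
    rfl
  haveI l2 : IsLocalizedModule (hU.primeIdealOf ⟨y, hyU⟩).asIdeal.primeCompl
      (((LocalizedModule.mkLinearMap p.asIdeal.primeCompl
        (F.presheaf.stalk x)).restrictScalars Γ(X, U)).comp (germₗ F x hxU)) := by
    rw [hP']
    exact isLocalizedModule_comp_atPrime (hU.primeIdealOf ⟨x, hxU⟩).asIdeal.primeCompl
      (X.presheaf.stalk x) p.asIdeal (germₗ F x hxU)
  haveI l3 : IsLocalization (hU.primeIdealOf ⟨y, hyU⟩).asIdeal.primeCompl
      (Localization.AtPrime p.asIdeal) := by
    rw [hP']
    exact IsLocalization.isLocalization_isLocalization_atPrime_isLocalization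
      (hU.primeIdealOf ⟨x, hxU⟩).asIdeal.primeCompl (Localization.AtPrime p.asIdeal) p.asIdeal
  exact length_eq_of_isLocalizedModule (hU.primeIdealOf ⟨y, hyU⟩).asIdeal.primeCompl
    (X.presheaf.stalk y) (Localization.AtPrime p.asIdeal) (germₗ F y hyU)
    (((LocalizedModule.mkLinearMap p.asIdeal.primeCompl
        (F.presheaf.stalk x)).restrictScalars Γ(X, U)).comp (germₗ F x hxU))

/-- (GZ) the stalk at a generization is the localization of the stalk. -/
theorem length_stalk_fromSpecStalk (X : Scheme.{u}) (F : X.Modules) [F.IsQuasicoherent] (x : X)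
    (p : PrimeSpectrum (X.presheaf.stalk x)) :
    Module.length (X.presheaf.stalk ((X.fromSpecStalk x) p))
        (F.presheaf.stalk ((X.fromSpecStalk x) p)) =
      Module.length (Localization.AtPrime p.asIdeal)
        (LocalizedModule p.asIdeal.primeCompl (F.presheaf.stalk x)) := by
  obtain ⟨_, ⟨U, hU, rfl⟩, hxU, -⟩ :=
    X.isBasis_affineOpens.exists_subset_of_mem_open (Set.mem_univ x) isOpen_univ
  have hU' : IsAffineOpen U := hU
  have hxU' : x ∈ U := hxU
  have hy : (X.fromSpecStalk x) p =
      hU'.fromSpec ((Spec.map (X.presheaf.germ U x hxU')) p) := by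
    rw [← hU'.fromSpecStalk_eq_fromSpecStalk hxU']
    rfl
  have hyU : (X.fromSpecStalk x) p ∈ U := by
    rw [hy, ← SetLike.mem_coe, ← hU'.range_fromSpec]
    exact ⟨_, rfl⟩
  refine length_stalk_eq_of_primeIdealOf_eq X F hU' x hxU' p _ hyU ?_
  have hprime : hU'.primeIdealOf ⟨(X.fromSpecStalk x) p, hyU⟩ =
      (Spec.map (X.presheaf.germ U x hxU')) p := by
    apply hU'.fromSpec.isOpenEmbedding.injective
    rw [hU'.fromSpec_primeIdealOf]
    exact hy
  rw [hprime]
  rfl

end Groth.Agent.H42.DvrLen
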