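import Mathlib
import Groth.Agent.H31.MVShriek

/-!
# (A0) for helper6's S1010 squad: `j_! j^*` for the whole space is the identity (helper42)
-/

set_option autoImplicit false
universe u
open CategoryTheory CategoryTheory.Limits AlgebraicGeometry
attribute [local instance] HasDerivedCategory.standard
open Groth.Agent.H31.MVS

namespace Groth.Agent.H42.EV

theorem nonempty_S_top_iso {X : Scheme.{u}} (F : X.Modules) :
    Nonempty ((S (⊤ : X.Opens)).obj F ≅ F) := by
  haveI : IsIso ((ε (⊤ : X.Opens)).app F) :=
    isIso_of_stalks _ (fun x => isIso_sk_ε ⊤ F x trivial)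
  exact ⟨asIso ((ε (⊤ : X.Opens)).app F)⟩

end Groth.Agent.H42.EV
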