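import Mathlib
import Groth.Agent.H31.MVShriek
import Groth.Agent.H17.StalkSeq
import Groth.Agent.H8.ZeroStalk

/-!
# (A1) for helper6's S1010 squad: the Mayer–Vietoris sequence of `j_! j^*` for two arbitrary opens
(helper42)

`0 → S(U ⊓ V) F → S(U) F ⊞ S(V) F → S(U ⊔ V) F → 0`.
-/

set_option autoImplicit false
universe u
open CategoryTheory CategoryTheory.Limits AlgebraicGeometry
attribute [local instance] HasDerivedCategory.standard
open Groth.Agent.H31.MVS

namespace Groth.Agent.H42.EV

variable {X : Scheme.{u}}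

section StalkCriterion

open Groth.Agent.H8

theorem stalkMap_comp_apply {M N P : X.Modules} (φ : M ⟶ N) (ψ : N ⟶ P) (x : X)
    (m : M.presheaf.stalk x) :
    stalkMap (φ ≫ ψ) x m = stalkMap ψ x (stalkMap φ x m) := by
  obtain ⟨U, hxU, s, rfl⟩ := TopCat.Presheaf.exists_germ_eq M.presheaf m
  rw [stalkMap_germ, stalkMap_germ, stalkMap_germ]
  rfl

theorem stalkMap_zero_apply {M N : X.Modules} (x : X) (m : M.presheaf.stalk x) :
    stalkMap (0 : M ⟶ N) x m = 0 := by
  obtain ⟨U, hxU, s, rfl⟩ := TopCat.Presheaf.exists_germ_eq M.presheaf m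
  rw [stalkMap_germ]
  exact map_zero _

theorem stalkMap_id_apply {M : X.Modules} (x : X) (m : M.presheaf.stalk x) :
    stalkMap (𝟙 M) x m = m := by
  obtain ⟨U, hxU, s, rfl⟩ := TopCat.Presheaf.exists_germ_eq M.presheaf m
  rw [stalkMap_germ]
  rfl

theorem stalkMap_add_apply {M N : X.Modules} (φ ψ : M ⟶ N) (x : X) (m : M.presheaf.stalk x) :
    stalkMap (φ + ψ) x m = stalkMap φ x m + stalkMap ψ x m := by
  obtain ⟨U, hxU, s, rfl⟩ := TopCat.Presheaf.exists_germ_eq M.presheaf m
  rw [stalkMap_germ, stalkMap_germ, stalkMap_germ]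
  exact map_add _ _ _

theorem stalkMap_neg_apply {M N : X.Modules} (φ : M ⟶ N) (x : X) (m : M.presheaf.stalk x) :
    stalkMap (-φ) x m = - stalkMap φ x m := by
  obtain ⟨U, hxU, s, rfl⟩ := TopCat.Presheaf.exists_germ_eq M.presheaf m
  rw [stalkMap_germ, stalkMap_germ]
  exact map_neg _ _

theorem mono_of_stalks {M N : X.Modules} (φ : M ⟶ N)
    (h : ∀ x, Function.Injective (stalkMap φ x)) : Mono φ :=
  Preadditive.mono_of_isZero_kernel φ
    (isZero_of_subsingleton_stalk _ (fun x => (stalkMap_injective_iff φ x).1 (h x)))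

theorem epi_of_stalks {M N : X.Modules} (φ : M ⟶ N)
    (h : ∀ x, Function.Surjective (stalkMap φ x)) : Epi φ :=
  Preadditive.epi_of_isZero_cokernel φ
    (isZero_of_subsingleton_stalk _ (fun x => (stalkMap_surjective_iff φ x).1 (h x)))

theorem exact_of_stalks (T : ShortComplex X.Modules)
    (h : ∀ x, Function.Exact (stalkMap T.f x) (stalkMap T.g x)) : T.Exact := by
  rw [T.exact_iff_epi_kernel_lift]
  refine epi_of_stalks _ (fun x k => ?_)
  have h0 : stalkMap T.g x (stalkMap (kernel.ι T.g) x k) = 0 := by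
    rw [← stalkMap_comp_apply, kernel.condition, stalkMap_zero_apply]
  obtain ⟨a, ha⟩ := (h x _).1 h0
  refine ⟨a, ?_⟩
  apply Groth.Agent.H17.StalkSeq.stalkMap_injective_of_mono (kernel.ι T.g) x
  rw [← stalkMap_comp_apply, kernel.lift_ι, ha]

theorem shortExact_of_stalks (T : ShortComplex X.Modules)
    (h1 : ∀ x, Function.Injective (stalkMap T.f x))
    (h2 : ∀ x, Function.Exact (stalkMap T.f x) (stalkMap T.g x))
    (h3 : ∀ x, Function.Surjective (stalkMap T.g x)) : T.ShortExact :=
  haveI := mono_of_stalks T.f h1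
  haveI := epi_of_stalks T.g h3
  ShortComplex.ShortExact.mk (exact_of_stalks T h2)

end StalkCriterion

section Lam

theorem eps_S (T : X.Opens) (F : X.Modules) :
    (ε T).app ((S T).obj F) = (S T).map ((ε T).app F) := by
  let adj := CxOX.extZeroAdj T.ι
  let L := CxOX.extZero T.ι
  let R := Scheme.Modules.restrictFunctor T.ι
  have h1 : adj.unit.app (R.obj F) ≫ R.map (adj.counit.app F) = 𝟙 (R.obj F) :=
    adj.right_triangle_components F
  have h2 : L.map (adj.unit.app (R.obj F)) ≫ adj.counit.app (L.obj (R.obj F)) = 𝟙 _ :=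
    adj.left_triangle_components (R.obj F)
  haveI : IsIso (adj.unit.app (R.obj F)) := inferInstance
  have h3 : L.map (adj.unit.app (R.obj F)) ≫ L.map (R.map (adj.counit.app F)) = 𝟙 _ := by
    rw [← L.map_comp, h1]
    exact L.map_id _
  have h4 : adj.counit.app (L.obj (R.obj F)) = L.map (R.map (adj.counit.app F)) := by
    rw [← cancel_epi (L.map (adj.unit.app (R.obj F)))]
    exact h2.trans h3.symm
  exact h4

theorem hom_ext_ε (T W : X.Opens) (h : W ≤ T) {F F' : X.Modules}
    (φ ψ : (S W).obj F ⟶ (S T).obj F')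
    (e : φ ≫ (ε T).app F' = ψ ≫ (ε T).app F') : φ = ψ := by
  haveI : IsIso ((ε T).app ((S W).obj F)) := isIso_ε_extZero T W h _
  have key : ∀ χ : (S W).obj F ⟶ (S T).obj F',
      χ = inv ((ε T).app ((S W).obj F)) ≫ (S T).map (χ ≫ (ε T).app F') := by
    intro χ
    rw [IsIso.eq_inv_comp, (S T).map_comp, ← eps_S]
    exact ((ε T).naturality χ).symm
  rw [key φ, key ψ, e]

theorem lam_trans (T U W : X.Opens) (h : W ≤ U) (h' : U ≤ T) (F : X.Modules) :
    (lam U W h).app F ≫ (lam T U h').app F = (lam T W (h.trans h')).app F := by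
  apply hom_ext_ε T W (h.trans h')
  rw [Category.assoc, lam_ε, lam_ε, lam_ε]

end Lam

section Main

open Groth.Agent.H8

theorem sk_map_eq {M N : X.Modules} (φ : M ⟶ N) (x : X) : (sk x).map φ = stalkMap φ x := rfl

theorem bijective_lam (U W : X.Opens) (h : W ≤ U) (F : X.Modules) (x : X)
    (hx : x ∈ W ∨ x ∉ U) : Function.Bijective (stalkMap ((lam U W h).app F) x) := by
  haveI := isIso_sk_lam U W h F x hx
  exact ConcreteCategory.bijective_of_isIso ((sk x).map ((lam U W h).app F))

theorem subsingleton_stalk_S (W : X.Opens) (F : X.Modules) (x : X) (hx : x ∉ W) :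
    Subsingleton (((S W).obj F).presheaf.stalk x) :=
  subsingleton_sk_extZero W _ x hx

theorem injective_lam (U W : X.Opens) (h : W ≤ U) (F : X.Modules) (x : X) :
    Function.Injective (stalkMap ((lam U W h).app F) x) := by
  by_cases hW : x ∈ W
  · exact (bijective_lam U W h F x (Or.inl hW)).1
  · haveI := subsingleton_stalk_S W F x hW
    exact fun a b _ => Subsingleton.elim a b

theorem exists_MV_shortExact (U V : X.Opens) (F : X.Modules) :
    ∃ (f : (S (U ⊓ V)).obj F ⟶ (S U).obj F ⊞ (S V).obj F)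
      (g : (S U).obj F ⊞ (S V).obj F ⟶ (S (U ⊔ V)).obj F) (w : f ≫ g = 0),
      (ShortComplex.mk f g w).ShortExact := by
  let lU := (lam U (U ⊓ V) inf_le_left).app F
  let lV := (lam V (U ⊓ V) inf_le_right).app F
  let mU := (lam (U ⊔ V) U le_sup_left).app F
  let mV := (lam (U ⊔ V) V le_sup_right).app F
  have htr : lU ≫ mU = lV ≫ mV := by
    rw [lam_trans (U ⊔ V) U (U ⊓ V) inf_le_left le_sup_left F,
      lam_trans (U ⊔ V) V (U ⊓ V) inf_le_right le_sup_right F]
  have w : biprod.lift lU (-lV) ≫ biprod.desc mU mV = 0 := by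
    rw [biprod.lift_desc, Preadditive.neg_comp, htr, add_neg_cancel]
  refine ⟨biprod.lift lU (-lV), biprod.desc mU mV, w, ?_⟩
  -- decomposition of elements of the stalk of the biproduct
  have hdec : ∀ (x : X) (b : ((S U).obj F ⊞ (S V).obj F).presheaf.stalk x),
      b = stalkMap (biprod.inl : (S U).obj F ⟶ (S U).obj F ⊞ (S V).obj F) x
            (stalkMap (biprod.fst : (S U).obj F ⊞ (S V).obj F ⟶ (S U).obj F) x b) +
          stalkMap (biprod.inr : (S V).obj F ⟶ (S U).obj F ⊞ (S V).obj F) x
            (stalkMap (biprod.snd : (S U).obj F ⊞ (S V).obj F ⟶ (S V).obj F) x b) := by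
    intro x b
    rw [← stalkMap_comp_apply, ← stalkMap_comp_apply, ← stalkMap_add_apply, biprod.total,
      stalkMap_id_apply]
  have hfst : ∀ (x : X) (t : ((S (U ⊓ V)).obj F).presheaf.stalk x),
      stalkMap (biprod.fst : (S U).obj F ⊞ (S V).obj F ⟶ (S U).obj F) x
        (stalkMap (biprod.lift lU (-lV)) x t) = stalkMap lU x t := by
    intro x t
    rw [← stalkMap_comp_apply, biprod.lift_fst]
  have hsnd : ∀ (x : X) (t : ((S (U ⊓ V)).obj F).presheaf.stalk x),
      stalkMap (biprod.snd : (S U).obj F ⊞ (S V).obj F ⟶ (S V).obj F) x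
        (stalkMap (biprod.lift lU (-lV)) x t) = - stalkMap lV x t := by
    intro x t
    rw [← stalkMap_comp_apply, biprod.lift_snd, stalkMap_neg_apply]
  have hinl : ∀ (x : X) (a : ((S U).obj F).presheaf.stalk x),
      stalkMap (biprod.desc mU mV) x
        (stalkMap (biprod.inl : (S U).obj F ⟶ (S U).obj F ⊞ (S V).obj F) x a) =
        stalkMap mU x a := by
    intro x a
    rw [← stalkMap_comp_apply, biprod.inl_desc]
  have hinr : ∀ (x : X) (c : ((S V).obj F).presheaf.stalk x),
      stalkMap (biprod.desc mU mV) x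
        (stalkMap (biprod.inr : (S V).obj F ⟶ (S U).obj F ⊞ (S V).obj F) x c) =
        stalkMap mV x c := by
    intro x c
    rw [← stalkMap_comp_apply, biprod.inr_desc]
  refine shortExact_of_stalks _ ?_ ?_ ?_
  · -- injectivity
    intro x a b hab
    apply injective_lam U (U ⊓ V) inf_le_left F x
    have := congrArg (stalkMap (biprod.fst : (S U).obj F ⊞ (S V).obj F ⟶ (S U).obj F) x) hab
    rwa [hfst, hfst] at this
  · -- exactness
    intro x b
    constructor
    · intro hb
      rw [hdec x b, map_add, hinl, hinr] at hb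
      by_cases hW : x ∈ U ⊓ V
      · obtain ⟨t, ht⟩ := (bijective_lam U (U ⊓ V) inf_le_left F x (Or.inl hW)).2
          (stalkMap (biprod.fst : (S U).obj F ⊞ (S V).obj F ⟶ (S U).obj F) x b)
        refine ⟨t, ?_⟩
        rw [hdec x (stalkMap (biprod.lift lU (-lV)) x t), hdec x b, hfst, hsnd, ht]
        congr 2
        apply injective_lam (U ⊔ V) V le_sup_right F x
        have h5 : stalkMap mV x (stalkMap lV x t) = stalkMap mU x (stalkMap lU x t) := by
          rw [← stalkMap_comp_apply, ← stalkMap_comp_apply, htr]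
        rw [map_neg, h5, ht]
        exact (eq_neg_of_add_eq_zero_right hb).symm
      · have hzero : b = 0 := by
          by_cases hU : x ∈ U
          · have hV : x ∉ V := fun hV => hW ⟨hU, hV⟩
            haveI := subsingleton_stalk_S V F x hV
            have hc : stalkMap (biprod.snd : (S U).obj F ⊞ (S V).obj F ⟶ (S V).obj F) x b = 0 :=
              Subsingleton.elim _ _
            rw [hc, map_zero, add_zero] at hb
            have ha : stalkMap (biprod.fst : (S U).obj F ⊞ (S V).obj F ⟶ (S U).obj F) x b = 0 :=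
              injective_lam (U ⊔ V) U le_sup_left F x (hb.trans (map_zero _).symm)
            rw [hdec x b, ha, hc, map_zero, map_zero, add_zero]
          · haveI := subsingleton_stalk_S U F x hU
            have ha : stalkMap (biprod.fst : (S U).obj F ⊞ (S V).obj F ⟶ (S U).obj F) x b = 0 :=
              Subsingleton.elim _ _
            rw [ha, map_zero, zero_add] at hb
            have hc : stalkMap (biprod.snd : (S U).obj F ⊞ (S V).obj F ⟶ (S V).obj F) x b = 0 :=
              injective_lam (U ⊔ V) V le_sup_right F x (hb.trans (map_zero _).symm)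
            rw [hdec x b, ha, hc, map_zero, map_zero, add_zero]
        exact ⟨0, by rw [hzero, map_zero]⟩
    · rintro ⟨t, rfl⟩
      rw [← stalkMap_comp_apply]
      show stalkMap (biprod.lift lU (-lV) ≫ biprod.desc mU mV) x t = 0
      rw [w, stalkMap_zero_apply]
  · -- surjectivity
    intro x t
    by_cases hU : x ∈ U
    · obtain ⟨a, ha⟩ := (bijective_lam (U ⊔ V) U le_sup_left F x (Or.inl hU)).2 t
      exact ⟨_, (hinl x a).trans ha⟩
    · by_cases hV : x ∈ V
      · obtain ⟨c, hc⟩ := (bijective_lam (U ⊔ V) V le_sup_right F x (Or.inl hV)).2 t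
        exact ⟨_, (hinr x c).trans hc⟩
      · have hT : x ∉ U ⊔ V := by
          rintro (h | h)
          · exact hU h
          · exact hV h
        haveI := subsingleton_stalk_S (U ⊔ V) F x hT
        exact ⟨0, Subsingleton.elim _ _⟩

end Main

end Groth.Agent.H42.EV
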