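import Mathlib.CategoryTheory.Abelian.Injective.Ext
import Mathlib.Algebra.Homology.ShortComplex.Ab
import Mathlib.Algebra.Homology.ShortComplex.PreservesHomology
import Mathlib.CategoryTheory.Preadditive.Yoneda.Basic
import Mathlib.Algebra.Homology.DerivedCategory.Ext.Basic
import Mathlib.CategoryTheory.Abelian.FunctorCategory
import Mathlib.Algebra.Category.Grp.Abelian

/-!
# Helper library (helper42): `Ext(-, F)` as the cohomology of `Hom(-, R^•)`

For an injective resolution `R` of `F` in an abelian category `A`, the homology of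
`Hom(-, R^n) → Hom(-, R^{n+1}) → Hom(-, R^{n+2})` (as a functor `Aᵒᵖ ⥤ Ab`) is `Ext^{n+1}(-, F)`
(`homologyIso`), and `Ext^0(-, F) ≅ Hom(-, F)` (`ext0Iso`).  Everything is done in an abstract
abelian category.
-/

set_option autoImplicit false

universe v u

open CategoryTheory Limits Opposite Abelian

namespace Groth.Agent.H42.ExtYoneda

section AbLemma

/-- The homology of a short complex of abelian groups, computed by a surjection from the cycles
whose kernel consists of the boundaries. -/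
noncomputable def abHomologyIsoOfKer (S : ShortComplex AddCommGrpCat.{v}) (M : AddCommGrpCat.{v})
    (κ : AddMonoidHom.ker S.g.hom →+ M) (hκ : Function.Surjective κ)
    (hker : AddMonoidHom.range S.abToCycles = κ.ker) : S.homology ≅ M :=
  S.abHomologyIso ≪≫ AddEquiv.toAddCommGrpIso
    ((QuotientAddGroup.quotientAddEquivOfEq hker).trans
      (QuotientAddGroup.quotientKerEquivOfSurjective κ hκ))

lemma homologyπ_abHomologyIsoOfKer (S : ShortComplex AddCommGrpCat.{v}) (M : AddCommGrpCat.{v})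
    (κ : AddMonoidHom.ker S.g.hom →+ M) (hκ : Function.Surjective κ)
    (hker : AddMonoidHom.range S.abToCycles = κ.ker) :
    S.homologyπ ≫ (abHomologyIsoOfKer S M κ hκ hker).hom =
      S.abCyclesIso.hom ≫ AddCommGrpCat.ofHom κ := by
  have h := S.abLeftHomologyData.homologyπ_comp_homologyIso_hom
  let B : S.abLeftHomologyData.H ⟶ M := (AddEquiv.toAddCommGrpIso
    ((QuotientAddGroup.quotientAddEquivOfEq hker).trans
      (QuotientAddGroup.quotientKerEquivOfSurjective κ hκ))).hom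
  calc S.homologyπ ≫ (abHomologyIsoOfKer S M κ hκ hker).hom
      = (S.homologyπ ≫ S.abLeftHomologyData.homologyIso.hom) ≫ B := (Category.assoc _ _ _).symm
    _ = (S.abLeftHomologyData.cyclesIso.hom ≫ S.abLeftHomologyData.π) ≫ B := by rw [h]
    _ = S.abLeftHomologyData.cyclesIso.hom ≫ (S.abLeftHomologyData.π ≫ B) := Category.assoc _ _ _
    _ = S.abCyclesIso.hom ≫ AddCommGrpCat.ofHom κ := rfl

lemma abCyclesIso_hom_apply_coe (S : ShortComplex AddCommGrpCat.{v}) (c : S.cycles) :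
    ((S.abCyclesIso.hom c : AddMonoidHom.ker S.g.hom) : S.X₂) = S.iCycles c := by
  have h := S.abLeftHomologyData.cyclesIso_hom_comp_i
  exact congrArg (fun φ => (ConcreteCategory.hom φ) c) h

end AbLemma

variable {A : Type u} [Category.{v} A] [Abelian A] [HasExt.{v} A]
variable {F : A} (R : InjectiveResolution F) (n : ℕ)

/-- Three consecutive terms of the resolution, under the Yoneda embedding. -/
noncomputable abbrev SYo : ShortComplex (Aᵒᵖ ⥤ AddCommGrpCat.{v}) :=
  (R.cocomplex.sc' n (n + 1) (n + 2)).map preadditiveYoneda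

/-- `Hom(Z, R^n) → Hom(Z, R^{n+1}) → Hom(Z, R^{n+2})`. -/
noncomputable abbrev HS (Z : Aᵒᵖ) : ShortComplex AddCommGrpCat.{v} :=
  ShortComplex.mk ((preadditiveYoneda.map (R.cocomplex.d n (n + 1))).app Z)
    ((preadditiveYoneda.map (R.cocomplex.d (n + 1) (n + 2))).app Z)
    ((SYo R n).map ((evaluation _ _).obj Z)).zero

lemma extMk_congr {Z : A} {k : ℕ} {a b : Z ⟶ R.cocomplex.X k} (h : a = b) (m : ℕ)
    (hm : k + 1 = m) (ha : a ≫ R.cocomplex.d k m = 0) :
    R.extMk a m hm ha = R.extMk b m hm (h ▸ ha) := by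
  subst h
  rfl

/-- Elements of `Hom(Z, Y)` (values of the additive Yoneda embedding) as morphisms. -/
def homEquiv (Z : Aᵒᵖ) (Y : A) :
    ((preadditiveYoneda.obj Y).obj Z : AddCommGrpCat.{v}) ≃+ (Z.unop ⟶ Y) :=
  AddEquiv.refl _

lemma homEquiv_postcomp (Z : Aᵒᵖ) {Y Y' : A} (f : Y ⟶ Y')
    (a : ((preadditiveYoneda.obj Y).obj Z : AddCommGrpCat.{v})) :
    homEquiv Z Y' (((preadditiveYoneda.map f).app Z).hom a) = homEquiv Z Y a ≫ f := rfl

lemma homEquiv_precomp {Z Z' : Aᵒᵖ} (r : Z ⟶ Z') (Y : A)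
    (a : ((preadditiveYoneda.obj Y).obj Z : AddCommGrpCat.{v})) :
    homEquiv Z' Y (((preadditiveYoneda.obj Y).map r).hom a) = r.unop ≫ homEquiv Z Y a := rfl

lemma cocycle_of_mem_ker (Z : Aᵒᵖ) (b : (HS R n Z).X₂) (hb : (HS R n Z).g.hom b = 0) :
    homEquiv Z _ b ≫ R.cocomplex.d (n + 1) (n + 2) = 0 := by
  have h := homEquiv_postcomp Z (R.cocomplex.d (n + 1) (n + 2)) b
  rw [← h]
  exact (congrArg (homEquiv Z _) hb).trans (map_zero _)

/-- The map from cocycles to `Ext`. -/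
noncomputable def κ (Z : Aᵒᵖ) : AddMonoidHom.ker (HS R n Z).g.hom →+
    (AddCommGrpCat.of (Ext Z.unop F (n + 1)) : AddCommGrpCat.{v}) :=
  AddMonoidHom.mk' (fun z => R.extMk (homEquiv Z _ z.1) (n + 2) rfl
      (cocycle_of_mem_ker R n Z z.1 z.2)) (by
    intro z z'
    rw [R.add_extMk]
    exact extMk_congr R (map_add (homEquiv Z _) z.1 z'.1) _ _ _)

lemma κ_apply (Z : Aᵒᵖ) (z : AddMonoidHom.ker (HS R n Z).g.hom) :
    κ R n Z z = R.extMk (homEquiv Z _ z.1) (n + 2) rfl (cocycle_of_mem_ker R n Z z.1 z.2) := rfl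

lemma κ_surjective (Z : Aᵒᵖ) : Function.Surjective (κ R n Z) := by
  intro ξ
  obtain ⟨s, hs, rfl⟩ := R.extMk_surjective (ξ : Ext Z.unop F (n + 1)) (n + 2) rfl
  have hz : (HS R n Z).g.hom ((homEquiv Z _).symm s) = 0 := by
    apply (homEquiv Z _).injective
    have h := homEquiv_postcomp Z (R.cocomplex.d (n + 1) (n + 2)) ((homEquiv Z _).symm s)
    rw [AddEquiv.apply_symm_apply] at h
    exact h.trans (hs.trans (map_zero _).symm)
  refine ⟨⟨(homEquiv Z _).symm s, hz⟩, ?_⟩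
  rw [κ_apply]
  exact extMk_congr R ((homEquiv Z _).apply_symm_apply s) _ _ _

lemma κ_ker (Z : Aᵒᵖ) : AddMonoidHom.range (HS R n Z).abToCycles = (κ R n Z).ker := by
  ext z
  rw [AddMonoidHom.mem_range, AddMonoidHom.mem_ker, κ_apply,
    R.extMk_eq_zero_iff _ _ _ _ n rfl]
  constructor
  · rintro ⟨a, rfl⟩
    exact ⟨homEquiv Z _ a, rfl⟩
  · rintro ⟨g, hg⟩
    refine ⟨(homEquiv Z _).symm g, Subtype.ext ?_⟩
    apply (homEquiv Z _).injective
    have h := homEquiv_postcomp Z (R.cocomplex.d n (n + 1)) ((homEquiv Z _).symm g)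
    rw [AddEquiv.apply_symm_apply] at h
    exact h.trans hg

/-- The cohomology of `Hom(Z, R^•)` is `Ext(Z, F)`. -/
noncomputable def Ψ (Z : Aᵒᵖ) : (HS R n Z).homology ≅
    (AddCommGrpCat.of (Ext Z.unop F (n + 1)) : AddCommGrpCat.{v}) :=
  abHomologyIsoOfKer _ _ (κ R n Z) (κ_surjective R n Z) (κ_ker R n Z)

/-- The restriction morphism. -/
noncomputable def ρ {Z Z' : Aᵒᵖ} (r : Z ⟶ Z') : HS R n Z ⟶ HS R n Z' where
  τ₁ := (preadditiveYoneda.obj (R.cocomplex.X n)).map r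
  τ₂ := (preadditiveYoneda.obj (R.cocomplex.X (n + 1))).map r
  τ₃ := (preadditiveYoneda.obj (R.cocomplex.X (n + 2))).map r
  comm₁₂ := (preadditiveYoneda.map (R.cocomplex.d n (n + 1))).naturality r
  comm₂₃ := (preadditiveYoneda.map (R.cocomplex.d (n + 1) (n + 2))).naturality r

variable (F) in
/-- The restriction maps of `Z ↦ Ext(Z, F)`. -/
noncomputable def resExt {Z Z' : Aᵒᵖ} (r : Z ⟶ Z') (k : ℕ) :
    (AddCommGrpCat.of (Ext Z.unop F k) : AddCommGrpCat.{v}) ⟶ AddCommGrpCat.of (Ext Z'.unop F k) :=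
  ((extFunctor k).flip.obj F).map r

lemma Ψ_naturality {Z Z' : Aᵒᵖ} (r : Z ⟶ Z') :
    ShortComplex.homologyMap (ρ R n r) ≫ (Ψ R n Z').hom =
      (Ψ R n Z).hom ≫ resExt F r (n + 1) := by
  rw [← cancel_epi (HS R n Z).homologyπ, ShortComplex.homologyπ_naturality_assoc]
  have h1 : (HS R n Z').homologyπ ≫ (Ψ R n Z').hom = _ :=
    homologyπ_abHomologyIsoOfKer (HS R n Z') _ (κ R n Z') (κ_surjective R n Z') (κ_ker R n Z')
  have h2 : (HS R n Z).homologyπ ≫ (Ψ R n Z).hom = _ :=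
    homologyπ_abHomologyIsoOfKer (HS R n Z) _ (κ R n Z) (κ_surjective R n Z) (κ_ker R n Z)
  rw [h1, reassoc_of% h2]
  ext c
  change κ R n Z' ((HS R n Z').abCyclesIso.hom (ShortComplex.cyclesMap (ρ R n r) c)) =
    (Ext.mk₀ r.unop).comp (κ R n Z ((HS R n Z).abCyclesIso.hom c)) (zero_add (n + 1))
  rw [κ_apply, κ_apply, InjectiveResolution.mk₀_comp_extMk]
  apply extMk_congr
  rw [abCyclesIso_hom_apply_coe, abCyclesIso_hom_apply_coe]
  have hc := congrArg (fun φ => (ConcreteCategory.hom φ) c)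
    (ShortComplex.cyclesMap_i (ρ R n r))
  exact (congrArg (homEquiv Z' _) hc).trans
    (homEquiv_precomp r (R.cocomplex.X (n + 1)) ((HS R n Z).iCycles c))

/-- The sections of the homology functor. -/
noncomputable def isoZ (Z : Aᵒᵖ) :
    (SYo R n).homology.obj Z ≅ ((extFunctor (n + 1)).flip.obj F).obj Z :=
  ((SYo R n).mapHomologyIso ((evaluation _ _).obj Z)).symm ≪≫ Ψ R n Z

lemma isoZ_naturality {Z Z' : Aᵒᵖ} (r : Z ⟶ Z') :
    (SYo R n).homology.map r ≫ (isoZ R n Z').hom =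
      (isoZ R n Z).hom ≫ ((extFunctor (n + 1)).flip.obj F).map r := by
  let τ := (evaluation Aᵒᵖ AddCommGrpCat.{v}).map r
  let a := (SYo R n).mapHomologyIso ((evaluation _ _).obj Z)
  let a' := (SYo R n).mapHomologyIso ((evaluation _ _).obj Z')
  let m := ShortComplex.homologyMap ((SYo R n).mapNatTrans τ)
  let Φ : ((SYo R n).map ((evaluation _ _).obj Z)).homology ⟶
      ((extFunctor (n + 1)).flip.obj F).obj Z := (Ψ R n Z).hom
  let Φ' : ((SYo R n).map ((evaluation _ _).obj Z')).homology ⟶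
      ((extFunctor (n + 1)).flip.obj F).obj Z' := (Ψ R n Z').hom
  have h' : (SYo R n).homology.map r = a.inv ≫ m ≫ a'.hom :=
    NatTrans.app_homology τ (SYo R n)
  have hn : m ≫ Φ' = Φ ≫ ((extFunctor (n + 1)).flip.obj F).map r := Ψ_naturality R n r
  have e1 : (isoZ R n Z').hom = a'.inv ≫ Φ' := rfl
  have e2 : (isoZ R n Z).hom = a.inv ≫ Φ := rfl
  rw [e1, e2, h']
  simp only [Category.assoc, Iso.hom_inv_id_assoc]
  rw [hn]

/-- The homology of `Hom(-, R^•)` is `Ext(-, F)`. -/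
noncomputable def homologyIso : (SYo R n).homology ≅ (extFunctor (n + 1)).flip.obj F :=
  NatIso.ofComponents (isoZ R n) (fun r => isoZ_naturality R n r)

variable (F) in
/-- `Ext^0(-, F) ≅ Hom(-, F)`. -/
noncomputable def ext0Iso : (extFunctor 0).flip.obj F ≅ preadditiveYoneda.obj F :=
  NatIso.ofComponents (fun Z => AddEquiv.toAddCommGrpIso (Ext.addEquiv₀ (X := Z.unop) (Y := F)))
    (by
      intro Z Z' r
      ext α
      obtain ⟨φ, rfl⟩ := (Ext.mk₀_bijective _ _).2 α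
      change Ext.addEquiv₀ ((Ext.mk₀ r.unop).comp (Ext.mk₀ φ) (zero_add 0)) =
        r.unop ≫ Ext.addEquiv₀ (Ext.mk₀ φ)
      rw [Ext.mk₀_comp_mk₀]
      have h : ∀ {X Y : A} (ψ : X ⟶ Y), Ext.addEquiv₀ (Ext.mk₀ ψ) = ψ :=
        fun ψ => Ext.addEquiv₀.apply_symm_apply ψ
      rw [h, h])

end Groth.Agent.H42.ExtYoneda
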