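import Mathlib

/-!
# (E1) for helper13's S1291 squad: a separating element of `C_h ⊗[A] C` for `C_h` étale over `A`
-/

set_option autoImplicit false
set_option linter.style.haveILetI false
universe u

namespace Groth.Agent.H42.FZ
open TensorProduct

theorem exists_sep_elem {A C : Type u} [CommRing A] [CommRing C] [Algebra A C] [Module.Finite A C]
    (h : C) [Algebra.Etale A (Localization.Away h)] :
    ∃ e : Localization.Away h ⊗[A] C,
      Algebra.TensorProduct.lift (AlgHom.id (Localization.Away h) (Localization.Away h))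
        (IsScalarTower.toAlgHom A C (Localization.Away h)) (fun _ _ => Commute.all _ _) e = 1 ∧
      ∀ c : C, ((1 : Localization.Away h) ⊗ₜ[A] c) * e =
        (algebraMap C (Localization.Away h) c ⊗ₜ[A] (1 : C)) * e := by
  classical
  -- notation
  let μ : Localization.Away h ⊗[A] C →ₐ[Localization.Away h] Localization.Away h :=
    Algebra.TensorProduct.lift (AlgHom.id (Localization.Away h) (Localization.Away h))
      (IsScalarTower.toAlgHom A C (Localization.Away h)) (fun _ _ => Commute.all _ _)
  let φ : Localization.Away h ⊗[A] C →ₐ[Localization.Away h]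
      Localization.Away h ⊗[A] Localization.Away h :=
    Algebra.TensorProduct.map (AlgHom.id (Localization.Away h) (Localization.Away h))
      (IsScalarTower.toAlgHom A C (Localization.Away h))
  have hμφ : ∀ x, Algebra.TensorProduct.lmul' A (φ x) = μ x := by
    intro x
    induction x using TensorProduct.induction_on with
    | zero => simp
    | tmul a c => simp [φ, μ]
    | add x y hx hy => rw [map_add, map_add, map_add, hx, hy]
  -- the localization structure
  letI : Algebra (Localization.Away h ⊗[A] C) (Localization.Away h ⊗[A] Localization.Away h) :=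
    φ.toRingHom.toAlgebra
  haveI : IsScalarTower (Localization.Away h) (Localization.Away h ⊗[A] C)
      (Localization.Away h ⊗[A] Localization.Away h) :=
    IsScalarTower.of_algebraMap_eq (fun a => by
      show _ = φ (algebraMap (Localization.Away h) (Localization.Away h ⊗[A] C) a)
      rw [AlgHom.commutes])
  have H : (algebraMap (Localization.Away h ⊗[A] C)
      (Localization.Away h ⊗[A] Localization.Away h)).comp
        (Algebra.TensorProduct.includeRight (R := A) (A := Localization.Away h)
          (B := C)).toRingHom =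
      (Algebra.TensorProduct.includeRight (R := A) (A := Localization.Away h)
        (B := Localization.Away h)).toRingHom.comp (algebraMap C (Localization.Away h)) := by
    ext c
    show φ ((1 : Localization.Away h) ⊗ₜ[A] c) = (1 : Localization.Away h) ⊗ₜ[A] algebraMap C _ c
    simp [φ]
  haveI hloc := IsLocalization.tensorProduct_tensorProduct_right A (Localization.Away h)
    (Submonoid.powers h) (Localization.Away h) H
  -- the element from unramifiedness
  haveI : Algebra.FormallyUnramified A (Localization.Away h) := inferInstance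
  haveI : Algebra.EssFiniteType A (Localization.Away h) := inferInstance
  obtain ⟨ε, hε₁, hε₂⟩ := Algebra.FormallyUnramified.iff_exists_tensorProduct.mp
    (inferInstance : Algebra.FormallyUnramified A (Localization.Away h))
  -- lift `ε` up to a power of `1 ⊗ h`
  obtain ⟨⟨e₀, s⟩, hs⟩ := IsLocalization.surj
    ((Submonoid.powers h).map (Algebra.TensorProduct.includeRight (R := A)
      (A := Localization.Away h) (B := C))) ε
  obtain ⟨_, ⟨m, rfl⟩, hsm⟩ := s.2
  have hs' : ε * φ ((1 : Localization.Away h) ⊗ₜ[A] (h ^ m)) = φ e₀ := by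
    have := hs
    rw [← hsm] at this
    exact this
  -- `t := 1 ⊗ h`
  set t : Localization.Away h ⊗[A] C := (1 : Localization.Away h) ⊗ₜ[A] h with ht
  have htm : ∀ k : ℕ, (1 : Localization.Away h) ⊗ₜ[A] (h ^ k) = t ^ k := by
    intro k
    rw [ht, Algebra.TensorProduct.tmul_pow, one_pow]
  have hμt : μ t = algebraMap C (Localization.Away h) h := by simp [μ, ht]
  have hμe₀ : μ e₀ = (algebraMap C (Localization.Away h) h) ^ m := by
    rw [← hμφ, ← hs', map_mul, hε₂, one_mul, hμφ, htm, map_pow, hμt]
  -- `D c := (1 ⊗ c - ψ c ⊗ 1) * e₀`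
  let ψ : C →ₐ[A] Localization.Away h := IsScalarTower.toAlgHom A C (Localization.Away h)
  have hψ : ∀ c, ψ c = algebraMap C (Localization.Away h) c := fun c => rfl
  let D : C →ₗ[A] Localization.Away h ⊗[A] C :=
    (LinearMap.mulRight A e₀) ∘ₗ (TensorProduct.mk A (Localization.Away h) C 1 -
      ((TensorProduct.mk A (Localization.Away h) C).flip 1) ∘ₗ ψ.toLinearMap)
  have hD : ∀ c, D c = ((1 : Localization.Away h) ⊗ₜ[A] c - ψ c ⊗ₜ[A] (1 : C)) * e₀ :=
    fun c => by
      simp only [D, LinearMap.comp_apply, LinearMap.sub_apply, LinearMap.mulRight_apply,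
        TensorProduct.mk_apply, LinearMap.flip_apply, AlgHom.toLinearMap_apply]
  have hφD : ∀ c, φ (D c) = 0 := by
    intro c
    rw [hD, map_mul, ← hs', map_sub]
    have h1 : φ ((1 : Localization.Away h) ⊗ₜ[A] c) = (1 : Localization.Away h) ⊗ₜ[A] ψ c := by
      simp [φ, ψ]
    have h2 : φ (ψ c ⊗ₜ[A] (1 : C)) = ψ c ⊗ₜ[A] (1 : Localization.Away h) := by
      simp [φ, ψ]
    rw [h1, h2, ← mul_assoc, hε₁, zero_mul]
  have hkill : ∀ c, ∃ n : ℕ, t ^ n * D c = 0 := by
    intro c
    have h0 := (IsLocalization.map_eq_zero_iff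
      ((Submonoid.powers h).map (Algebra.TensorProduct.includeRight (R := A)
        (A := Localization.Away h) (B := C)))
      (Localization.Away h ⊗[A] Localization.Away h) (D c)).mp (hφD c)
    obtain ⟨⟨_, ⟨_, ⟨n, rfl⟩, rfl⟩⟩, hn⟩ := h0
    refine ⟨n, ?_⟩
    rw [← htm]
    exact hn
  -- a uniform exponent
  obtain ⟨gens, hgens⟩ := (Module.Finite.fg_top : (⊤ : Submodule A C).FG)
  choose n hn using hkill
  have hN : ∀ c, t ^ (gens.sup n) * D c = 0 := by
    have hle : (⊤ : Submodule A C) ≤
        LinearMap.ker ((LinearMap.mulLeft A (t ^ (gens.sup n))) ∘ₗ D) := by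
      rw [← hgens, Submodule.span_le]
      intro c hc
      rw [SetLike.mem_coe, LinearMap.mem_ker, LinearMap.comp_apply, LinearMap.mulLeft_apply]
      have hle : n c ≤ gens.sup n := Finset.le_sup hc
      obtain ⟨k, hk⟩ := Nat.exists_eq_add_of_le hle
      rw [hk, pow_add, mul_comm (t ^ n c), mul_assoc, hn c, mul_zero]
    intro c
    exact hle (Submodule.mem_top : c ∈ ⊤)
  -- the unit
  have hu : IsUnit ((algebraMap C (Localization.Away h) h) ^ (gens.sup n + m)) :=
    (IsLocalization.Away.algebraMap_isUnit h).pow _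
  obtain ⟨u, hu'⟩ := hu
  refine ⟨((↑u⁻¹ : Localization.Away h) ⊗ₜ[A] (1 : C)) * (t ^ (gens.sup n) * e₀), ?_, ?_⟩
  · show μ _ = 1
    have hμw : μ ((↑u⁻¹ : Localization.Away h) ⊗ₜ[A] (1 : C)) = ↑u⁻¹ := by simp [μ]
    rw [map_mul, map_mul, map_pow, hμe₀, hμt, hμw, ← pow_add, ← hu', Units.inv_mul]
  · intro c
    have h0 := hN c
    rw [hD] at h0
    rw [← sub_eq_zero, ← sub_mul]
    calc ((1 : Localization.Away h) ⊗ₜ[A] c - algebraMap C (Localization.Away h) c ⊗ₜ[A] (1 : C)) *
          (((↑u⁻¹ : Localization.Away h) ⊗ₜ[A] (1 : C)) * (t ^ (gens.sup n) * e₀))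
        = ((↑u⁻¹ : Localization.Away h) ⊗ₜ[A] (1 : C)) * (t ^ (gens.sup n) *
          (((1 : Localization.Away h) ⊗ₜ[A] c - ψ c ⊗ₜ[A] (1 : C)) * e₀)) := by
          rw [hψ]; ring
      _ = 0 := by rw [h0, mul_zero]

end Groth.Agent.H42.FZ
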