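import Mathlib
import Groth.Agent.S0389

/-!
# (P3) for helper13's S13456 squad: generic constancy of the fibre dimensions of all graded pieces
-/

set_option autoImplicit false
set_option linter.style.haveILetI false
universe u

namespace Groth.Agent.H42.HFS
open TensorProduct

/-- The dimension of `K ⊗[A] N` for a field `K` over `A` only depends on the kernel of `A → K`. -/
theorem finrank_field_tensor_eq {A : Type u} [CommRing A] (K : Type u) [Field K] [Algebra A K]
    (N : Type u) [AddCommGroup N] [Module A N] (q : Ideal A) [q.IsPrime]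
    (hq : q = RingHom.ker (algebraMap A K)) :
    Module.finrank K (K ⊗[A] N) = Module.finrank q.ResidueField (q.ResidueField ⊗[A] N) := by
  have h2 : q.primeCompl ≤ (IsUnit.submonoid K).comap (algebraMap A K) := by
    intro a ha
    have ha' : a ∉ q := ha
    rw [hq, RingHom.mem_ker] at ha'
    exact isUnit_iff_ne_zero.mpr ha'
  let φ : q.ResidueField →+* K := Ideal.ResidueField.lift q (algebraMap A K) hq.le h2
  letI : Algebra q.ResidueField K := φ.toAlgebra
  haveI : IsScalarTower A q.ResidueField K := IsScalarTower.of_algebraMap_eq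
    (fun a => (Ideal.ResidueField.lift_algebraMap q (algebraMap A K) hq.le h2 a).symm)
  let e : K ⊗[q.ResidueField] (q.ResidueField ⊗[A] N) ≃ₗ[K] K ⊗[A] N :=
    AlgebraTensorModule.cancelBaseChange A q.ResidueField K K N
  rw [← e.finrank_eq, Module.finrank_baseChange]

/-- For a finite flat module `P` over a domain `D` and a field `K` over `D`, the dimension of
`K ⊗[D] P` is the generic rank. -/
theorem finrank_field_tensor_of_flat {D : Type u} [CommRing D] [IsDomain D] (K : Type u) [Field K]
    [Algebra D K] (P : Type u) [AddCommGroup P] [Module D P] [Module.Finite D P] [Module.Flat D P] :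
    Module.finrank K (K ⊗[D] P) = Module.rankAtStalk P ⟨(⊥ : Ideal D), Ideal.isPrime_bot⟩ := by
  haveI hQ : (RingHom.ker (algebraMap D K)).IsPrime := RingHom.ker_isPrime _
  rw [finrank_field_tensor_eq K P (RingHom.ker (algebraMap D K)) rfl,
    Ideal.finrank_fiber_eq_rankAtStalk]
  exact (Module.rankAtStalk_eq_of_le_of_finite_of_flat' P bot_le).symm


theorem exists_flat_baseChange (A : Type u) [CommRing A]
    (R : Type u) [CommRing R] [Algebra A R] [Algebra.FiniteType A R]
    (M : Type u) [AddCommGroup M] [Module A M] [Module R M] [IsScalarTower A R M]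
    [Module.Finite R M] (p : Ideal A) [p.IsPrime] :
    ∃ fbar : A ⧸ p, fbar ≠ 0 ∧
      Module.Flat (Localization.Away fbar) (Localization.Away fbar ⊗[A] M) := by
  let I : Ideal R := p.map (algebraMap A R)
  let S := R ⧸ I
  let Mbar := M ⧸ (I • ⊤ : Submodule R M)
  let Abar := A ⧸ p
  letI : Module Abar Mbar := Module.compHom Mbar (algebraMap Abar S)
  have smul_def : ∀ (a : Abar) (x : Mbar), a • x = algebraMap Abar S a • x := fun _ _ => rfl
  haveI : IsScalarTower Abar S Mbar := ⟨fun a s x => by
    rw [smul_def, Algebra.smul_def, mul_smul]⟩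
  haveI : IsScalarTower A Abar S := IsScalarTower.of_algebraMap_eq (fun a => rfl)
  haveI : IsScalarTower R S Mbar := ⟨fun r s x => by
    obtain ⟨s, rfl⟩ := Ideal.Quotient.mk_surjective s
    obtain ⟨x, rfl⟩ := Submodule.Quotient.mk_surjective _ x
    rw [Algebra.smul_def, Ideal.Quotient.algebraMap_eq, ← map_mul, Module.Quotient.mk_smul_mk,
      Module.Quotient.mk_smul_mk, mul_smul]
    rfl⟩
  haveI : Algebra.FiniteType Abar S := Algebra.FiniteType.of_restrictScalars_finiteType A Abar S
  haveI : Module.Finite S Mbar := Module.Finite.of_restrictScalars_finite R S Mbar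
  obtain ⟨fbar, hf0, hfree, -⟩ := Groth.Agent.S0389.result (R := Abar) (S := S) (M := Mbar)
  refine ⟨fbar, hf0, ?_⟩
  have key : ∀ (a : A) (x : M), (Ideal.Quotient.mk p a : Abar) •
      (Submodule.Quotient.mk x : Mbar) = Submodule.Quotient.mk (a • x) := fun a x => by
    rw [smul_def]
    show (Ideal.Quotient.mk I (algebraMap A R a)) • _ = _
    rw [Module.Quotient.mk_smul_mk, algebraMap_smul]
  haveI : IsScalarTower A Abar Mbar := ⟨fun a b x => by
    obtain ⟨x, rfl⟩ := Submodule.Quotient.mk_surjective _ x
    obtain ⟨b, rfl⟩ := Ideal.Quotient.mk_surjective b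
    rw [Algebra.smul_def, Ideal.Quotient.algebraMap_eq, ← map_mul, key, key,
      ← Submodule.Quotient.mk_smul, mul_smul]⟩
  -- the two maps
  let g : M →ₗ[A] Localization.Away fbar ⊗[Abar] Mbar :=
    { toFun := fun m => (1 : Localization.Away fbar) ⊗ₜ[Abar] (Submodule.Quotient.mk m : Mbar)
      map_add' := fun x y => by rw [Submodule.Quotient.mk_add, tmul_add]
      map_smul' := fun a m => by
        simp only [RingHom.id_apply]
        rw [← key a m, tmul_smul, ← Ideal.Quotient.algebraMap_eq, algebraMap_smul] }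
  let fwd : Localization.Away fbar ⊗[A] M →ₗ[Localization.Away fbar]
      Localization.Away fbar ⊗[Abar] Mbar := LinearMap.liftBaseChange _ g
  have hle : (I • ⊤ : Submodule R M).restrictScalars A ≤
      LinearMap.ker (TensorProduct.mk A (Localization.Away fbar) M 1) := by
    intro m hm
    rw [LinearMap.mem_ker, TensorProduct.mk_apply]
    have hm' : m ∈ (I • ⊤ : Submodule R M) := hm
    have hI : ∀ r ∈ I, ∀ n : M, (1 : Localization.Away fbar) ⊗ₜ[A] (r • n) = 0 := by
      intro r hr
      refine Submodule.span_induction (p := fun r _ => ∀ n : M,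
        (1 : Localization.Away fbar) ⊗ₜ[A] (r • n) = 0) ?_ ?_ ?_ ?_ hr
      · rintro _ ⟨a, ha, rfl⟩ n
        rw [algebraMap_smul, tmul_smul, smul_tmul', Algebra.smul_def, mul_one,
          IsScalarTower.algebraMap_apply A Abar (Localization.Away fbar),
          Ideal.Quotient.algebraMap_eq, Ideal.Quotient.eq_zero_iff_mem.mpr ha, map_zero, zero_tmul]
      · intro n; rw [zero_smul, tmul_zero]
      · intro x y _ _ hx hy n; rw [add_smul, tmul_add, hx, hy, add_zero]
      · intro r' x _ hx n; rw [smul_eq_mul, mul_comm, mul_smul]; exact hx _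
    refine Submodule.smul_induction_on hm' (fun r hr n _ => hI r hr n) ?_
    intro x y hx hy; rw [tmul_add, hx, hy, add_zero]
  let hA : Mbar →ₗ[A] Localization.Away fbar ⊗[A] M :=
    (Submodule.liftQ ((I • ⊤ : Submodule R M).restrictScalars A)
      (TensorProduct.mk A (Localization.Away fbar) M 1) hle) ∘ₗ
      (Submodule.Quotient.restrictScalarsEquiv A (I • ⊤ : Submodule R M)).symm.toLinearMap
  have hA_mk : ∀ m : M, hA (Submodule.Quotient.mk m) = (1 : Localization.Away fbar) ⊗ₜ[A] m :=
    fun m => rfl
  let h : Mbar →ₗ[Abar] Localization.Away fbar ⊗[A] M :=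
    hA.extendScalarsOfSurjective Ideal.Quotient.mk_surjective
  let bwd : Localization.Away fbar ⊗[Abar] Mbar →ₗ[Localization.Away fbar]
      Localization.Away fbar ⊗[A] M := LinearMap.liftBaseChange _ h
  have hcomp : bwd.comp fwd = LinearMap.id := by
    apply TensorProduct.AlgebraTensorModule.ext
    intro d m
    simp only [LinearMap.comp_apply, LinearMap.id_apply, fwd, bwd,
      LinearMap.liftBaseChange_tmul, map_smul]
    show d • (1 : Localization.Away fbar) • hA (Submodule.Quotient.mk m) = _
    rw [hA_mk, one_smul, smul_tmul', smul_eq_mul, mul_one]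
  exact Module.Flat.of_retract fwd bwd hcomp

/-- (P3) generic constancy of the fibre dimensions of all graded pieces at once. -/
theorem exists_generic_finrank_eq (A : Type u) [CommRing A]
    (R : Type u) [CommRing R] [Algebra A R] [Algebra.FiniteType A R]
    (M : Type u) [AddCommGroup M] [Module A M] [Module R M] [IsScalarTower A R M]
    [Module.Finite R M]
    (ℳ : ℤ → Submodule A M) [DirectSum.Decomposition ℳ]
    (hfg : ∀ v : ℤ, Module.Finite A ↥(ℳ v)) (p : Ideal A) [p.IsPrime] :
    ∃ f : A, f ∉ p ∧ ∀ (q : Ideal A) [q.IsPrime], p ≤ q → f ∉ q → ∀ v : ℤ,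
      Module.finrank q.ResidueField (q.ResidueField ⊗[A] ↥(ℳ v)) =
        Module.finrank p.ResidueField (p.ResidueField ⊗[A] ↥(ℳ v)) := by
  classical
  obtain ⟨fbar, hf0, hflat⟩ := exists_flat_baseChange A R M p
  obtain ⟨f, rfl⟩ := Ideal.Quotient.mk_surjective fbar
  have hfp : f ∉ p := fun h => hf0 (Ideal.Quotient.eq_zero_iff_mem.mpr h)
  refine ⟨f, hfp, ?_⟩
  haveI : IsDomain (Localization.Away (Ideal.Quotient.mk p f)) :=
    IsLocalization.isDomain_localization (powers_le_nonZeroDivisors_of_noZeroDivisors hf0)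
  -- flatness of each piece
  have hflat_v : ∀ v, Module.Flat (Localization.Away (Ideal.Quotient.mk p f))
      (Localization.Away (Ideal.Quotient.mk p f) ⊗[A] ℳ v) := by
    intro v
    let ι : ℳ v →ₗ[A] M := (ℳ v).subtype
    let π : M →ₗ[A] ℳ v := (DirectSum.component A ℤ (fun i => ℳ i) v) ∘ₗ
      (DirectSum.decomposeLinearEquiv ℳ).toLinearMap
    have hπι : π ∘ₗ ι = LinearMap.id := by
      ext x
      simp only [π, ι, LinearMap.comp_apply, Submodule.subtype_apply, LinearMap.id_apply,
        LinearEquiv.coe_coe, DirectSum.decomposeLinearEquiv_apply, DirectSum.decompose_coe]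
      rw [← DirectSum.lof_eq_of A, DirectSum.component.lof_self]
    exact Module.Flat.of_retract (ι.baseChange _) (π.baseChange _)
      (by rw [← LinearMap.baseChange_comp, hπι, LinearMap.baseChange_id])
  -- key: for any q ⊇ p, f ∉ q: finrank = generic rank
  have key : ∀ (q : Ideal A) [q.IsPrime], p ≤ q → f ∉ q → ∀ v,
      Module.finrank q.ResidueField (q.ResidueField ⊗[A] ℳ v) =
        Module.rankAtStalk (Localization.Away (Ideal.Quotient.mk p f) ⊗[A] ℳ v)
          ⟨(⊥ : Ideal (Localization.Away (Ideal.Quotient.mk p f))), Ideal.isPrime_bot⟩ := by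
    intro q _ hpq hfq v
    haveI := hfg v
    haveI := hflat_v v
    let g : A ⧸ p →+* q.ResidueField := Ideal.Quotient.lift p (algebraMap A q.ResidueField)
      (fun a ha => Ideal.algebraMap_residueField_eq_zero.mpr (hpq ha))
    have hgu : IsUnit (g (Ideal.Quotient.mk p f)) := by
      rw [Ideal.Quotient.lift_mk, isUnit_iff_ne_zero, Ne, Ideal.algebraMap_residueField_eq_zero]
      exact hfq
    let ψ : Localization.Away (Ideal.Quotient.mk p f) →+* q.ResidueField :=
      IsLocalization.Away.lift (Ideal.Quotient.mk p f) hgu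
    letI : Algebra (Localization.Away (Ideal.Quotient.mk p f)) q.ResidueField := ψ.toAlgebra
    haveI : IsScalarTower A (Localization.Away (Ideal.Quotient.mk p f)) q.ResidueField :=
      IsScalarTower.of_algebraMap_eq (fun a => by
        show _ = ψ (algebraMap A _ a)
        rw [IsScalarTower.algebraMap_apply A (A ⧸ p) (Localization.Away (Ideal.Quotient.mk p f)),
          IsLocalization.Away.lift_eq, Ideal.Quotient.algebraMap_eq, Ideal.Quotient.lift_mk])
    let e : q.ResidueField ⊗[Localization.Away (Ideal.Quotient.mk p f)]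
        (Localization.Away (Ideal.Quotient.mk p f) ⊗[A] ℳ v) ≃ₗ[q.ResidueField]
        q.ResidueField ⊗[A] ℳ v :=
      AlgebraTensorModule.cancelBaseChange A _ q.ResidueField q.ResidueField (ℳ v)
    rw [← e.finrank_eq]
    exact finrank_field_tensor_of_flat q.ResidueField _
  intro q _ hpq hfq v
  rw [key q hpq hfq v, key p le_rfl hfp v]

end Groth.Agent.H42.HFS
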