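import Mathlib

/-!
# (P4) for helper13's S13456 squad: Noetherian induction on ideals
-/

set_option autoImplicit false
universe u

namespace Groth.Agent.H42.HFS

/-- (P4) Noetherian induction: a family of opens `D(b v)` whose intersection contains a nonempty
open of the closure of each of its points is cut out by finitely many members. -/
theorem exists_finset_of_generic {A : Type u} [CommRing A] [IsNoetherianRing A] {ι : Type*}
    (b : ι → Ideal A)
    (hgen : ∀ (p : Ideal A) [p.IsPrime], (∀ v, ¬ b v ≤ p) →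
      ∃ f : A, f ∉ p ∧ ∀ (q : Ideal A) [q.IsPrime], p ≤ q → f ∉ q → ∀ v, ¬ b v ≤ q) :
    ∃ F : Finset ι, ∀ (q : Ideal A) [q.IsPrime], (∀ v ∈ F, ¬ b v ≤ q) → ∀ v, ¬ b v ≤ q := by
  classical
  have good : ∀ I : Ideal A, ∃ F : Finset ι, ∀ (q : Ideal A) [q.IsPrime], I ≤ q →
      (∀ v ∈ F, ¬ b v ≤ q) → ∀ v, ¬ b v ≤ q := by
    intro I
    induction I using WellFoundedGT.induction with
    | ind I IH =>
    by_cases hI : I.IsPrime
    · by_cases hb : ∃ v0, b v0 ≤ I
      · obtain ⟨v0, hv0⟩ := hb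
        exact ⟨{v0}, fun q _ hq h =>
          absurd (hv0.trans hq) (h v0 (Finset.mem_singleton_self _))⟩
      · push Not at hb
        obtain ⟨f, hfI, hf⟩ := hgen I hb
        have hlt : I < I ⊔ Ideal.span {f} := by
          refine lt_of_le_of_ne le_sup_left (fun h => hfI ?_)
          rw [h]
          exact Ideal.mem_sup_right (Ideal.subset_span rfl)
        obtain ⟨F, hF⟩ := IH _ hlt
        refine ⟨F, fun q _ hq h => ?_⟩
        by_cases hfq : f ∈ q
        · exact hF q (sup_le hq ((Ideal.span_singleton_le_iff_mem _).2 hfq)) h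
        · exact hf q hq hfq
    · have hfin := Ideal.finite_minimalPrimes_of_isNoetherianRing A I
      have hlt : ∀ p ∈ I.minimalPrimes, I < p := fun p hp =>
        lt_of_le_of_ne hp.1.2 (fun h => hI (h ▸ hp.1.1))
      have IH' : ∀ p ∈ I.minimalPrimes, ∃ F : Finset ι, ∀ (q : Ideal A), q.IsPrime → p ≤ q →
          (∀ v ∈ F, ¬ b v ≤ q) → ∀ v, ¬ b v ≤ q := by
        intro p hp
        obtain ⟨F, hF⟩ := IH p (hlt p hp)
        exact ⟨F, fun q hq => @hF q hq⟩
      choose! F hF using IH'
      refine ⟨hfin.toFinset.biUnion F, fun q hqp hq h => ?_⟩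
      obtain ⟨p, hp, hpq⟩ := Ideal.exists_minimalPrimes_le hq
      exact hF p hp q hqp hpq (fun v hv =>
        h v (Finset.mem_biUnion.2 ⟨p, hfin.mem_toFinset.2 hp, hv⟩))
  obtain ⟨F, hF⟩ := good ⊥
  exact ⟨F, fun q _ h => hF q bot_le h⟩

end Groth.Agent.H42.HFS
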