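import Groth.Agent.S0931
import Groth.Agent.H42.CohTopPush

/-!
# Helper library (helper42): cohomology sheaves of `f_* M` for a K-injective complex `M` on a space
are the sheafified hypercohomology presheaves `V ↦ H^0(f⁻¹ V, M)`.
-/

set_option autoImplicit false
universe u
open CategoryTheory CategoryTheory.Limits Opposite TopologicalSpace

namespace Groth.Agent.H42.HyperPush

open Groth.Agent.H5.HDULib Groth.Agent.S0931

variable {X Y : TopCat.{u}} (f : X ⟶ Y) [HasDerivedCategory.{u} (CohTop.Ab X)]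
  (M : CochainComplex (CohTop.Ab X) ℤ) [M.IsKInjective]

/-- The whiskered class map `Z⁰(M)(f⁻¹ V) → H^0(f⁻¹ V, M)`. -/
noncomputable def pcl :
    ((CohTop.push f).obj (kernel (M.d 0 1))).obj ⟶
      (Opens.map f).op ⋙ CohCx.HDUPresheaf (DerivedCategory.Q.obj M) 0 :=
  Functor.whiskerLeft (Opens.map f).op (clM (Opens.grothendieckTopology X) M)

instance : Epi (pcl f M) := by
  haveI : ∀ V, Epi ((pcl f M).app V) := fun V => by
    rw [AddCommGrpCat.epi_iff_surjective]
    exact fun y => clM_surjective (Opens.grothendieckTopology X) M ((Opens.map f).obj V.unop) y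
  exact NatTrans.epi_of_epi_app _

theorem δ_pcl : ((CohTop.push f).map (δ M)).hom ≫ pcl f M = 0 := by
  have h := δ_clM M
  change Functor.whiskerLeft (Opens.map f).op (δ M).hom ≫
    Functor.whiskerLeft (Opens.map f).op (clM (Opens.grothendieckTopology X) M) = 0
  rw [← Functor.whiskerLeft_comp, h]
  rfl

theorem kernel_ι_comp' {T : CohTop.Ab Y} (g : (CohTop.push f).obj (kernel (M.d 0 1)) ⟶ T)
    (hg : (CohTop.push f).map (δ M) ≫ g = 0) : kernel.ι (pcl f M) ≫ g.hom = 0 := by
  apply NatTrans.ext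
  funext V
  apply AddCommGrpCat.hom_ext
  ext x
  let W : Opens X := (Opens.map f).obj V.unop
  let s : (kernel (M.d 0 1)).obj.obj (op W) := ((kernel.ι (pcl f M)).app V).hom x
  have hs : ((clM (Opens.grothendieckTopology X) M).app (op W)).hom s = 0 := by
    change ((kernel.ι (pcl f M) ≫ pcl f M).app V).hom x = 0
    rw [kernel.condition]
    rfl
  rw [clM_eq_zero_iff] at hs
  obtain ⟨r, hr⟩ := hs
  have hs' : s = sec (Opens.grothendieckTopology X) (δ M) W r := by
    apply sec_injective_of_mono (Opens.grothendieckTopology X) (kernel.ι (M.d 0 1)) W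
    rw [← hr, ← sec_comp, δ, kernel.lift_ι]
  change (g.hom.app V).hom s = 0
  rw [hs']
  change (((CohTop.push f).map (δ M) ≫ g).hom.app V).hom r = 0
  rw [hg]
  rfl

/-- The sheafification of `V ↦ H^0(f⁻¹ V, M)` is the degree `0` cohomology sheaf of `f_* M`. -/
theorem nonempty_iso_homology_zero :
    Nonempty ((presheafToSheaf (Opens.grothendieckTopology Y) AddCommGrpCat.{u}).obj
      ((Opens.map f).op ⋙ CohCx.HDUPresheaf (DerivedCategory.Q.obj M) 0) ≅
      (((CohTop.push f).mapHomologicalComplex (ComplexShape.up ℤ)).obj M).homology 0) := by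
  have := Groth.Agent.H42.CohTopLib.preservesLimits_push f
  obtain ⟨e1⟩ := nonempty_iso_cokernel ((CohTop.push f).map (δ M)) (pcl f M) (δ_pcl f M)
    (fun T g hg => kernel_ι_comp' f M g hg)
  let N := ((CohTop.push f).mapHomologicalComplex (ComplexShape.up ℤ)).obj M
  have w : (CohTop.push f).map (M.d (-1) 0) ≫ (CohTop.push f).map (M.d 0 1) = 0 := by
    rw [← Functor.map_comp, M.d_comp_d, Functor.map_zero]
  let κ : (CohTop.push f).obj (kernel (M.d 0 1)) ≅ kernel ((CohTop.push f).map (M.d 0 1)) :=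
    PreservesKernel.iso (CohTop.push f) (M.d 0 1)
  have hκ : (CohTop.push f).map (δ M) ≫ κ.hom =
      kernel.lift ((CohTop.push f).map (M.d 0 1)) ((CohTop.push f).map (M.d (-1) 0)) w := by
    rw [← cancel_mono (kernel.ι ((CohTop.push f).map (M.d 0 1))), Category.assoc, kernel.lift_ι,
      PreservesKernel.iso_hom, kernelComparison_comp_ι, ← Functor.map_comp, δ, kernel.lift_ι]
  let e2 : cokernel ((CohTop.push f).map (δ M)) ≅
      cokernel (kernel.lift ((CohTop.push f).map (M.d 0 1))
        ((CohTop.push f).map (M.d (-1) 0)) w) :=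
    cokernel.mapIso _ _ (Iso.refl _) κ (by rw [Iso.refl_hom, Category.id_comp, hκ])
  let e3 : cokernel (kernel.lift ((CohTop.push f).map (M.d 0 1))
        ((CohTop.push f).map (M.d (-1) 0)) w) ≅ (N.sc' (-1) 0 1).homology :=
    (ShortComplex.homologyIsoCokernelLift (N.sc' (-1) 0 1)).symm
  let e4 : N.homology 0 ≅ (N.sc' (-1) 0 1).homology :=
    HomologicalComplex.homologyIsoSc' N (-1) 0 1 (by simp) (by simp)
  exact ⟨e1 ≪≫ e2 ≪≫ e3 ≪≫ e4.symm⟩

end Groth.Agent.H42.HyperPush
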