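import Mathlib

/-!
# Noetherian dévissage over a local ring (package LD-N for helper71's local-duality squad)

`devissage_span` : version with `Ideal.span {x ^ k} • ⊤`.
`devissage` : version with the pointwise action `x ^ k • ⊤` (needs `open Pointwise` to state).
-/

set_option autoImplicit false
universe u

namespace Groth.Agent.LDN

open PrimeSpectrum in
/-- Core dévissage, with the quotient written `M ⧸ (Ideal.span {x ^ k} • ⊤)`. -/
theorem devissage_span (A : Type u) [CommRing A] [IsLocalRing A] [IsNoetherianRing A]
  (PM : ∀ (M : Type u) [AddCommGroup M] [Module A M], Prop)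
  (h_zero : ∀ (M : Type u) [AddCommGroup M] [Module A M] [Subsingleton M], PM M)
  (h_ext : ∀ (M₁ M₂ M₃ : Type u) [AddCommGroup M₁] [Module A M₁] [AddCommGroup M₂] [Module A M₂] [AddCommGroup M₃] [Module A M₃] (f : M₁ →ₗ[A] M₂) (g : M₂ →ₗ[A] M₃), Function.Injective f → Function.Surjective g → Function.Exact f g → PM M₁ → PM M₃ → PM M₂)
  (h_res : PM (A ⧸ IsLocalRing.maximalIdeal A))
  (h_reg : ∀ (M : Type u) [AddCommGroup M] [Module A M] [Module.Finite A M] (x : A), x ∈ IsLocalRing.maximalIdeal A → IsSMulRegular M x → (∀ k : ℕ, 0 < k → PM (M ⧸ (Ideal.span {x ^ k} • (⊤ : Submodule A M)))) → PM M) :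
  ∀ (M : Type u) [AddCommGroup M] [Module A M] [Module.Finite A M], PM M := by
  have h_iso : ∀ (M N : Type u) [AddCommGroup M] [Module A M] [AddCommGroup N] [Module A N],
      (M ≃ₗ[A] N) → PM M → PM N := by
    intro M N _ _ _ _ e hM
    exact h_ext M N PUnit.{u+1} e.toLinearMap 0 e.injective
      (Function.surjective_to_subsingleton _)
      ((e.exact_zero_iff_surjective _).2 e.surjective) hM (h_zero _)
  have key : ∀ J : Ideal A, ∀ (N : Type u) [AddCommGroup N] [Module A N] [Module.Finite A N],
      Module.support A N ⊆ zeroLocus (J : Set A) → PM N := by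
    intro J
    induction J using WellFoundedGT.induction with
    | ind J IH =>
    intro N _ _ hfin
    induction hfin using IsNoetherianRing.induction_on_isQuotientEquivQuotientPrime A with
    | subsingleton N => intro _; exact h_zero N
    | exact N₁ N₂ N₃ f g hf hg hfg h₁ h₃ =>
      intro hsupp
      exact h_ext N₁ N₂ N₃ f g hf hg hfg
        (h₁ ((Module.support_subset_of_injective f hf).trans hsupp))
        (h₃ ((Module.support_subset_of_surjective g hg).trans hsupp))
    | quotient N p e =>
      intro hsupp
      have hsuppN : Module.support A N = zeroLocus (p.asIdeal : Set A) := by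
        rw [e.support_eq, Module.support_eq_zeroLocus, Ideal.annihilator_quotient]
      have hJp : J ≤ p.asIdeal := by
        have hp : p ∈ Module.support A N := by
          rw [hsuppN]; exact (mem_zeroLocus _ _).2 le_rfl
        exact (mem_zeroLocus _ _).1 (hsupp hp)
      rcases hJp.lt_or_eq with hlt | heq
      · exact IH p.asIdeal hlt N hsuppN.le
      · by_cases hpm : p.asIdeal = IsLocalRing.maximalIdeal A
        · refine h_iso (A ⧸ IsLocalRing.maximalIdeal A) N ?_ h_res
          exact (Submodule.quotEquivOfEq _ _ hpm.symm).trans e.symm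
        · -- pick `x ∈ m \ p`
          have hle : p.asIdeal ≤ IsLocalRing.maximalIdeal A :=
            IsLocalRing.le_maximalIdeal p.2.ne_top
          obtain ⟨x, hxm, hxp⟩ : ∃ x ∈ IsLocalRing.maximalIdeal A, x ∉ p.asIdeal := by
            by_contra hcon
            push Not at hcon
            exact hpm (le_antisymm hle hcon)
          have hreg : IsSMulRegular N x := by
            intro n₁ n₂ h
            apply e.injective
            have h' : x • e n₁ = x • e n₂ := by
              rw [← map_smul, ← map_smul]; exact congrArg e h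
            have hx0 : (Ideal.Quotient.mk p.asIdeal x) ≠ 0 := by
              rwa [Ne, Ideal.Quotient.eq_zero_iff_mem]
            have h'' : Ideal.Quotient.mk p.asIdeal x * e n₁ = Ideal.Quotient.mk p.asIdeal x * e n₂ := by
              simpa [Algebra.smul_def] using h'
            exact mul_left_cancel₀ hx0 h''
          refine h_reg N x hxm hreg (fun k hk => ?_)
          have hxk : x ^ k ∉ p.asIdeal := fun h => hxp (p.2.mem_of_pow_mem k h)
          have hlt : J < p.asIdeal ⊔ Ideal.span {x ^ k} := by
            rw [heq]
            refine lt_of_le_of_ne le_sup_left (fun h => hxk ?_)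
            rw [h]
            exact Ideal.mem_sup_right (Ideal.subset_span rfl)
          refine IH _ hlt _ ?_
          rw [Module.support_quotient, hsuppN, ← zeroLocus_sup]
  intro M _ _ _
  exact key ⊥ M (by simp)

open Pointwise in
/-- Noetherian dévissage over a local ring; the statement requested by helper71 (package LD-N),
the quotient written with the pointwise action `x ^ k • ⊤` (`open Pointwise`). -/
theorem devissage (A : Type u) [CommRing A] [IsLocalRing A] [IsNoetherianRing A]
  (PM : ∀ (M : Type u) [AddCommGroup M] [Module A M], Prop)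
  (h_iso : ∀ (M N : Type u) [AddCommGroup M] [Module A M] [AddCommGroup N] [Module A N], (M ≃ₗ[A] N) → PM M → PM N)
  (h_zero : ∀ (M : Type u) [AddCommGroup M] [Module A M] [Subsingleton M], PM M)
  (h_ext : ∀ (M₁ M₂ M₃ : Type u) [AddCommGroup M₁] [Module A M₁] [AddCommGroup M₂] [Module A M₂] [AddCommGroup M₃] [Module A M₃] (f : M₁ →ₗ[A] M₂) (g : M₂ →ₗ[A] M₃), Function.Injective f → Function.Surjective g → Function.Exact f g → PM M₁ → PM M₃ → PM M₂)
  (h_res : PM (A ⧸ IsLocalRing.maximalIdeal A))
  (h_reg : ∀ (M : Type u) [AddCommGroup M] [Module A M] [Module.Finite A M] (x : A), x ∈ IsLocalRing.maximalIdeal A → IsSMulRegular M x → (∀ k : ℕ, 0 < k → PM (M ⧸ (x ^ k • (⊤ : Submodule A M)))) → PM M) :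
  ∀ (M : Type u) [AddCommGroup M] [Module A M] [Module.Finite A M], PM M := by
  refine devissage_span A PM h_zero h_ext h_res (fun M _ _ _ x hx hreg hk => ?_)
  refine h_reg M x hx hreg (fun k hk0 => ?_)
  have h := hk k hk0
  refine h_iso _ _ (Submodule.quotEquivOfEq _ _ ?_) h
  exact Submodule.ideal_span_singleton_smul (x ^ k) ⊤

end Groth.Agent.LDN
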