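import Mathlib
import Groth.Prelude.Def_Flat

/-!
# (SM) for helper48's S0442 squad: `Spec R[X_1..X_n] ⟶ Spec R` is smooth of relative dimension `n`
-/

set_option autoImplicit false
universe u
open AlgebraicGeometry CategoryTheory Limits

namespace Groth.Agent.H42.LSF

/-- The trivial submersive presentation of a polynomial ring (no relations). -/
noncomputable def mvPolyPres (V : Type u) [CommRing V] (d : ℕ) :
    Algebra.SubmersivePresentation V (MvPolynomial (Fin d) V) (Fin d) PEmpty.{1} where
  toGenerators := Algebra.Generators.mvPolynomial V (Fin d)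
  relation := PEmpty.elim
  span_range_relation_eq_ker := by
    simp only [Set.range_eq_empty, Ideal.span_empty]
    symm
    rw [Algebra.Generators.ker_eq_ker_aeval_val]
    have h1 : (MvPolynomial.aeval (Algebra.Generators.mvPolynomial V (Fin d)).val :
        MvPolynomial (Fin d) V →ₐ[V] MvPolynomial (Fin d) V) = AlgHom.id V _ := by
      rw [Algebra.Generators.mvPolynomial_val]
      exact MvPolynomial.aeval_X_left
    rw [h1]
    exact (RingHom.injective_iff_ker_eq_bot _).mp Function.injective_id
  map := PEmpty.elim
  map_inj := fun a => a.elim
  jacobian_isUnit := by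
    rw [Algebra.PreSubmersivePresentation.jacobian_eq_jacobiMatrix_det, Matrix.det_isEmpty, map_one]
    exact isUnit_one

theorem mvPoly_isStandardSmooth (V : Type u) [CommRing V] (d : ℕ) :
    Algebra.IsStandardSmoothOfRelativeDimension d V (MvPolynomial (Fin d) V) :=
  (mvPolyPres V d).isStandardSmoothOfRelativeDimension
    (by simp [Algebra.Presentation.dimension])

theorem smoothOfRelativeDimension_SpecMap_mvPolynomial (R : Type u) [CommRing R] (n : ℕ) :
    SmoothOfRelativeDimension n (Spec.map (CommRingCat.ofHom (algebraMap R (MvPolynomial (Fin n) R)))) := by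
  rw [HasRingHomProperty.Spec_iff (P := @SmoothOfRelativeDimension n)]
  apply RingHom.locally_of RingHom.isStandardSmoothOfRelativeDimension_respectsIso
  show RingHom.IsStandardSmoothOfRelativeDimension n (algebraMap R (MvPolynomial (Fin n) R))
  rw [RingHom.isStandardSmoothOfRelativeDimension_algebraMap]
  exact mvPoly_isStandardSmooth R n

end Groth.Agent.H42.LSF
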