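import Groth.Agent.S8525
import Groth.Agent.H4.StalkPull

/-!
# Inverse image of an `L`-torsion étale sheaf is `L`-torsion (helper42 library)
-/

set_option autoImplicit false
universe u

open CategoryTheory CategoryTheory.Limits AlgebraicGeometry Opposite

namespace Groth.Agent.H42.LTorsionPull

theorem isLTorsion_pull {X Y : Scheme.{u}} (f : X ⟶ Y) (L : Set ℕ) (F : EtCoh.Ab Y)
    (hF : EtAcyc.IsLTorsion L F) : EtAcyc.IsLTorsion L ((EtCoh.pull f).obj F) := by
  rw [Groth.Agent.S8525.result] at hF ⊢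
  intro Ω _ _ ξ t
  let e := (Groth.Agent.H4.stalkPullIso f ξ AddCommGrpCat.{u + 1}).app F
  obtain ⟨m, hm, hz⟩ := hF Ω (ξ ≫ f) (e.inv t)
  refine ⟨m, hm, ?_⟩
  have h1 : e.hom (e.inv t) = t := by
    have := e.inv_hom_id
    exact ConcreteCategory.congr_hom this t
  rw [← h1, ← map_nsmul, hz, map_zero]

end Groth.Agent.H42.LTorsionPull
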