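import Mathlib
import Groth.Prelude
import Groth.Agent.H8.LocFreeSections
import Groth.Agent.H8.LocFreeNearFinite

set_option autoImplicit false
universe u
open CategoryTheory CategoryTheory.Limits AlgebraicGeometry

namespace Groth.Agent.H42.NH

theorem S1 (R : CommRingCat.{u}) (M : (Spec R).Modules) (hM : FlatMod.IsFinLocFree M) :
    Projective ((moduleSpecΓFunctor (R := R)).obj M) := by
  haveI : M.IsQuasicoherent := Groth.Agent.H8.isQuasicoherent_of_isFinLocFree M hM
  have hproj : Module.Projective Γ(Spec R, ⊤) Γ(M, ⊤) :=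
    (Groth.Agent.H8.finitePresentation_projective_sections_of_isFinLocFree M hM
      (isAffineOpen_top _)).2
  haveI : Module.Projective R Γ(M, ⊤) := by
    let σ : Γ(Spec R, ⊤) →+* R := (Scheme.ΓSpecIso R).hom.hom
    let σ' : R →+* Γ(Spec R, ⊤) := (Scheme.ΓSpecIso R).inv.hom
    haveI : RingHomInvPair σ σ' := ⟨by ext x; simp [σ, σ'], by ext x; simp [σ, σ']⟩
    haveI : RingHomInvPair σ' σ := ⟨by ext x; simp [σ, σ'], by ext x; simp [σ, σ']⟩
    let e₂ : Γ(M, ⊤) ≃ₛₗ[σ] Γ(M, ⊤) :=
      { toFun := id
        invFun := id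
        map_add' := fun _ _ => rfl
        map_smul' := fun r x => by
          show r • x = (σ r) • x
          rw [Scheme.Modules.smul_Spec_def]
          congr 1
          have h1 : (Scheme.ΓSpecIso R).inv.hom ((Scheme.ΓSpecIso R).hom.hom r) = r := by simp
          rw [show σ r = (Scheme.ΓSpecIso R).hom.hom r from rfl, h1]
          have h2 : (⊤ : (Spec R).Opens).leTop.op = 𝟙 _ := rfl
          rw [h2]
          simp
        left_inv := fun _ => rfl
        right_inv := fun _ => rfl }
    exact Module.Projective.of_equiv e₂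
  have h3 : Module.Projective R ((moduleSpecΓFunctor (R := R)).obj M) := this
  exact ModuleCat.projective_of_categoryTheory_projective (R := R)
    ((moduleSpecΓFunctor (R := R)).obj M)

end Groth.Agent.H42.NH
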