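import Mathlib
import Groth.Prelude
import Groth.Agent.H39.OmegaA
import Groth.Agent.H28.LpullLoc
import Groth.Agent.H8.UnitIso

/-!
# (T1) for S14113: pushforward along an isomorphism preserves finite local freeness (helper42)
-/

set_option autoImplicit false
universe u
open CategoryTheory CategoryTheory.Limits AlgebraicGeometry

namespace Groth.Agent.H42.NH

theorem T1 {X Y : Scheme.{u}} (e : X ≅ Y) (M : X.Modules) (hM : FlatMod.IsFinLocFree M) :
    FlatMod.IsFinLocFree ((Scheme.Modules.pushforward e.hom).obj M) := by
  have h1 : FlatMod.IsFinLocFree ((Scheme.Modules.pullback e.inv).obj M) :=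
    Groth.Agent.H28.LpullLoc.isFinLocFree_pullback e.inv hM
  exact Groth.Agent.H8.isFinLocFree_of_iso
    ((Groth.Agent.H39.OmegaA.pullbackIsoPushforwardInv e.symm).app M) h1

end Groth.Agent.H42.NH
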