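import Mathlib
import Groth.Prelude.Def_CurvBase
import Groth.Agent.H14.NN.Defs

/-!
# `rho` and specialization (piece (F2) for helper14, S7889)
-/

set_option autoImplicit false

universe u

open CategoryTheory CategoryTheory.Limits AlgebraicGeometry

namespace Groth.Agent.H42.NN_F2

theorem rho_specializes {R : Type u} [CommRing R] {X : Scheme.{u}}
    (f : X ⟶ Spec (CommRingCat.of R)) {x x' : X} (h : x' ⤳ x) :
    Groth.Agent.H14.NN.rho f x' =
      (X.presheaf.stalkSpecializes h).hom.comp (Groth.Agent.H14.NN.rho f x) := by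
  have h1 := TopCat.Presheaf.germ_stalkSpecializes X.presheaf (U := ⊤) (y := x) trivial h
  have h2 : (X.presheaf.germ ⊤ x' trivial).hom =
      (X.presheaf.stalkSpecializes h).hom.comp (X.presheaf.germ ⊤ x trivial).hom :=
    (congrArg (fun g => g.hom) h1).symm
  ext r
  change (X.presheaf.germ ⊤ x' trivial).hom (Coh.toGlobal f r) =
    (X.presheaf.stalkSpecializes h).hom ((X.presheaf.germ ⊤ x trivial).hom (Coh.toGlobal f r))
  rw [h2]
  rfl

end Groth.Agent.H42.NN_F2
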