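import Groth.Agent.H42.TwistEquiv
import Groth.Agent.S12483
import Groth.Agent.S0485
import Groth.Agent.H82.ProjCoh
import Groth.Agent.H8.TensorPow
import Groth.Agent.H8.UnitIso

/-!
# Helper library (helper42): `Ext¹(O(b), O(a)) = 0` on `P^n_R` for `n ≥ 2`
-/

set_option autoImplicit false

universe u

open CategoryTheory CategoryTheory.Limits AlgebraicGeometry

namespace Groth.Agent.H42.PnExt

open Groth.Agent.H42.TwistEquiv

variable (n : ℕ) (R : Type u) [CommRing R]

theorem isInvertible_twist (d : ℤ) : PicF.IsInvertible (Twist.twistProjSpace n R d) :=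
  (Groth.Agent.H18.TwistTensor.twist_package (CohB1.polyGrading n R)
    (Groth.Agent.H8.TensorPow.hcov1_polyGrading n R)).1 d

/-- `O(a) ⊗ O(b) ≅ O(c)` for `a + b = c`. -/
theorem nonempty_twist_tensor (a b c : ℤ) (h : a + b = c) :
    Nonempty (CohB1.tensorMod (Twist.twistProjSpace n R a) (Twist.twistProjSpace n R b) ≅
      Twist.twistProjSpace n R c) := by
  subst h
  exact Groth.Agent.H8.TensorPow.nonempty_twistProjSpace_tensor n R a b

/-- `O(0) ≅ O`. -/
theorem nonempty_twist_zero :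
    Nonempty (Twist.twistProjSpace n R 0 ≅ Coh.structureModule (CohB1.ProjSpace n R)) :=
  Groth.Agent.H18.TwistTensor.nonempty_twist_zero_iso (CohB1.polyGrading n R)

/-- `O(a) ⊗ O(b) ≅ O` for `a + b = 0`. -/
theorem nonempty_twist_tensor_unit (a b : ℤ) (h : a + b = 0) :
    Nonempty (CohB1.tensorMod (Twist.twistProjSpace n R a) (Twist.twistProjSpace n R b) ≅
      Coh.structureModule (CohB1.ProjSpace n R)) := by
  obtain ⟨e⟩ := nonempty_twist_tensor n R a b 0 h
  obtain ⟨z⟩ := nonempty_twist_zero n R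
  exact ⟨e ≪≫ z⟩

/-- `Ext¹(O(b), O(a)) = 0` on `P^n_R`, `n ≥ 2`. -/
theorem subsingleton_ext_one (hn : 2 ≤ n) (a b : ℤ) [HasExt.{u} (CohB1.ProjSpace n R).Modules] :
    Subsingleton (Abelian.Ext (Twist.twistProjSpace n R b) (Twist.twistProjSpace n R a) 1) := by
  obtain ⟨e₁⟩ := nonempty_twist_tensor_unit n R (-b) b (by ring)
  obtain ⟨e₂⟩ := nonempty_twist_tensor_unit n R b (-b) (by ring)
  have : DCoh.HasSheafHom (Twist.twistProjSpace n R b) :=
    hasSheafHom_of_inverse _ _ e₁ e₂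
  have hA : FlatMod.IsFinLocFree (Twist.twistProjSpace n R b) :=
    Groth.Agent.H8.isFinLocFree_of_isInvertible (isInvertible_twist n R b)
  obtain ⟨c⟩ := Groth.Agent.S12483.result (CohB1.ProjSpace n R) (Twist.twistProjSpace n R b)
    (Twist.twistProjSpace n R a) hA 1
  obtain ⟨t⟩ := nonempty_twist_tensor n R (-b) a (-b + a) rfl
  let i : (DCoh.sheafHom (Twist.twistProjSpace n R b)).obj (Twist.twistProjSpace n R a) ≅
      Twist.twistProjSpace n R (-b + a) :=
    (sheafHomIsoTw _ _ e₁ e₂).app _ ≪≫ t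
  have h0 : Subsingleton (Coh.HH (CohB1.ProjSpace n R) (Twist.twistProjSpace n R (-b + a)) 1) :=
    Groth.Agent.H82.ProjCoh.subsingleton_HH n R (-b + a) 1 (fun h => by omega) (fun h => by omega)
  have h1 := Groth.Agent.H82.ProjCoh.subsingleton_HH_of_iso i.symm 1 h0
  exact c.toEquiv.subsingleton

/-- A short exact sequence `0 → O(a) → E → O(b) → 0` on `P^n_R`, `n ≥ 2`, splits. -/
theorem nonempty_splitting (hn : 2 ≤ n) (a b : ℤ)
    (S : ShortComplex (CohB1.ProjSpace n R).Modules) (hS : S.ShortExact)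
    (ha : Nonempty (S.X₁ ≅ Twist.twistProjSpace n R a))
    (hb : Nonempty (S.X₃ ≅ Twist.twistProjSpace n R b)) : Nonempty S.Splitting := by
  have hEI : EnoughInjectives (CohB1.ProjSpace n R).Modules :=
    Groth.Agent.S0485.result _ (CohB1.ProjSpace n R).ringCatSheaf
  have hExt : HasExt.{u} (CohB1.ProjSpace n R).Modules := hasExt_of_enoughInjectives _
  obtain ⟨e₁⟩ := ha
  obtain ⟨e₃⟩ := hb
  let S' : ShortComplex (CohB1.ProjSpace n R).Modules :=
    ShortComplex.mk (e₁.inv ≫ S.f) (S.g ≫ e₃.hom) (by simp)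
  let φ : S ≅ S' := ShortComplex.isoMk e₁ (Iso.refl _) e₃ (by simp [S']) (by simp [S'])
  have hS' : S'.ShortExact := ShortComplex.shortExact_of_iso φ hS
  have hsub : Subsingleton (Abelian.Ext S'.X₃ S'.X₁ 1) := subsingleton_ext_one n R hn a b
  obtain ⟨s⟩ := nonempty_splitting_of_ext_subsingleton S' hS' hsub
  exact ⟨s.ofIso φ.symm⟩

end Groth.Agent.H42.PnExt
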