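import Mathlib

/-!
# Affine pieces for point counting (lemma (SP) for helper74, S13070)
-/

set_option autoImplicit false

universe u

open CategoryTheory AlgebraicGeometry

namespace Groth.Agent.H42.PtCountSP

/-- Ring homs from a finite type `ℤ`-algebra into a finite ring form a finite set. -/
theorem finite_ringHom_of_finiteType (A : Type u) [CommRing A] [Algebra.FiniteType ℤ A]
    (F : Type u) [CommRing F] [Finite F] : Finite (A →+* F) := by
  classical
  obtain ⟨k, φ, hφ⟩ := Algebra.FiniteType.iff_quotient_mvPolynomial''.mp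
    (inferInstance : Algebra.FiniteType ℤ A)
  refine Finite.of_injective
    (fun (g : A →+* F) (j : Fin k) => g (φ (MvPolynomial.X j))) ?_
  intro g g' h
  have h1 : g.comp (φ : MvPolynomial (Fin k) ℤ →+* A) = g'.comp (φ : MvPolynomial (Fin k) ℤ →+* A) := by
    apply MvPolynomial.ringHom_ext
    · intro z
      simp
    · intro j
      exact congrFun h j
  ext a
  obtain ⟨p, rfl⟩ := hφ a
  exact RingHom.congr_fun h1 p

section

variable {X : Scheme.{u}}

/-- The ring hom attached to a point factoring through an affine open. -/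
noncomputable def pointHom (F : Type u) [Field F] (U : X.Opens)
    (x : Spec (CommRingCat.of F) ⟶ X) (hx : Set.range x.base ⊆ Set.range U.ι.base) :
    Γ((U : Scheme.{u}), ⊤) →+* F :=
  ((IsOpenImmersion.lift U.ι x hx).appTop ≫ (Scheme.ΓSpecIso (CommRingCat.of F)).hom).hom

theorem eq_of_pointHom_eq (F : Type u) [Field F] (U : X.Opens) (hU : IsAffineOpen U)
    (x y : Spec (CommRingCat.of F) ⟶ X) (hx : Set.range x.base ⊆ Set.range U.ι.base)
    (hy : Set.range y.base ⊆ Set.range U.ι.base)
    (h : pointHom F U x hx = pointHom F U y hy) : x = y := by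
  have : IsAffine (U : Scheme.{u}) := hU
  have h1 : (IsOpenImmersion.lift U.ι x hx).appTop ≫ (Scheme.ΓSpecIso (CommRingCat.of F)).hom =
      (IsOpenImmersion.lift U.ι y hy).appTop ≫ (Scheme.ΓSpecIso (CommRingCat.of F)).hom :=
    CommRingCat.hom_ext h
  have h2 : (IsOpenImmersion.lift U.ι x hx).appTop = (IsOpenImmersion.lift U.ι y hy).appTop :=
    (cancel_mono _).mp h1
  have h3 : IsOpenImmersion.lift U.ι x hx = IsOpenImmersion.lift U.ι y hy :=
    ext_of_isAffine h2
  rw [← IsOpenImmersion.lift_fac U.ι x hx, ← IsOpenImmersion.lift_fac U.ι y hy, h3]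

theorem eq_of_pointHom_heq (F : Type u) [Field F] (U V : X.Opens) (hUV : U = V)
    (hU : IsAffineOpen U)
    (x y : Spec (CommRingCat.of F) ⟶ X) (hx : Set.range x.base ⊆ Set.range U.ι.base)
    (hy : Set.range y.base ⊆ Set.range V.ι.base)
    (h : HEq (pointHom F U x hx) (pointHom F V y hy)) : x = y := by
  subst hUV
  exact eq_of_pointHom_eq F U hU x y hx hy (eq_of_heq h)

end

theorem exists_affine_pieces {X : Scheme.{u}}
    (f : X ⟶ Spec (CommRingCat.of (ULift.{u} ℤ))) [LocallyOfFiniteType f] [QuasiCompact f] (r : ℕ)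
    (hr : topologicalKrullDim X ≤ r) :
    ∃ (n : ℕ) (A : Fin n → CommRingCat.{u}), (∀ i, Algebra.FiniteType ℤ (A i)) ∧
      (∀ i, ringKrullDim (A i) ≤ r) ∧
      ∀ (F : Type u) [Field F] [Finite F],
        Nat.card (Spec (CommRingCat.of F) ⟶ X) ≤ ∑ i, Nat.card ((A i) →+* F) := by
  classical
  have : CompactSpace X := QuasiCompact.compactSpace_of_compactSpace f
  let 𝒰 : X.OpenCover := X.affineCover.finiteSubcover
  obtain ⟨n, ⟨e⟩⟩ := Finite.exists_equiv_fin 𝒰.I₀
  let U : Fin n → X.Opens := fun i => (𝒰.f (e.symm i)).opensRange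
  have hU : ∀ i, IsAffineOpen (U i) := fun i => isAffineOpen_opensRange (𝒰.f (e.symm i))
  have hcov : ∀ x : X, ∃ i, x ∈ U i := by
    intro x
    obtain ⟨j, y, rfl⟩ := 𝒰.exists_eq x
    refine ⟨e j, ?_⟩
    have hj := e.symm_apply_apply j
    simp only [U]
    rw [hj]
    exact ⟨y, rfl⟩
  have hAff : ∀ i, IsAffine (U i : Scheme.{u}) := fun i => hU i
  have hFT : ∀ i, Algebra.FiniteType ℤ Γ((U i : Scheme.{u}), ⊤) := by
    intro i
    have hlft : LocallyOfFiniteType ((U i).ι ≫ f) := inferInstance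
    have hft : ((U i).ι ≫ f).appTop.hom.FiniteType :=
      (HasRingHomProperty.iff_of_isAffine (P := @LocallyOfFiniteType)).mp hlft
    -- compose with ℤ ≃ ULift ℤ ≃ Γ(Spec, ⊤)
    let ge : ℤ ≃+* Γ(Spec (CommRingCat.of (ULift.{u} ℤ)), ⊤) :=
      (ULift.ringEquiv.symm : ℤ ≃+* ULift.{u} ℤ).trans
        ((Scheme.ΓSpecIso (CommRingCat.of (ULift.{u} ℤ))).symm.commRingCatIsoToRingEquiv)
    let g : ℤ →+* Γ(Spec (CommRingCat.of (ULift.{u} ℤ)), ⊤) := ge.toRingHom
    have hg : Function.Surjective g := ge.surjective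
    have hcomp : (((U i).ι ≫ f).appTop.hom.comp g).FiniteType :=
      hft.comp (RingHom.FiniteType.of_surjective g hg)
    have heq : ((U i).ι ≫ f).appTop.hom.comp g = algebraMap ℤ Γ((U i : Scheme.{u}), ⊤) :=
      Subsingleton.elim _ _
    rw [heq] at hcomp
    exact RingHom.finiteType_algebraMap.mp hcomp
  refine ⟨n, fun i => Γ((U i : Scheme.{u}), ⊤), hFT, ?_, ?_⟩
  · -- dimension
    intro i
    have h1 : ringKrullDim Γ((U i : Scheme.{u}), ⊤) = topologicalKrullDim (U i : Scheme.{u}) := by
      rw [← PrimeSpectrum.topologicalKrullDim_eq_ringKrullDim]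
      exact (IsHomeomorph.topologicalKrullDim_eq _
        ((U i : Scheme.{u}).isoSpec.hom.homeomorph.isHomeomorph)).symm
    rw [h1]
    have h2 : topologicalKrullDim (U i : Scheme.{u}) ≤ topologicalKrullDim X :=
      Topology.IsInducing.topologicalKrullDim_le (U i).ι.isOpenEmbedding.isInducing
    exact h2.trans hr
  · intro F _ _
    -- the unique point of Spec F
    let _ : Unique (Spec (CommRingCat.of F)) := inferInstanceAs (Unique (PrimeSpectrum F))
    have hrange : ∀ (x : Spec (CommRingCat.of F) ⟶ X) (i : Fin n),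
        x.base default ∈ U i → Set.range x.base ⊆ Set.range (U i).ι.base := by
      intro x i hi
      rintro _ ⟨s, rfl⟩
      rw [Unique.eq_default s]
      simpa using hi
    let ix : (Spec (CommRingCat.of F) ⟶ X) → Fin n := fun x => (hcov (x.base default)).choose
    have hix : ∀ x, x.base default ∈ U (ix x) := fun x => (hcov (x.base default)).choose_spec
    let Φ : (Spec (CommRingCat.of F) ⟶ X) → Σ i : Fin n, (Γ((U i : Scheme.{u}), ⊤) →+* F) :=
      fun x => ⟨ix x, pointHom F (U (ix x)) x (hrange x _ (hix x))⟩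
    have hΦ : Function.Injective Φ := by
      intro x y h
      have hi : ix x = ix y := congrArg Sigma.fst h
      have h2 : HEq (pointHom F (U (ix x)) x (hrange x _ (hix x)))
          (pointHom F (U (ix y)) y (hrange y _ (hix y))) := (Sigma.mk.inj_iff.mp h).2
      exact eq_of_pointHom_heq F (U (ix x)) (U (ix y)) (by rw [hi]) (hU _) x y _ _ h2
    have : ∀ i : Fin n, Finite (Γ((U i : Scheme.{u}), ⊤) →+* F) := fun i =>
      haveI := hFT i
      finite_ringHom_of_finiteType _ F
    calc Nat.card (Spec (CommRingCat.of F) ⟶ X)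
        ≤ Nat.card (Σ i : Fin n, (Γ((U i : Scheme.{u}), ⊤) →+* F)) :=
          Nat.card_le_card_of_injective Φ hΦ
      _ = ∑ i, Nat.card (Γ((U i : Scheme.{u}), ⊤) →+* F) := Nat.card_sigma

end Groth.Agent.H42.PtCountSP
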