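import Groth.Prelude.Def_CohPull

/-!
# helper42: naturality of `CohPull.pullAb` in the sheaf and compatibility with extension classes
-/

set_option autoImplicit false
universe u
open CategoryTheory AlgebraicGeometry TopologicalSpace Opposite

namespace Groth.Agent.H42.PullAbNat

variable {X Y : TopCat.{u}} (f : X ⟶ Y)

theorem pullAb_apply (M : CohTop.Ab Y) (p : ℕ) (x : Sheaf.H M p) :
    CohPull.pullAb f M p x =
      (Abelian.Ext.mk₀ (CohPull.oneTo f)).comp (Abelian.Ext.mapExactFunctor (CohPull.inv f) x)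
        (zero_add p) := rfl

theorem pullAb_naturality {M N : CohTop.Ab Y} (m : M ⟶ N) (p : ℕ) (x : Sheaf.H M p) :
    CohPull.pullAb f N p (Sheaf.H.map m p x) =
      Sheaf.H.map ((CohPull.inv f).map m) p (CohPull.pullAb f M p x) := by
  rw [pullAb_apply, pullAb_apply, Sheaf.H.map_apply, Sheaf.H.map_apply,
    Abelian.Ext.mapExactFunctor_comp, Abelian.Ext.mapExactFunctor_mk₀, Abelian.Ext.comp_assoc]
  all_goals omega

theorem pullAb_comp_extClass {S : ShortComplex (CohTop.Ab Y)} (hS : S.ShortExact) (p : ℕ)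
    (x : Sheaf.H S.X₃ p) :
    CohPull.pullAb f S.X₁ (p + 1) (x.comp hS.extClass rfl) =
      (CohPull.pullAb f S.X₃ p x).comp (hS.map_of_exact (CohPull.inv f)).extClass rfl := by
  rw [pullAb_apply, pullAb_apply, Abelian.Ext.mapExactFunctor_comp,
    Abelian.Ext.mapExactFunctor_extClass]
  exact (Abelian.Ext.comp_assoc (Abelian.Ext.mk₀ (CohPull.oneTo f))
    (Abelian.Ext.mapExactFunctor (CohPull.inv f) x)
    (hS.map_of_exact (CohPull.inv f)).extClass (zero_add p) rfl (by omega)).symm

end Groth.Agent.H42.PullAbNat
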