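import Groth.Agent.H28.LpullLoc

/-!
# Finite local freeness of fixed rank under pullback and restriction (helper42, for helper8)

* `isFinLocFreeOfRank_of_iso`, `isFinLocFreeOfRank_pullback`,
* `isFinLocFreeOfRank_pullback_restrict` : if `F|_O` is finite locally free of rank `k`, so is
  `(b^* F)|_{b⁻¹ O}`.
-/

set_option autoImplicit false
universe u
open CategoryTheory CategoryTheory.Limits AlgebraicGeometry TopologicalSpace Opposite

namespace Groth.Agent.H42.PullRestrictFLF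

theorem isFinLocFreeOfRank_of_iso {X : Scheme.{u}} {M N : X.Modules} (e : M ≅ N) (n : ℕ)
    (h : FlatMod.IsFinLocFreeOfRank n M) : FlatMod.IsFinLocFreeOfRank n N := by
  intro x
  obtain ⟨U, hxU, ⟨e'⟩⟩ := h x
  exact ⟨U, hxU, ⟨(Scheme.Modules.restrictFunctor U.ι).mapIso e.symm ≪≫ e'⟩⟩

theorem isFinLocFreeOfRank_pullback {X Y : Scheme.{u}} (f : X ⟶ Y) {M : Y.Modules} (n : ℕ)
    (hM : FlatMod.IsFinLocFreeOfRank n M) :
    FlatMod.IsFinLocFreeOfRank n ((Scheme.Modules.pullback f).obj M) := by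
  intro x
  obtain ⟨V, hxV, ⟨e⟩⟩ := hM (f.base x)
  refine ⟨f ⁻¹ᵁ V, hxV, ⟨?_⟩⟩
  exact (Groth.Agent.H28.LpullLoc.bcIso f V).app M ≪≫
    (Scheme.Modules.pullback (f ∣_ V)).mapIso e ≪≫
    Groth.Agent.H28.LpullLoc.pullbackFreeModIso (f ∣_ V) n

theorem isFinLocFreeOfRank_pullback_restrict {X Y : Scheme.{u}} (b : Y ⟶ X) (F : X.Modules)
    (O : X.Opens) (k : ℕ) (h : FlatMod.IsFinLocFreeOfRank k (F.restrict O.ι)) :
    FlatMod.IsFinLocFreeOfRank k
      (((Scheme.Modules.pullback b).obj F).restrict (b ⁻¹ᵁ O).ι) := by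
  have h1 : FlatMod.IsFinLocFreeOfRank k
      ((Scheme.Modules.pullback (b ∣_ O)).obj (F.restrict O.ι)) :=
    isFinLocFreeOfRank_pullback (b ∣_ O) k h
  exact isFinLocFreeOfRank_of_iso ((Groth.Agent.H28.LpullLoc.bcIso b O).app F).symm k h1

end Groth.Agent.H42.PullRestrictFLF
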