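import Groth.Agent.H5.SiteEq.Affine
import Groth.Agent.H5.SiteEq.UnitFree
import Groth.Agent.H5.RlimMod.ModExt
import Groth.Agent.H5.RlimMod.Cov
import Groth.Agent.H31.LpullAdj
import Groth.Agent.H31.GrothAb
import Groth.Agent.H33.HMapSite
import Groth.Agent.H45.AffineOpenVanishing

/-!
# S0997.aux for an arbitrary scheme `X` (helper42): copy of helper's proof of `Groth.Agent.S0997.aux`
with `Spec R` replaced by a variable scheme.
-/

set_option autoImplicit false
universe u
open CategoryTheory CategoryTheory.Limits AlgebraicGeometry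
attribute [local instance] HasDerivedCategory.standard

namespace Groth.Agent.H42.QH

open Groth.Agent.H31.Stalk ZeroObject in
theorem aux' (X : Scheme.{u}) [IsAffine X] (R : CommRingCat.{u})
    (F : ModuleCat.{u} R ⥤ ModSite.Mod (shX X)) [F.Additive]
    [PreservesFiniteLimits F] [PreservesFiniteColimits F]
    (G : ModSite.Mod (shX X) ⥤ ModuleCat.{u} R) (adj0 : F ⊣ G)
    (hF : F.FullyFaithful)
    (hess : ∀ M : ModSite.Mod (shX X),
      Coh.IsQCoh (X := X) M ↔ F.essImage M)
    (eT : F.obj (ModuleCat.of R R) ≅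
      SheafOfModules.unit (ModSite.ringSh (shX X))) :
    F.mapDerivedCategory.Full ∧ F.mapDerivedCategory.Faithful ∧
      ∀ K : DerivedCategory (ModSite.Mod (shX X)),
        (∀ i : ℤ, Coh.IsQCoh (X := X)
          ((DerivedCategory.homologyFunctor (ModSite.Mod (shX X)) i).obj K)) ↔
        ∃ M, Nonempty (F.mapDerivedCategory.obj M ≅ K) := by
  haveI : IsGrothendieckAbelian.{u} (ModSite.Mod (shX X)) :=
    Groth.Agent.H31.GrothAb.isGrothendieckAbelian _ (ModSite.ringSh (shX X))
  haveI : HasExt.{u + 1} (ModSite.Mod (shX X)) := hasExt_of_hasDerivedCategory _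
  haveI : HasExt.{u + 1} (ModuleCat.{u} R) := hasExt_of_hasDerivedCategory _
  let P : ObjectProperty (ModSite.Mod (shX X)) := fun M => Coh.IsQCoh (X := X) M
  haveI : P.IsClosedUnderIsomorphisms :=
    ⟨fun e h => (hess _).2 (F.essImage.prop_of_iso e ((hess _).1 h))⟩
  haveI : P.ContainsZero :=
    ⟨⟨F.obj (0 : ModuleCat.{u} R), F.map_isZero (isZero_zero _),
      (hess _).2 (F.obj_mem_essImage (0 : ModuleCat.{u} R))⟩⟩
  have hB : ∀ U : X.Opens, ∃ (ι : Type u) (Y : ι → X.Opens) (f : ∀ i, Y i ⟶ U),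
      Sieve.ofArrows Y f ∈ Opens.grothendieckTopology X U ∧ ∀ i, Y i ∈ X.affineOpens :=
    fun U => Groth.Agent.H33.HMapSite.basis_cover (X := X.carrier) X.affineOpens
      X.isBasis_affineOpens U
  have hvan : ∀ (W : X.Opens), IsAffineOpen W → ∀ M : ModSite.Mod (shX X), P M → ∀ k : ℕ, 0 < k →
      Subsingleton (Abelian.Ext.{u + 1} (ModSite.freeOn (shX X) W) M k) := by
    intro W hW M hM k hk
    obtain ⟨k', rfl⟩ : ∃ k' : ℕ, k = k' + 1 := ⟨k - 1, by omega⟩
    haveI : SheafOfModules.IsQuasicoherent (R := X.ringCatSheaf) M := hM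
    exact Groth.Agent.H5.RlimMod.subsingleton_ext_freeOn (shX X) W M (k' + 1)
      (Groth.Agent.H45.AffineVanishing.subsingleton_HU_of_isAffineOpen (X := X) M hW k')
  exact Groth.Agent.H5.SiteEq.affine_equivalence (Groth.Agent.H5.RlimMod.modSec (shX X)) R F G adj0
    hF P hess (⊤ : X.Opens)
    (eT ≪≫ Groth.Agent.H5.SiteEq.unitFreeOnIso (shX X) isTerminalTop)
    (fun M hM k hk => hvan ⊤ (isAffineOpen_top X) M hM k hk)
    X.affineOpens hB
    (fun V hV => ⟨0, fun T hT => by
      obtain ⟨ι, Y, f, hf, hcov, hY⟩ :=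
        Groth.Agent.H5.RlimMod.exists_family_in X.affineOpens hB V T hT
      exact ⟨ι, Y, f, hf, hcov, fun i M hM k hk => hvan (Y i) (hY i) M hM k hk⟩⟩)



end Groth.Agent.H42.QH
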