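import Groth.Agent.H42.RDPlus
import Groth.Agent.H42.RDBridge
import Groth.Agent.H42.Adapted
import Groth.Agent.S6620

/-!
# Helper library (helper42): the cohomological δ-functor `Tⁱ = Hⁱ(R⁺F(-[0]))`

* `T F i : A ⥤ B`, `X ↦ Hⁱ(R⁺F(X[0]))`; `exists_les`: long exact sequence for short exact
  sequences in `A`; `isZero_T_of_neg`.
* `τ F : F ⟶ T F 0`; `UA F X` (the unit `F(X)[0] ⟶ R⁺F(X[0])` is an isomorphism);
  `ua_iff : UA F X ↔ IsIso (τ_X) ∧ ∀ i > 0, Tⁱ X = 0`; `ua_of_injective`.
* `Acyc F` : objects with `Tⁱ = 0` for `i > 0`; `isAdapted_T : IsAdapted (T F 0) (Acyc F)`.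
* `isIso_unit_of_ua` (Leray): the unit `F(K) ⟶ R⁺F(K)` is an isomorphism for a bounded
  below complex `K` whose terms are unit-acyclic.
-/

set_option autoImplicit false
universe w w' v v' u u'

open CategoryTheory Limits Pretriangulated

namespace Groth.Agent.H42.RDT

variable {A : Type u} [Category.{v} A] [Abelian A] [HasDerivedCategory.{w} A] [EnoughInjectives A]
  {B : Type u'} [Category.{v'} B] [Abelian B] [HasDerivedCategory.{w'} B]
  (F : A ⥤ B) [F.Additive]

instance : F.rightDerivedFunctorPlus.Additive := by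
  let _ := RDPlus.commShift F
  have := RDPlus.isTriangulated F
  infer_instance

omit [HasDerivedCategory.{w} A] [EnoughInjectives A] in
/-- `X ↦ X[0]` as a functor to bounded below complexes. -/
noncomputable def sg : A ⥤ CochainComplex.Plus A :=
  ObjectProperty.lift _ (CochainComplex.singleFunctor A 0) (fun _ => ⟨0, inferInstance⟩)

instance : (sg (A := A)).Additive where
  map_add {X Y f g} := by
    apply (CochainComplex.plus A).ι.map_injective
    exact ((CochainComplex.singleFunctor A 0)).map_add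

instance : (HomotopyCategory.Plus.quotient A).Additive where
  map_add {X Y f g} := by
    apply (HomotopyCategory.plus A).ι.map_injective
    exact (CochainComplex.Plus.ι A ⋙ HomotopyCategory.quotient A (.up ℤ)).map_add

instance : (DerivedCategory.Plus.Q (C := A)).Additive := by
  dsimp only [DerivedCategory.Plus.Q]
  infer_instance

/-- `X ↦ Hⁱ(R⁺F(X[0]))`. -/
noncomputable def T (i : ℤ) : A ⥤ B :=
  sg ⋙ DerivedCategory.Plus.Q ⋙ F.rightDerivedFunctorPlus ⋙ DerivedCategory.Plus.ι ⋙
    DerivedCategory.homologyFunctor B i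

instance (i : ℤ) : (T F i).Additive := by
  dsimp only [T]
  infer_instance

/-- The long exact sequence of the `Tⁱ`. -/
theorem exists_les (S : ShortComplex A) (hS : S.ShortExact) (i j : ℤ) (h : i + 1 = j) :
    (ShortComplex.mk ((T F i).map S.f) ((T F i).map S.g)
      (by rw [← Functor.map_comp, S.zero, Functor.map_zero])).Exact ∧
    ∃ (δ : (T F i).obj S.X₃ ⟶ (T F j).obj S.X₁) (w₂ : (T F i).map S.g ≫ δ = 0)
      (w₃ : δ ≫ (T F j).map S.f = 0),
      (ShortComplex.mk _ _ w₂).Exact ∧ (ShortComplex.mk _ _ w₃).Exact := by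
  have hS' : (S.map (HomologicalComplex.single A (ComplexShape.up ℤ) 0)).ShortExact :=
    hS.map_of_exact _
  have w : (sg.map S.f).hom ≫ (sg.map S.g).hom = 0 :=
    (S.map (HomologicalComplex.single A (ComplexShape.up ℤ) 0)).zero
  obtain ⟨h₀, hΔ⟩ := RDPlus.exists_distTriang_of_shortExact (sg.map S.f) (sg.map S.g) w hS'
  obtain ⟨h₁, hΔ'⟩ := RDPlus.exists_distinguished F _ hΔ
  let Δ : Triangle (DerivedCategory.Plus B) :=
    Triangle.mk (F.rightDerivedFunctorPlus.map ((DerivedCategory.Plus.Q (C := A)).map (sg.map S.f)))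
      (F.rightDerivedFunctorPlus.map ((DerivedCategory.Plus.Q (C := A)).map (sg.map S.g))) h₁
  have hΔ'' : Δ ∈ distTriang (DerivedCategory.Plus B) := hΔ'
  let H := DerivedCategory.Plus.homologyFunctor B 0
  exact ⟨H.homologySequence_exact₂ Δ hΔ'' i, H.homologySequenceδ Δ i j h,
    H.comp_homologySequenceδ Δ hΔ'' i j h, H.homologySequenceδ_comp Δ hΔ'' i j h,
    H.homologySequence_exact₃ Δ hΔ'' i j h, H.homologySequence_exact₁ Δ hΔ'' i j h⟩

omit [EnoughInjectives A] in
lemma isGE_Q_sg (X : A) : (DerivedCategory.Plus.Q.obj (sg.obj X)).IsGE 0 := by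
  rw [← DerivedCategory.Plus.isGE_ι_obj_iff]
  have : (DerivedCategory.Q.obj ((CochainComplex.singleFunctor A 0).obj X)).IsGE 0 := inferInstance
  exact DerivedCategory.TStructure.t.isGE_of_iso
    ((DerivedCategory.quotientCompQhIso A).app ((CochainComplex.singleFunctor A 0).obj X)).symm 0

lemma isZero_T_of_neg (X : A) (i : ℤ) (hi : i < 0) : IsZero ((T F i).obj X) := by
  have := isGE_Q_sg X
  have := Groth.Agent.S6620.result F (DerivedCategory.Plus.Q.obj (sg.obj X)) 0
  exact DerivedCategory.Plus.isZero_homology_of_isGE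
    (F.rightDerivedFunctorPlus.obj (DerivedCategory.Plus.Q.obj (sg.obj X))) 0 i hi

/-- `X ↦ Hⁱ(F(X[0]))` computed in `D⁺(B)`. -/
noncomputable def P (i : ℤ) : A ⥤ B :=
  sg ⋙ HomotopyCategory.Plus.quotient A ⋙ F.mapHomotopyCategoryPlus ⋙ DerivedCategory.Plus.Qh ⋙
    DerivedCategory.Plus.ι ⋙ DerivedCategory.homologyFunctor B i

/-- The map `Hⁱ(F(X[0])) ⟶ Hⁱ(R⁺F(X[0]))` induced by the unit. -/
noncomputable def η (i : ℤ) : P F i ⟶ T F i where
  app X := (DerivedCategory.homologyFunctor B i).map (DerivedCategory.Plus.ι.map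
    (F.rightDerivedFunctorPlusUnit.app ((HomotopyCategory.Plus.quotient A).obj (sg.obj X))))
  naturality X Y f := by
    have := F.rightDerivedFunctorPlusUnit.naturality
      ((HomotopyCategory.Plus.quotient A).map (sg.map f))
    have h2 := congrArg (fun z => (DerivedCategory.homologyFunctor B i).map
      (DerivedCategory.Plus.ι.map z)) this
    simp only [Functor.map_comp] at h2
    exact h2

/-- The complex `F(X[0])`. -/
noncomputable abbrev M (X : A) : CochainComplex B ℤ :=
  (F.mapHomologicalComplex (ComplexShape.up ℤ)).obj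
    ((HomologicalComplex.single A (ComplexShape.up ℤ) 0).obj X)

omit [EnoughInjectives A] in
/-- `Hⁱ(F(X[0]))` computed in `D⁺(B)` is the homology of the complex `F(X[0])`. -/
noncomputable def pIso (i : ℤ) (X : A) : (P F i).obj X ≅ (M F X).homology i :=
  (DerivedCategory.homologyFunctor B i).mapIso
      ((DerivedCategory.quotientCompQhIso B).app (M F X)) ≪≫
    (DerivedCategory.homologyFunctorFactors B i).app (M F X)

omit [HasDerivedCategory.{w} A] [EnoughInjectives A] in
lemma isZero_P (i : ℤ) (hi : i ≠ 0) (X : A) : IsZero ((P F i).obj X) := by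
  have hz : IsZero ((M F X).X i) :=
    F.map_isZero (HomologicalComplex.isZero_single_obj_X (ComplexShape.up ℤ) 0 X i hi)
  have hL : IsZero ((M F X).homology i) :=
    ((M F X).exactAt_iff_isZero_homology i).1 (ShortComplex.exact_of_isZero_X₂ _ hz)
  exact IsZero.of_iso hL (pIso F i X)

omit [EnoughInjectives A] in
/-- Auxiliary isomorphism for `c`. -/
noncomputable def c' :
    (HomologicalComplex.single A (ComplexShape.up ℤ) 0 ⋙
        F.mapHomologicalComplex (ComplexShape.up ℤ)) ⋙
      ((HomotopyCategory.quotient B (ComplexShape.up ℤ) ⋙ DerivedCategory.Qh) ⋙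
        DerivedCategory.homologyFunctor B 0) ≅ F :=
  Functor.isoWhiskerLeft _ (Functor.isoWhiskerRight (DerivedCategory.quotientCompQhIso B) _ ≪≫
      DerivedCategory.homologyFunctorFactors B 0) ≪≫
    Functor.isoWhiskerRight
      (HomologicalComplex.singleMapHomologicalComplex F (ComplexShape.up ℤ) 0) _ ≪≫
    Functor.associator _ _ _ ≪≫
    Functor.isoWhiskerLeft F
      (HomologicalComplex.homologyFunctorSingleIso B (ComplexShape.up ℤ) 0) ≪≫ F.rightUnitor

omit [EnoughInjectives A] in
/-- `H⁰(F(X[0])) ≅ F(X)`, naturally. -/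
noncomputable def c : P F 0 ≅ F := c' F

/-- The canonical map `F ⟶ T⁰ = H⁰(R⁺F(-[0]))`. -/
noncomputable def τ : F ⟶ T F 0 := (c F).inv ≫ η F 0

/-- `X` is unit-acyclic: the unit `F(X)[0] ⟶ R⁺F(X[0])` is an isomorphism. -/
def UA (X : A) : Prop :=
  IsIso (F.rightDerivedFunctorPlusUnit.app ((HomotopyCategory.Plus.singleFunctor A 0).obj X))

theorem ua_iff (X : A) :
    UA F X ↔ (IsIso ((τ F).app X) ∧ ∀ i : ℤ, 0 < i → IsZero ((T F i).obj X)) := by
  constructor
  · intro h
    have h' : ∀ n, IsIso ((η F n).app X) := fun n => (DerivedCategory.Plus.isIso_iff _).1 h n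
    refine ⟨?_, fun i hi => IsZero.of_iso (isZero_P F i hi.ne' X) (asIso ((η F i).app X)).symm⟩
    have := h' 0
    change IsIso ((c F).inv.app X ≫ (η F 0).app X)
    infer_instance
  · rintro ⟨h0, hpos⟩
    refine (DerivedCategory.Plus.isIso_iff _).2 (fun n => ?_)
    change IsIso ((η F n).app X)
    rcases lt_trichotomy n 0 with hn | rfl | hn
    · exact ⟨⟨0, (isZero_P F n hn.ne X).eq_of_src _ _, (isZero_T_of_neg F X n hn).eq_of_src _ _⟩⟩
    · have : IsIso ((c F).inv.app X ≫ (η F 0).app X) := h0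
      exact IsIso.of_isIso_comp_left ((c F).inv.app X) _
    · exact ⟨⟨0, (isZero_P F n hn.ne' X).eq_of_src _ _, (hpos n hn).eq_of_src _ _⟩⟩

lemma ua_of_injective (X : A) [Injective X] : UA F X := by
  have : ∀ n, Injective (((HomotopyCategory.Plus.singleFunctor A 0).obj X).obj.as.X n) := by
    intro n
    change Injective (((HomologicalComplex.single A (ComplexShape.up ℤ) 0).obj X).X n)
    by_cases h : n = 0
    · subst h
      exact Injective.of_iso (HomologicalComplex.singleObjXSelf (ComplexShape.up ℤ) 0 X).symm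
        inferInstance
    · exact (HomologicalComplex.isZero_single_obj_X (ComplexShape.up ℤ) 0 X n h).injective
  unfold UA
  infer_instance

/-- The objects `X` such that `Tⁱ X = 0` for `i > 0`. -/
def Acyc : ObjectProperty A := fun X => ∀ i : ℤ, 0 < i → IsZero ((T F i).obj X)

lemma isAdapted_T : Adapted.IsAdapted (T F 0) (Acyc F) := by
  intro S hS h₁ h₂
  constructor
  · intro i hi
    obtain ⟨-, δ, w₂, w₃, e₂, -⟩ := exists_les F S hS i (i + 1) rfl
    exact e₂.isZero_of_both_zeros ((h₂ i hi).eq_of_src _ _) ((h₁ (i + 1) (by lia)).eq_of_tgt _ _)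
  · obtain ⟨e₁, δ, w₂, w₃, e₂, -⟩ := exists_les F S hS 0 1 rfl
    obtain ⟨-, δ', w₂', w₃', -, e₃'⟩ := exists_les F S hS (-1) 0 (by lia)
    have hm : Mono ((T F 0).map S.f) :=
      e₃'.mono_g ((isZero_T_of_neg F S.X₃ (-1) (by lia)).eq_of_src _ _)
    have he : Epi ((T F 0).map S.g) := e₂.epi_f ((h₁ 1 (by lia)).eq_of_tgt _ _)
    exact { exact := e₁, mono_f := hm, epi_g := he }

/-- Leray's acyclicity lemma, for unit-acyclic terms. -/
theorem isIso_unit_of_ua (K : CochainComplex.Plus A) (hK : ∀ n, UA F (K.obj.X n)) :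
    IsIso (F.rightDerivedFunctorPlusUnit.app ((HomotopyCategory.Plus.quotient A).obj K)) := by
  obtain ⟨b, hb⟩ := K.property
  have : K.obj.IsStrictlyGE b := hb
  obtain ⟨L, i, hi, hi', hL, hLb⟩ :=
    CochainComplex.Plus.modelCategoryQuillen.exists_mono_quasiIso_injective K.obj (b - 1) b
      (by lia)
  let Lp : CochainComplex.Plus A := ⟨L, ⟨b - 1, hLb⟩⟩
  let ip : K ⟶ Lp := ObjectProperty.homMk i
  have : ∀ n, Injective (Lp.obj.X n) := hL
  have : QuasiIso ip.hom := hi'
  rw [RDBridge.isIso_unit_iff_quasiIso F K Lp ip]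
  change QuasiIso ((F.mapHomologicalComplex (ComplexShape.up ℤ)).map i)
  have hKA : ∀ n, Acyc F (K.obj.X n) := fun n => ((ua_iff F _).1 (hK n)).2
  have hLA : ∀ n, Acyc F (L.X n) := fun n =>
    have := hL n
    ((ua_iff F _).1 (ua_of_injective F (L.X n))).2
  have hT : QuasiIso (((T F 0).mapHomologicalComplex (ComplexShape.up ℤ)).map i) :=
    Adapted.quasiIso_map_of_mono (T F 0) (Acyc F) (isAdapted_T F)
      (fun X hX i _ => (T F i).map_isZero hX) i (b - 1) hKA hLA
  let τ' := NatTrans.mapHomologicalComplex (τ F) (ComplexShape.up ℤ)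
  have hτK : IsIso (τ'.app K.obj) := by
    have : ∀ n, IsIso ((τ'.app K.obj).f n) := fun n => ((ua_iff F _).1 (hK n)).1
    exact HomologicalComplex.Hom.isIso_of_components _
  have hτL : IsIso (τ'.app L) := by
    have : ∀ n, IsIso ((τ'.app L).f n) := fun n =>
      have := hL n
      ((ua_iff F _).1 (ua_of_injective F (L.X n))).1
    exact HomologicalComplex.Hom.isIso_of_components _
  have nat := τ'.naturality i
  have h1 : QuasiIso (τ'.app K.obj ≫ ((T F 0).mapHomologicalComplex (ComplexShape.up ℤ)).map i) :=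
    inferInstance
  rw [← nat] at h1
  exact quasiIso_of_comp_right _ (τ'.app L)

end Groth.Agent.H42.RDT
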