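import Groth.Prelude.Def_CohCmp

/-!
# helper42: the restriction map `CohPull.resLE` on cohomology over opens, made explicit
-/

set_option autoImplicit false
universe u
open CategoryTheory AlgebraicGeometry AlgebraicGeometry.Scheme.Modules TopologicalSpace Opposite

namespace Groth.Agent.H42.ResLE

variable {X : Scheme.{u}}

theorem hle {U U' : X.Opens} (h : U' ≤ U) : U' ≤ (𝟙 X) ⁻¹ᵁ U := by rwa [Scheme.Hom.id_preimage]

/-- the inclusion `U' ⟶ U` as used by `CohPull.resLE`. -/
noncomputable abbrev gg {U U' : X.Opens} (h : U' ≤ U) : (U' : Scheme.{u}) ⟶ (U : Scheme.{u}) :=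
  Scheme.Hom.resLE (𝟙 X) U U' (hle h)

instance {U U' : X.Opens} (h : U' ≤ U) : IsOpenImmersion (gg h) := by
  unfold gg; delta Scheme.Hom.resLE; infer_instance

/-- The comparison `g^*(F|_U) ⟶ F|_{U'}` used in `CohPull.resLE`. -/
noncomputable def psi {U U' : X.Opens} (h : U' ≤ U) (F : X.Modules) :
    (Scheme.Modules.pullback (gg h)).obj (F.restrict U.ι) ⟶ F.restrict U'.ι :=
  (CohPull.pullOnIso (𝟙 X) U U' (hle h) F).hom ≫
    (Scheme.Modules.restrictFunctor U'.ι).map ((Scheme.Modules.pullbackId X).hom.app F)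

/-- Its adjunct `F|_U ⟶ g_*(F|_{U'})`. -/
noncomputable def psiFlat {U U' : X.Opens} (h : U' ≤ U) (F : X.Modules) :
    F.restrict U.ι ⟶ (Scheme.Modules.pushforward (gg h)).obj (F.restrict U'.ι) :=
  (Scheme.Modules.pullbackPushforwardAdjunction (gg h)).unit.app (F.restrict U.ι) ≫
    (Scheme.Modules.pushforward (gg h)).map (psi h F)

theorem image_le {U U' : X.Opens} (h : U' ≤ U) (W : (U : Scheme.{u}).Opens) :
    U'.ι ''ᵁ ((gg h) ⁻¹ᵁ W) ≤ U.ι ''ᵁ W := by
  have h1 : gg h ≫ U.ι = U'.ι := by
    rw [Scheme.Hom.resLE_comp_ι, Category.comp_id]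
  have h2 : U'.ι ''ᵁ ((gg h) ⁻¹ᵁ W) = U.ι ''ᵁ ((gg h) ''ᵁ ((gg h) ⁻¹ᵁ W)) := by
    rw [← Scheme.Hom.comp_image]
    congr 2
    exact h1.symm
  rw [h2]
  apply Scheme.Hom.image_mono
  exact Scheme.Hom.image_preimage_le _ _

section General

variable {Y Z : Scheme.{u}}

/-- unit vs `pullbackCongr`. -/
theorem unit_pullbackCongr {m m' : Y ⟶ Z} (e : m = m') (F : Z.Modules) :
    (pullbackPushforwardAdjunction m).unit.app F ≫
      (pushforward m).map ((pullbackCongr e).hom.app F) =
    (pullbackPushforwardAdjunction m').unit.app F ≫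
      (pushforwardCongr e).inv.app ((pullback m').obj F) := by
  subst e
  have h1 : (pullbackCongr (rfl : m = m)).hom.app F = 𝟙 _ := by
    simp [pullbackCongr]
  have h2 : (pushforwardCongr (rfl : m = m)).inv.app ((pullback m).obj F) = 𝟙 _ := by
    ext W
    simp
  rw [h1, h2, CategoryTheory.Functor.map_id]

end General

section General2

variable {Y Z T : Scheme.{u}}

/-- unit vs `pullbackComp`. -/
theorem unit_pullbackComp (f : Y ⟶ Z) (g : Z ⟶ T) (F : T.Modules) :
    (pullbackPushforwardAdjunction g).unit.app F ≫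
      (pushforward g).map ((pullbackPushforwardAdjunction f).unit.app ((pullback g).obj F)) ≫
        (pushforwardComp f g).hom.app ((pullback f).obj ((pullback g).obj F)) =
    (pullbackPushforwardAdjunction (f ≫ g)).unit.app F ≫
      (pushforward (f ≫ g)).map ((pullbackComp f g).inv.app F) := by
  have := unit_conjugateEquiv
    ((pullbackPushforwardAdjunction g).comp (pullbackPushforwardAdjunction f))
    (pullbackPushforwardAdjunction (f ≫ g)) (pullbackComp f g).inv F
  rw [conjugateEquiv_pullbackComp_inv] at this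
  rw [← this]
  simp only [Adjunction.comp_unit_app, Category.assoc]
  rfl

/-- unit vs `pullbackId`. -/
theorem unit_pullbackId (F : T.Modules) :
    (pullbackPushforwardAdjunction (𝟙 T)).unit.app F ≫
      (pushforward (𝟙 T)).map ((pullbackId T).hom.app F) = (pushforwardId T).inv.app F := by
  have := unit_conjugateEquiv Adjunction.id
    (pullbackPushforwardAdjunction (𝟙 T)) (pullbackId T).hom F
  rw [conjugateEquiv_pullbackId_hom] at this
  rw [← this]
  simp

/-- unit vs `restrictFunctorIsoPullback`. -/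
theorem unit_rFIP_inv (j : Y ⟶ T) [IsOpenImmersion j] (F : T.Modules) :
    (pullbackPushforwardAdjunction j).unit.app F ≫
      (pushforward j).map ((restrictFunctorIsoPullback j).inv.app F) =
    (restrictAdjunction j).unit.app F := by
  have := Adjunction.unit_leftAdjointUniq_hom_app (restrictAdjunction j)
    (pullbackPushforwardAdjunction j) F
  rw [← this, Category.assoc, ← Functor.map_comp]
  have h2 : ((restrictAdjunction j).leftAdjointUniq (pullbackPushforwardAdjunction j)).hom.app F ≫
      (restrictFunctorIsoPullback j).inv.app F = 𝟙 _ :=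
    (restrictFunctorIsoPullback j).hom_inv_id_app F
  rw [h2, CategoryTheory.Functor.map_id]
  exact Category.comp_id _

theorem unit_rFIP_hom (j : Y ⟶ T) [IsOpenImmersion j] (F : T.Modules) :
    (restrictAdjunction j).unit.app F ≫
      (pushforward j).map ((restrictFunctorIsoPullback j).hom.app F) =
    (pullbackPushforwardAdjunction j).unit.app F :=
  Adjunction.unit_leftAdjointUniq_hom_app (restrictAdjunction j)
    (pullbackPushforwardAdjunction j) F

end General2

theorem kk {U U' : X.Opens} (h : U' ≤ U) : gg h ≫ U.ι = U'.ι ≫ 𝟙 X :=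
  Scheme.Hom.resLE_comp_ι (𝟙 X) (hle h)

theorem psi_eq {U U' : X.Opens} (h : U' ≤ U) (F : X.Modules) :
    psi h F = (pullback (gg h)).map ((restrictFunctorIsoPullback U.ι).hom.app F) ≫
      (pullbackComp (gg h) U.ι).hom.app F ≫ (pullbackCongr (kk h)).hom.app F ≫
      (pullbackComp U'.ι (𝟙 X)).inv.app F ≫
      (restrictFunctorIsoPullback U'.ι).inv.app ((pullback (𝟙 X)).obj F) ≫
      (restrictFunctor U'.ι).map ((pullbackId X).hom.app F) := by
  simp only [psi, CohPull.pullOnIso, Iso.trans_hom, Functor.mapIso_hom, Iso.app_hom, Iso.symm_hom,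
    Iso.app_inv, Category.assoc]

theorem key1 {U U' : X.Opens} (h : U' ≤ U) (F : X.Modules) :
    (restrictAdjunction U.ι).unit.app F ≫ (pushforward U.ι).map (psiFlat h F) ≫
      (pushforwardComp (gg h) U.ι).hom.app (F.restrict U'.ι) =
    (pushforwardId X).inv.app F ≫ (pushforward (𝟙 X)).map ((restrictAdjunction U'.ι).unit.app F) ≫
      (pushforwardComp U'.ι (𝟙 X)).hom.app (F.restrict U'.ι) ≫
      (pushforwardCongr (kk h)).inv.app (F.restrict U'.ι) := by
  -- abbreviations
  let a := (restrictFunctorIsoPullback U.ι).hom.app F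
  let b := (pullbackComp (gg h) U.ι).hom.app F
  let c := (pullbackCongr (kk h)).hom.app F
  let d := (pullbackComp U'.ι (𝟙 X)).inv.app F
  let e := (restrictFunctorIsoPullback U'.ι).inv.app ((pullback (𝟙 X)).obj F)
  let ri := (restrictFunctor U'.ι).map ((pullbackId X).hom.app F)
  have hpsi : psi h F = (pullback (gg h)).map a ≫ b ≫ c ≫ d ≫ e ≫ ri := psi_eq h F
  -- Step 1: naturality of the unit of `g`
  have s1 : psiFlat h F = a ≫ (pullbackPushforwardAdjunction (gg h)).unit.app ((pullback U.ι).obj F) ≫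
      (pushforward (gg h)).map (b ≫ c ≫ d ≫ e ≫ ri) := by
    have nat : (pullbackPushforwardAdjunction (gg h)).unit.app (F.restrict U.ι) ≫
        (pushforward (gg h)).map ((pullback (gg h)).map a) =
        a ≫ (pullbackPushforwardAdjunction (gg h)).unit.app ((pullback U.ι).obj F) :=
      ((pullbackPushforwardAdjunction (gg h)).unit.naturality a).symm
    unfold psiFlat
    rw [hpsi, Functor.map_comp, ← Category.assoc, nat, Category.assoc]
  -- Step 2
  have s2 : (restrictAdjunction U.ι).unit.app F ≫ (pushforward U.ι).map (psiFlat h F) =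
      (pullbackPushforwardAdjunction U.ι).unit.app F ≫
        (pushforward U.ι).map ((pullbackPushforwardAdjunction (gg h)).unit.app ((pullback U.ι).obj F)) ≫
        (pushforward U.ι).map ((pushforward (gg h)).map (b ≫ c ≫ d ≫ e ≫ ri)) := by
    rw [s1, Functor.map_comp, Functor.map_comp, ← Category.assoc, unit_rFIP_hom]
  -- Step 3
  have nat3 : (pushforward U.ι).map ((pushforward (gg h)).map (b ≫ c ≫ d ≫ e ≫ ri)) ≫
      (pushforwardComp (gg h) U.ι).hom.app (F.restrict U'.ι) =
      (pushforwardComp (gg h) U.ι).hom.app ((pullback (gg h)).obj ((pullback U.ι).obj F)) ≫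
        (pushforward (gg h ≫ U.ι)).map (b ≫ c ≫ d ≫ e ≫ ri) :=
    (pushforwardComp (gg h) U.ι).hom.naturality (b ≫ c ≫ d ≫ e ≫ ri)
  have s3 : (restrictAdjunction U.ι).unit.app F ≫ (pushforward U.ι).map (psiFlat h F) ≫
      (pushforwardComp (gg h) U.ι).hom.app (F.restrict U'.ι) =
      (pullbackPushforwardAdjunction (gg h ≫ U.ι)).unit.app F ≫
        (pushforward (gg h ≫ U.ι)).map (c ≫ d ≫ e ≫ ri) := by
    rw [← Category.assoc, s2, Category.assoc, Category.assoc, nat3]
    have := unit_pullbackComp (gg h) U.ι F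
    rw [← Category.assoc, ← Category.assoc, Category.assoc _ _ ((pushforwardComp (gg h) U.ι).hom.app _),
      this, Category.assoc, ← Functor.map_comp]
    congr 2
    exact (pullbackComp (gg h) U.ι).inv_hom_id_app_assoc F _
  -- Step 4
  have nat4 : (pushforwardCongr (kk h)).inv.app ((pullback (U'.ι ≫ 𝟙 X)).obj F) ≫
      (pushforward (gg h ≫ U.ι)).map (d ≫ e ≫ ri) =
      (pushforward (U'.ι ≫ 𝟙 X)).map (d ≫ e ≫ ri) ≫
        (pushforwardCongr (kk h)).inv.app (F.restrict U'.ι) :=
    ((pushforwardCongr (kk h)).inv.naturality (d ≫ e ≫ ri)).symm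
  have s4 : (restrictAdjunction U.ι).unit.app F ≫ (pushforward U.ι).map (psiFlat h F) ≫
      (pushforwardComp (gg h) U.ι).hom.app (F.restrict U'.ι) =
      (pullbackPushforwardAdjunction (U'.ι ≫ 𝟙 X)).unit.app F ≫
        (pushforward (U'.ι ≫ 𝟙 X)).map (d ≫ e ≫ ri) ≫
        (pushforwardCongr (kk h)).inv.app (F.restrict U'.ι) := by
    rw [s3, Functor.map_comp, ← Category.assoc, unit_pullbackCongr (kk h) F, Category.assoc, nat4]
  -- Step 5
  have nat5 : (pushforwardComp U'.ι (𝟙 X)).hom.app ((pullback U'.ι).obj ((pullback (𝟙 X)).obj F)) ≫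
      (pushforward (U'.ι ≫ 𝟙 X)).map (e ≫ ri) =
      (pushforward (𝟙 X)).map ((pushforward U'.ι).map (e ≫ ri)) ≫
        (pushforwardComp U'.ι (𝟙 X)).hom.app (F.restrict U'.ι) :=
    ((pushforwardComp U'.ι (𝟙 X)).hom.naturality (e ≫ ri)).symm
  have h5a : (pullbackPushforwardAdjunction U'.ι).unit.app ((pullback (𝟙 X)).obj F) ≫
      (pushforward U'.ι).map (e ≫ ri) =
      (pullbackId X).hom.app F ≫ (restrictAdjunction U'.ι).unit.app F := by
    rw [Functor.map_comp, ← Category.assoc, unit_rFIP_inv]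
    exact ((restrictAdjunction U'.ι).unit.naturality ((pullbackId X).hom.app F)).symm
  have s5 : (pullbackPushforwardAdjunction (U'.ι ≫ 𝟙 X)).unit.app F ≫
        (pushforward (U'.ι ≫ 𝟙 X)).map (d ≫ e ≫ ri) =
      (pushforwardId X).inv.app F ≫ (pushforward (𝟙 X)).map ((restrictAdjunction U'.ι).unit.app F) ≫
        (pushforwardComp U'.ι (𝟙 X)).hom.app (F.restrict U'.ι) := by
    rw [Functor.map_comp, ← Category.assoc, ← unit_pullbackComp U'.ι (𝟙 X) F]
    simp only [Category.assoc]
    rw [nat5, ← Category.assoc ((pushforward (𝟙 X)).map _) ((pushforward (𝟙 X)).map _),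
      ← Functor.map_comp, h5a, Functor.map_comp, ← Category.assoc, ← Category.assoc,
      unit_pullbackId]
    simp only [Category.assoc]
  rw [s4, ← Category.assoc, s5]
  simp only [Category.assoc]



theorem psiFlat_eq {U U' : X.Opens} (h : U' ≤ U) (F : X.Modules) :
    psiFlat h F = (restrictFunctor U.ι).map
      (((pushforwardId X).inv.app F ≫ (pushforward (𝟙 X)).map ((restrictAdjunction U'.ι).unit.app F) ≫
      (pushforwardComp U'.ι (𝟙 X)).hom.app (F.restrict U'.ι) ≫
      (pushforwardCongr (kk h)).inv.app (F.restrict U'.ι)) ≫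
      (pushforwardComp (gg h) U.ι).inv.app (F.restrict U'.ι)) ≫
      (restrictAdjunction U.ι).counit.app ((pushforward (gg h)).obj (F.restrict U'.ι)) := by
  have h1 : (restrictAdjunction U.ι).unit.app F ≫ (pushforward U.ι).map (psiFlat h F) =
      ((pushforwardId X).inv.app F ≫ (pushforward (𝟙 X)).map ((restrictAdjunction U'.ι).unit.app F) ≫
      (pushforwardComp U'.ι (𝟙 X)).hom.app (F.restrict U'.ι) ≫
      (pushforwardCongr (kk h)).inv.app (F.restrict U'.ι)) ≫
      (pushforwardComp (gg h) U.ι).inv.app (F.restrict U'.ι) := by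
    rw [← key1 h F]
    simp only [Category.assoc]
    have : (pushforwardComp (gg h) U.ι).hom.app (F.restrict U'.ι) ≫
        (pushforwardComp (gg h) U.ι).inv.app (F.restrict U'.ι) = 𝟙 _ :=
      (pushforwardComp (gg h) U.ι).hom_inv_id_app _
    rw [this]
    congr 1
  rw [← h1]
  have h2 := (restrictAdjunction U.ι).homEquiv_counit
    (g := (restrictAdjunction U.ι).unit.app F ≫ (pushforward U.ι).map (psiFlat h F))
  rw [← h2]
  have h3 := (restrictAdjunction U.ι).homEquiv_unit (f := psiFlat h F)
  rw [← h3]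
  exact (Equiv.symm_apply_apply _ _).symm

section Sections

variable {Y T : Scheme.{u}} (j : Y ⟶ T) [IsOpenImmersion j]

theorem restrict_map_app {M N : T.Modules} (m : M ⟶ N) (W : Y.Opens) :
    ((restrictFunctor j).map m).app W = m.app (j ''ᵁ W) := rfl

theorem unit_app_app (F : T.Modules) (W' : T.Opens) :
    ((restrictAdjunction j).unit.app F).app W' =
      F.presheaf.map (homOfLE (Scheme.Hom.image_preimage_le j W')).op := rfl

theorem counit_app_app (N : Y.Modules) (W : Y.Opens) :
    ((restrictAdjunction j).counit.app N).app W =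
      N.presheaf.map (eqToHom (j.preimage_image_eq W).symm).op := rfl

theorem restrict_presheaf_map (F : T.Modules) {A B : Y.Opens} (f : A ⟶ B) :
    (F.restrict j).presheaf.map f.op = F.presheaf.map ((j.opensFunctor.map f).op) := rfl

theorem pushforward_presheaf_map (g : Y ⟶ T) (N : Y.Modules) {A B : T.Opens} (f : A ⟶ B) :
    ((pushforward g).obj N).presheaf.map f.op = N.presheaf.map ((Opens.map g.base).map f).op := rfl

theorem three_maps (F : T.Modules) {A B C D : T.Opens} (i1 : B ⟶ A) (i2 : C ⟶ B) (i3 : D ⟶ C)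
    (i4 : D ⟶ A) :
    (F.presheaf.map i1.op ≫ F.presheaf.map i2.op) ≫ F.presheaf.map i3.op = F.presheaf.map i4.op := by
  rw [← Functor.map_comp, ← Functor.map_comp]
  congr 1

end Sections

theorem final_sections {V V' T : Scheme.{u}} (j : V ⟶ T) (j' : V' ⟶ T) [IsOpenImmersion j]
    [IsOpenImmersion j'] (g : V' ⟶ V) (k : g ≫ j = j' ≫ 𝟙 T) (F : T.Modules) (W : V.Opens)
    (hW : j' ''ᵁ (g ⁻¹ᵁ W) ≤ j ''ᵁ W) :
    ((restrictFunctor j).map
      (((pushforwardId T).inv.app F ≫ (pushforward (𝟙 T)).map ((restrictAdjunction j').unit.app F) ≫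
      (pushforwardComp j' (𝟙 T)).hom.app (F.restrict j') ≫
      (pushforwardCongr k).inv.app (F.restrict j')) ≫
      (pushforwardComp g j).inv.app (F.restrict j')) ≫
      (restrictAdjunction j).counit.app ((pushforward g).obj (F.restrict j'))).app W =
    F.presheaf.map (homOfLE hW).op := by
  simp only [Hom.comp_app, restrict_map_app, pushforward_map_app, pushforwardId_inv_app_app,
    pushforwardComp_hom_app_app,
    pushforwardComp_inv_app_app, pushforwardCongr_inv_app_app, unit_app_app, counit_app_app]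
  erw [Category.id_comp, Category.id_comp, Category.comp_id]
  exact three_maps F _ (j'.opensFunctor.map (eqToHom
      (show (Opens.map g.base).obj (j ⁻¹ᵁ j ''ᵁ W) = j' ⁻¹ᵁ 𝟙 T ⁻¹ᵁ j ''ᵁ W from
        congrArg (fun m : V' ⟶ T => m ⁻¹ᵁ (j ''ᵁ W)) k)))
    (j'.opensFunctor.map ((Opens.map g.base).map
      (eqToHom (Eq.symm (Scheme.Hom.preimage_image_eq j W))))) _

theorem psiFlat_app {U U' : X.Opens} (h : U' ≤ U) (F : X.Modules) (W : (U : Scheme.{u}).Opens) :
    (psiFlat h F).app W = F.presheaf.map (homOfLE (image_le h W)).op := by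
  rw [psiFlat_eq]
  exact final_sections U.ι U'.ι (gg h) (kk h) F W (image_le h W)

end Groth.Agent.H42.ResLE
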