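import Groth.Agent.H42.ResLE

/-!
# helper42: consequences of the explicit form of `CohPull.resLE`
-/

set_option autoImplicit false
universe u
open CategoryTheory AlgebraicGeometry AlgebraicGeometry.Scheme.Modules TopologicalSpace Opposite

namespace Groth.Agent.H42.ResLE

variable {X : Scheme.{u}}

theorem H_map_three {C : Type u} [SmallCategory C] {J : GrothendieckTopology C}
    {A B D E : Sheaf J AddCommGrpCat.{u}} (a : A ⟶ B) (b : B ⟶ D) (c : D ⟶ E) (p : ℕ)
    (y : Sheaf.H A p) :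
    Sheaf.H.map c p (Sheaf.H.map b p (Sheaf.H.map a p y)) = Sheaf.H.map (a ≫ b ≫ c) p y := by
  rw [Sheaf.H.map_comp_apply, Sheaf.H.map_comp_apply]

/-- The morphism of abelian sheaves `g⁻¹((F|_U)^ab) ⟶ (F|_{U'})^ab` through which `resLE` factors. -/
noncomputable def tau {U U' : X.Opens} (h : U' ≤ U) (F : X.Modules) :
    (CohPull.inv (gg h).base).obj (Coh.toAb (F.restrict U.ι)) ⟶ Coh.toAb (F.restrict U'.ι) :=
  CohPull.theta (gg h) (F.restrict U.ι) ≫
    (SheafOfModules.toSheaf (U' : Scheme.{u}).ringCatSheaf).map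
      (CohPull.pullOnIso (𝟙 X) U U' (hle h) F).hom ≫
    (SheafOfModules.toSheaf (U' : Scheme.{u}).ringCatSheaf).map
      ((Scheme.Modules.restrictFunctor U'.ι).map ((Scheme.Modules.pullbackId X).hom.app F))

theorem tau_eq {U U' : X.Opens} (h : U' ≤ U) (F : X.Modules) :
    tau h F = CohPull.theta (gg h) (F.restrict U.ι) ≫
      (SheafOfModules.toSheaf (U' : Scheme.{u}).ringCatSheaf).map (psi h F) :=
  congrArg (CohPull.theta (gg h) (F.restrict U.ι) ≫ ·)
    ((SheafOfModules.toSheaf (U' : Scheme.{u}).ringCatSheaf).map_comp _ _).symm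

theorem resLE_eq {U U' : X.Opens} (h : U' ≤ U) (F : X.Modules) (p : ℕ) (x : Coh.HHon X F U p) :
    CohPull.resLE F h p x =
      Sheaf.H.map (tau h F) p (CohPull.pullAb (gg h).base (Coh.toAb (F.restrict U.ι)) p x) :=
  H_map_three _ _ _ p _

end Groth.Agent.H42.ResLE
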