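import Groth.Agent.H42.ResLE2

/-!
# helper42: naturality of the comparison `tau` behind `CohPull.resLE`
-/

set_option autoImplicit false
universe u
open CategoryTheory AlgebraicGeometry AlgebraicGeometry.Scheme.Modules TopologicalSpace Opposite

namespace Groth.Agent.H42.ResLE

variable {X : Scheme.{u}}

theorem tau_flat {U U' : X.Opens} (h : U' ≤ U) (F : X.Modules) :
    (CohPull.invPushAdj (gg h).base).homEquiv _ _ (tau h F) =
      (SheafOfModules.toSheaf (U : Scheme.{u}).ringCatSheaf).map (psiFlat h F) := by
  have e1 : (CohPull.invPushAdj (gg h).base).homEquiv _ _ (CohPull.theta (gg h) (F.restrict U.ι)) =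
      (SheafOfModules.toSheaf (U : Scheme.{u}).ringCatSheaf).map
        ((pullbackPushforwardAdjunction (gg h)).unit.app (F.restrict U.ι)) :=
    Equiv.apply_symm_apply _ _
  have e2 : (CohPull.invPushAdj (gg h).base).homEquiv _ _ (tau h F) =
      (CohPull.invPushAdj (gg h).base).homEquiv _ _ (CohPull.theta (gg h) (F.restrict U.ι)) ≫
        (CohTop.push (gg h).base).map
          ((SheafOfModules.toSheaf (U' : Scheme.{u}).ringCatSheaf).map (psi h F)) :=
    (congrArg _ (tau_eq h F)).trans (Adjunction.homEquiv_naturality_right _ _ _)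
  refine e2.trans ?_
  refine (congrArg (· ≫ (CohTop.push (gg h).base).map
          ((SheafOfModules.toSheaf (U' : Scheme.{u}).ringCatSheaf).map (psi h F))) e1).trans ?_
  exact ((SheafOfModules.toSheaf (U : Scheme.{u}).ringCatSheaf).map_comp
    ((pullbackPushforwardAdjunction (gg h)).unit.app (F.restrict U.ι))
    ((pushforward (gg h)).map (psi h F))).symm

theorem psiFlat_naturality {U U' : X.Opens} (h : U' ≤ U) {F G : X.Modules} (α : F ⟶ G) :
    (restrictFunctor U.ι).map α ≫ psiFlat h G =
      psiFlat h F ≫ (pushforward (gg h)).map ((restrictFunctor U'.ι).map α) := by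
  ext W : 1
  rw [Hom.comp_app, Hom.comp_app, psiFlat_app, psiFlat_app]
  exact (α.mapPresheaf.naturality (homOfLE (image_le h W)).op).symm

end Groth.Agent.H42.ResLE

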