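import Groth.Agent.H42.ResLE3

/-!
# helper42: naturality of `tau`, and `CohPull.resLE` vs `mapH`, `extδ`, `sectH0`
-/

set_option autoImplicit false
universe u
open CategoryTheory AlgebraicGeometry AlgebraicGeometry.Scheme.Modules TopologicalSpace Opposite

namespace Groth.Agent.H42.ResLE

variable {X : Scheme.{u}}

theorem tau_naturality {U U' : X.Opens} (h : U' ≤ U) {F G : X.Modules} (α : F ⟶ G) :
    (CohPull.inv (gg h).base).map
        ((SheafOfModules.toSheaf (U : Scheme.{u}).ringCatSheaf).map ((restrictFunctor U.ι).map α)) ≫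
      tau h G =
    tau h F ≫
      (SheafOfModules.toSheaf (U' : Scheme.{u}).ringCatSheaf).map ((restrictFunctor U'.ι).map α) := by
  apply ((CohPull.invPushAdj (gg h).base).homEquiv _ _).injective
  refine (Adjunction.homEquiv_naturality_left _ _ _).trans ?_
  refine Eq.trans ?_ (Adjunction.homEquiv_naturality_right _ _ _).symm
  rw [tau_flat, tau_flat]
  refine ((SheafOfModules.toSheaf (U : Scheme.{u}).ringCatSheaf).map_comp _ _).symm.trans ?_
  refine Eq.trans ?_ ((SheafOfModules.toSheaf (U : Scheme.{u}).ringCatSheaf).map_comp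
    (psiFlat h F) ((pushforward (gg h)).map ((restrictFunctor U'.ι).map α)))
  exact congrArg _ (psiFlat_naturality h α)

end Groth.Agent.H42.ResLE
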