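import Groth.Agent.H42.ResLE4
import Groth.Agent.H42.PullAbNat

/-!
# helper42: `CohPull.resLE` vs `mapH`, `extδ`
-/

set_option autoImplicit false
universe u
open CategoryTheory AlgebraicGeometry AlgebraicGeometry.Scheme.Modules TopologicalSpace Opposite

namespace Groth.Agent.H42.ResLE

variable {X : Scheme.{u}}

open Groth.Agent.H42.PullAbNat

/-- `resLE` commutes with the maps induced by a morphism of modules. -/
theorem resLE_mapH {U U' : X.Opens} (h : U' ≤ U) {F G : X.Modules} (α : F ⟶ G) (p : ℕ)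
    (x : Coh.HHon X F U p) :
    CohPull.resLE G h p (CohPull.mapH ((restrictFunctor U.ι).map α) p x) =
      CohPull.mapH ((restrictFunctor U'.ι).map α) p (CohPull.resLE F h p x) := by
  rw [resLE_eq, resLE_eq]
  have h1 := pullAb_naturality (gg h).base
    ((SheafOfModules.toSheaf (U : Scheme.{u}).ringCatSheaf).map ((restrictFunctor U.ι).map α)) p x
  refine (congrArg (Sheaf.H.map (tau h G) p) h1).trans ?_
  refine (Sheaf.H.map_comp_apply _ _ _).symm.trans ?_
  rw [tau_naturality]
  exact Sheaf.H.map_comp_apply _ _ _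

/-- The morphism of short complexes given by `tau`. -/
noncomputable def tauSC {U U' : X.Opens} (h : U' ≤ U) (S : ShortComplex X.Modules) :
    (S.map (CohCmp.toAbOn X U)).map (CohPull.inv (gg h).base) ⟶ S.map (CohCmp.toAbOn X U') where
  τ₁ := tau h S.X₁
  τ₂ := tau h S.X₂
  τ₃ := tau h S.X₃
  comm₁₂ := (tau_naturality h S.f).symm
  comm₂₃ := (tau_naturality h S.g).symm

/-- `resLE` commutes with the connecting homomorphisms. -/
theorem resLE_extδ {U U' : X.Opens} (h : U' ≤ U) (S : ShortComplex X.Modules)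
    (hU : (S.map (CohCmp.toAbOn X U)).ShortExact) (hU' : (S.map (CohCmp.toAbOn X U')).ShortExact)
    (p : ℕ) (x : Coh.HHon X S.X₃ U p) :
    CohPull.resLE S.X₁ h (p + 1) (CohCmp.extδ hU p x) =
      CohCmp.extδ hU' p (CohPull.resLE S.X₃ h p x) := by
  refine (resLE_eq h S.X₁ (p + 1) _).trans ?_
  refine Eq.trans ?_ (congrArg (CohCmp.extδ hU' p) (resLE_eq h S.X₃ p x)).symm
  have h1 : CohCmp.extδ hU p x = x.comp hU.extClass rfl := rfl
  have h2 := pullAb_comp_extClass (gg h).base hU p x
  refine (congrArg (Sheaf.H.map (tau h S.X₁) (p + 1)) h2).trans ?_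
  have h3 := ShortComplex.ShortExact.extClass_naturality
    (hU.map_of_exact (CohPull.inv (gg h).base)) hU' (tauSC h S)
  refine (Sheaf.H.map_apply _ _).trans ?_
  refine (Abelian.Ext.comp_assoc (CohPull.pullAb (gg h).base _ p x)
    (hU.map_of_exact (CohPull.inv (gg h).base)).extClass (Abelian.Ext.mk₀ (tau h S.X₁))
    rfl (add_zero 1) (by omega)).trans ?_
  refine (congrArg (fun e => (CohPull.pullAb (gg h).base _ p x).comp e (by omega)) h3).trans ?_
  exact (Abelian.Ext.comp_assoc (CohPull.pullAb (gg h).base _ p x)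
    (Abelian.Ext.mk₀ (tau h S.X₃)) hU'.extClass (add_zero p) (zero_add 1) (by omega)).symm

end Groth.Agent.H42.ResLE

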