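import Groth.Agent.H42.ResLE5

/-!
# helper42: `CohPull.resLE` in degree zero
-/

set_option autoImplicit false
universe u
open CategoryTheory AlgebraicGeometry AlgebraicGeometry.Scheme.Modules TopologicalSpace Opposite Limits

namespace Groth.Agent.H42.ResLE

/-- Degree zero: `H⁰(τ) ∘ pullAb` is the adjunct of `τ` on global sections. -/
theorem equiv₀_map_pullAb {X Y : TopCat.{u}} (f : X ⟶ Y) (M : CohTop.Ab Y) (N : CohTop.Ab X)
    (τ : (CohPull.inv f).obj M ⟶ N) (φ : M ⟶ (CohTop.push f).obj N)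
    (hφ : (CohPull.invPushAdj f).homEquiv _ _ τ = φ) (s : Sheaf.H M 0) :
    Sheaf.H.equiv₀ N isTerminalTop (Sheaf.H.map τ 0 (CohPull.pullAb f M 0 s)) =
      φ.hom.app (op ⊤) (Sheaf.H.equiv₀ M isTerminalTop s) := by
  rw [← Sheaf.H.equiv₀_naturality, CohPull.equiv₀_pullAb]
  have h2 : (CohPull.invPushAdj f).homEquiv _ _ τ =
      (CohPull.invPushAdj f).unit.app M ≫ (CohTop.push f).map τ := Adjunction.homEquiv_unit _ _ _ _
  have hθ := h2.symm.trans hφ
  have := congr_arg (fun t => (t.hom.app (op ⊤)) (Sheaf.H.equiv₀ M isTerminalTop s)) hθ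
  simp only [ObjectProperty.FullSubcategory.comp_hom, NatTrans.comp_app,
    ConcreteCategory.comp_apply] at this
  exact this

variable {X : Scheme.{u}}

theorem presheaf_map_map (F : X.Modules) {A B C : X.Opens} (a : A ⟶ B) (b : B ⟶ C)
    (c : A ⟶ C) (s : F.presheaf.obj (op C)) :
    F.presheaf.map a.op (F.presheaf.map b.op s) = F.presheaf.map c.op s := by
  have h1 : c = a ≫ b := Subsingleton.elim _ _
  rw [h1, op_comp, CategoryTheory.Functor.map_comp]
  rfl

theorem resLE_sectH0 {U U' : X.Opens} (h : U' ≤ U) (F : X.Modules) (s : F.presheaf.obj (op U)) :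
    CohPull.resLE F h 0 (CohPull.sectH0 F U s) =
      CohPull.sectH0 F U' (F.presheaf.map (homOfLE h).op s) := by
  apply (Sheaf.H.equiv₀ (Coh.toAb (F.restrict U'.ι)) isTerminalTop).injective
  refine (congrArg _ (resLE_eq h F 0 _)).trans ?_
  refine (equiv₀_map_pullAb (gg h).base _ _ (tau h F) _ (tau_flat h F) _).trans ?_
  have e1 : Sheaf.H.equiv₀ (Coh.toAb (F.restrict U.ι)) isTerminalTop (CohPull.sectH0 F U s) =
      F.presheaf.map (eqToHom U.ι_image_top).op s := AddEquiv.apply_symm_apply _ _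
  have e2 : Sheaf.H.equiv₀ (Coh.toAb (F.restrict U'.ι)) isTerminalTop
      (CohPull.sectH0 F U' (F.presheaf.map (homOfLE h).op s)) =
      F.presheaf.map (eqToHom U'.ι_image_top).op (F.presheaf.map (homOfLE h).op s) :=
    AddEquiv.apply_symm_apply _ _
  refine Eq.trans ?_ e2.symm
  refine (congrArg _ e1).trans ?_
  have e3 : ((SheafOfModules.toSheaf (U : Scheme.{u}).ringCatSheaf).map (psiFlat h F)).hom.app
      (op ⊤) = (psiFlat h F).app ⊤ := rfl
  rw [e3, psiFlat_app]
  refine (presheaf_map_map F _ _ (homOfLE (image_le h ⊤) ≫ eqToHom U.ι_image_top) s).trans ?_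
  exact (presheaf_map_map F _ _ _ s).symm

end Groth.Agent.H42.ResLE
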