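import Groth.Agent.H42.CmpLib
import Groth.Agent.H42.CohTopLocal
import Groth.Agent.H30.ExtZeroSch
import Groth.Agent.H30.ModCech3
import Groth.Agent.S0864
import Groth.Agent.H45.AffineVanishing

/-!
# helper42: effaceability of `H^{p+1}(U, -)` on `O_X`-modules, dimension shifting, and local
exactness on sections
-/

set_option autoImplicit false
universe u
open CategoryTheory AlgebraicGeometry AlgebraicGeometry.Scheme.Modules TopologicalSpace Opposite Limits

namespace Groth.Agent.H42.Efface

variable {X : Scheme.{u}}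

/-- Higher cohomology over an open of an injective `O_X`-module vanishes. -/
theorem subsingleton_HHon_injective (I : X.Modules) [Injective I] (U : X.Opens) (p : ℕ) :
    Subsingleton (Coh.HHon X I U (p + 1)) := by
  have hinj : Injective ((restrictFunctor U.ι).obj I) :=
    Groth.Agent.H30.ExtZeroSch.injective_restrict (V := U) I
  have h1 : CohCx.IsTotallyAcyclic (Coh.toAb (I.restrict U.ι)) :=
    @Groth.Agent.H30.ModCech.isTotallyAcyclic_of_injective _ _ _ (U : Scheme.{u}).ringCatSheaf
      ((restrictFunctor U.ι).obj I) hinj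
  have := Groth.Agent.S0864.result _ h1 (⊤ : (U : Scheme.{u}).Opens) p
  exact (Groth.Agent.H45.AffineVanishing.HTerminalAddEquiv
    (Opens.grothendieckTopology (U : Scheme.{u}))
    (isTerminalTop : IsTerminal (⊤ : (U : Scheme.{u}).Opens))
    (Coh.toAb (I.restrict U.ι)) (p + 1)).symm.subsingleton

variable [HasInjectiveResolutions X.Modules]

/-- The short exact sequence `0 → F → I → Q → 0` with `I` injective used for dimension shifting. -/
noncomputable def shiftSC (F : X.Modules) : ShortComplex X.Modules :=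
  ShortComplex.mk ((injectiveResolution F).ι.f 0) (cokernel.π ((injectiveResolution F).ι.f 0))
    (cokernel.condition _)

theorem shiftSC_shortExact (F : X.Modules) : (shiftSC F).ShortExact :=
  { exact := ShortComplex.exact_cokernel _
    mono_f := (inferInstance : Mono ((injectiveResolution F).ι.f 0))
    epi_g := inferInstanceAs (Epi (cokernel.π ((injectiveResolution F).ι.f 0))) }

instance injective_shiftSC_X₂ (F : X.Modules) : Injective (shiftSC F).X₂ :=
  (injectiveResolution F).injective 0

theorem shiftSC_toAbOn (F : X.Modules) (U : X.Opens) :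
    ((shiftSC F).map (CohCmp.toAbOn X U)).ShortExact :=
  Groth.Agent.H42.CmpLib.shortExact_map_toAbOn X U (shiftSC_shortExact F)

/-- Dimension shifting: every class of degree `p + 1` is a connecting-homomorphism image. -/
theorem exists_extδ_eq (F : X.Modules) (U : X.Opens) (p : ℕ)
    (x : Coh.HHon X (shiftSC F).X₁ U (p + 1)) :
    ∃ x' : Coh.HHon X (shiftSC F).X₃ U p, CohCmp.extδ (shiftSC_toAbOn F U) p x' = x := by
  haveI := subsingleton_HHon_injective (shiftSC F).X₂ U p
  have h0 : x.comp (Abelian.Ext.mk₀ ((shiftSC F).map (CohCmp.toAbOn X U)).f) (add_zero (p + 1)) = 0 :=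
    Subsingleton.elim (α := Coh.HHon X (shiftSC F).X₂ U (p + 1)) _ _
  obtain ⟨x₃, hx₃⟩ := Abelian.Ext.covariant_sequence_exact₁ _ (shiftSC_toAbOn F U) x h0 rfl
  exact ⟨x₃, hx₃⟩

end Groth.Agent.H42.Efface

namespace Groth.Agent.H42.Efface

open Groth.Agent.H42.CohTopLib

/-- An exact sequence of abelian sheaves on a space is locally exact on sections. -/
theorem exists_local_lift_sheaf {Z : TopCat.{u}} (S : ShortComplex (CohTop.Ab Z)) (hS : S.Exact)
    (V : Opens Z) (t : S.X₂.obj.obj (op V)) (ht : S.g.hom.app (op V) t = 0) (y : Z) (hy : y ∈ V) :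
    ∃ (W : Opens Z) (hWV : W ≤ V), y ∈ W ∧ ∃ s : S.X₁.obj.obj (op W),
      S.f.hom.app (op W) s = S.X₂.obj.map (homOfLE hWV).op t := by
  let s' : (Zf Z).obj V ⟶ S.X₂ := (E V S.X₂).symm t
  have hs' : s' ≫ S.g = 0 := by
    apply (E V S.X₃).injective
    rw [E_comp, Equiv.apply_symm_apply]
    have h0 : E V S.X₃ 0 = 0 := by
      have := E_comp V s' (0 : S.X₂ ⟶ S.X₃)
      rw [comp_zero] at this
      exact this
    rw [h0]
    exact ht
  obtain ⟨W, hWV, hyW, g, hg⟩ := exists_local_lift hS s' hs' y hy
  refine ⟨W, hWV, hyW, E W S.X₁ g, ?_⟩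
  have h1 := congrArg (E W S.X₂) hg
  rw [E_comp, E_map, Equiv.apply_symm_apply] at h1
  exact h1

variable {Y : Scheme.{u}}

/-- An exact sequence of `O_Y`-modules is locally exact on sections. -/
theorem exists_local_lift_of_exact (T : ShortComplex Y.Modules) (hT : T.Exact)
    (V : Y.Opens) (t : T.X₂.presheaf.obj (op V)) (ht : T.g.app V t = 0) (y : Y) (hy : y ∈ V) :
    ∃ (W : Y.Opens) (hWV : W ≤ V), y ∈ W ∧ ∃ s : T.X₁.presheaf.obj (op W),
      T.f.app W s = T.X₂.presheaf.map (homOfLE hWV).op t := by
  let G : Y.Modules ⥤ CohTop.Ab Y := SheafOfModules.toSheaf.{u} Y.ringCatSheaf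
  haveI : G.Additive := inferInstanceAs ((SheafOfModules.toSheaf.{u} Y.ringCatSheaf).Additive)
  haveI : PreservesFiniteLimits G := Groth.Agent.H42.CmpLib.preservesFiniteLimits_toSheaf Y
  haveI : PreservesFiniteColimits G :=
    Groth.Agent.H45.toSheaf_preservesFiniteColimits Y.ringCatSheaf
  exact exists_local_lift_sheaf (T.map G) (hT.map G) V t ht y hy

end Groth.Agent.H42.Efface
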