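import Groth.Agent.H42.ResLE6
import Groth.Agent.H42.ResLE7

/-!
# helper42: transitivity of `CohPull.resLE` and vanishing of `δ ∘ g_*`
-/

set_option autoImplicit false
universe u
open CategoryTheory AlgebraicGeometry AlgebraicGeometry.Scheme.Modules TopologicalSpace Opposite Limits

namespace Groth.Agent.H42.ResLE

open Groth.Agent.H42.Efface

variable {X : Scheme.{u}}

theorem comp_g_extClass_zero {C : Type (u + 1)} [Category.{u} C] [Abelian C] [HasExt.{u} C]
    {S : ShortComplex C} (hS : S.ShortExact) {A : C} {p : ℕ} (z : Abelian.Ext A S.X₂ p) :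
    (z.comp (Abelian.Ext.mk₀ S.g) (add_zero p)).comp hS.extClass rfl = 0 := by
  rw [Abelian.Ext.comp_assoc z (Abelian.Ext.mk₀ S.g) hS.extClass (add_zero p) (zero_add 1)
    (by omega), hS.comp_extClass, Abelian.Ext.comp_zero]

/-- `δ ∘ g_* = 0` in the long exact sequence of `Ext`. -/
theorem extδ_mapH {U : X.Opens} (S : ShortComplex X.Modules)
    (hU : (S.map (CohCmp.toAbOn X U)).ShortExact) (p : ℕ) (z : Coh.HHon X S.X₂ U p) :
    CohCmp.extδ hU p (CohPull.mapH ((restrictFunctor U.ι).map S.g) p z) = 0 := by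
  have h1 : CohCmp.extδ hU p (CohPull.mapH ((restrictFunctor U.ι).map S.g) p z) =
      (z.comp (Abelian.Ext.mk₀ (S.map (CohCmp.toAbOn X U)).g) (add_zero p)).comp hU.extClass rfl :=
    rfl
  exact h1.trans (comp_g_extClass_zero hU z)

variable [HasInjectiveResolutions X.Modules]

/-- Transitivity of restriction of cohomology classes. -/
theorem resLE_trans (p : ℕ) : ∀ (F : X.Modules) {U U' U'' : X.Opens} (h : U' ≤ U) (h' : U'' ≤ U')
    (x : Coh.HHon X F U p),
    CohPull.resLE F h' p (CohPull.resLE F h p x) = CohPull.resLE F (h'.trans h) p x := by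
  induction p with
  | zero =>
    intro F U U' U'' h h' x
    obtain ⟨s, rfl⟩ := (CohPull.sectH0 F U).surjective x
    refine (congrArg (CohPull.resLE F h' 0) (resLE_sectH0 h F s)).trans ?_
    refine (resLE_sectH0 h' F _).trans ?_
    refine Eq.trans ?_ (resLE_sectH0 (h'.trans h) F s).symm
    exact congrArg (CohPull.sectH0 F U'') (presheaf_map_map F _ _ _ s)
  | succ p ih =>
    intro F U U' U'' h h' x
    obtain ⟨x', rfl⟩ := exists_extδ_eq F U p x
    refine (congrArg (CohPull.resLE F h' (p + 1)) (resLE_extδ h (shiftSC F) (shiftSC_toAbOn F U)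
      (shiftSC_toAbOn F U') p x')).trans ?_
    refine (resLE_extδ h' (shiftSC F) (shiftSC_toAbOn F U') (shiftSC_toAbOn F U'') p _).trans ?_
    refine (congrArg (CohCmp.extδ (shiftSC_toAbOn F U'') p) (ih (shiftSC F).X₃ h h' x')).trans ?_
    exact (resLE_extδ (h'.trans h) (shiftSC F) (shiftSC_toAbOn F U) (shiftSC_toAbOn F U'') p
      x').symm

end Groth.Agent.H42.ResLE
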