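import Groth.Agent.H42.ResLE8

/-!
# helper42: the comparison maps `ε` of a `CohCmp.SectCmp` commute with restriction
-/

set_option autoImplicit false
universe u
open CategoryTheory AlgebraicGeometry AlgebraicGeometry.Scheme.Modules TopologicalSpace Opposite Limits

namespace Groth.Agent.H42.ResLE

open Groth.Agent.H42.Efface

theorem map_app_naturality' {Y : Scheme.{u}} {M N : Y.Modules} (φ : M ⟶ N) {W W' : Y.Opens}
    (h : W' ≤ W) (s : M.presheaf.obj (op W)) :
    φ.app W' (M.presheaf.map (homOfLE h).op s) = N.presheaf.map (homOfLE h).op (φ.app W s) := by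
  have := φ.mapPresheaf.naturality (homOfLE h).op
  exact ConcreteCategory.congr_hom this s

variable {X Y : Scheme.{u}} (f : X ⟶ Y) [HasInjectiveResolutions X.Modules]
  {Δ : RDer.DerivedLES (pushforward f)} (E : CohCmp.SectCmp f Δ)

theorem presheaf_map_trans {Y : Scheme.{u}} (N : Y.Modules) {V W W' : Y.Opens} (h : W ≤ V)
    (h' : W' ≤ W) (t : N.presheaf.obj (op V)) :
    N.presheaf.map (homOfLE h').op (N.presheaf.map (homOfLE h).op t) =
      N.presheaf.map (homOfLE (h'.trans h)).op t :=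
  presheaf_map_map N _ _ _ t

/-- The comparison maps commute with restriction to smaller opens. -/
theorem ε_resLE (p : ℕ) : ∀ (F : X.Modules) {V W : Y.Opens} (hWV : W ≤ V)
    (x : Coh.HHon X F (f ⁻¹ᵁ V) p),
    E.ε W F p (CohPull.resLE F (f.preimage_mono hWV) p x) =
      ((Coh.Rpush f p).obj F).presheaf.map (homOfLE hWV).op (E.ε V F p x) := by
  induction p with
  | zero =>
    intro F V W hWV x
    obtain ⟨s, rfl⟩ := (CohPull.sectH0 F (f ⁻¹ᵁ V)).surjective x
    refine (congrArg (E.ε W F 0) (resLE_sectH0 (f.preimage_mono hWV) F s)).trans ?_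
    refine (E.zero W F _).trans ?_
    refine Eq.trans ?_ (congrArg (((Coh.Rpush f 0).obj F).presheaf.map (homOfLE hWV).op)
      (E.zero V F s)).symm
    exact map_app_naturality' ((pushforward f).toRightDerivedZero.app F) hWV s
  | succ p ih =>
    intro F V W hWV x
    obtain ⟨x', rfl⟩ := exists_extδ_eq F (f ⁻¹ᵁ V) p x
    have hS := shiftSC_shortExact F
    refine (congrArg (E.ε W F (p + 1)) (resLE_extδ (f.preimage_mono hWV) (shiftSC F)
      (shiftSC_toAbOn F (f ⁻¹ᵁ V)) (shiftSC_toAbOn F (f ⁻¹ᵁ W)) p x')).trans ?_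
    refine (E.delta W (shiftSC F) hS (shiftSC_toAbOn F (f ⁻¹ᵁ W)) p _).trans ?_
    refine (congrArg ((Δ.δ (shiftSC F) hS p (p + 1) rfl).app W) (ih (shiftSC F).X₃ hWV x')).trans ?_
    refine (map_app_naturality' (Δ.δ (shiftSC F) hS p (p + 1) rfl) hWV _).trans ?_
    exact (congrArg (((Coh.Rpush f (p + 1)).obj F).presheaf.map (homOfLE hWV).op)
      (E.delta V (shiftSC F) hS (shiftSC_toAbOn F (f ⁻¹ᵁ V)) p x')).symm

end Groth.Agent.H42.ResLE
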