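import Mathlib

/-!
# A finite algebra over a local ring is semilocal

Lemma (R1) requested by helper8 for S2857.
-/

universe u

namespace Groth.Agent.H42.SemilocalFinite

/-- A module-finite algebra over a local ring has finitely many maximal ideals. -/
theorem finite_maximalSpectrum_of_finite_of_isLocalRing (R C₀ : Type u) [CommRing R]
    [IsLocalRing R] [CommRing C₀] [Algebra R C₀] [Module.Finite R C₀] :
    Finite (MaximalSpectrum C₀) := by
  classical
  have hfin : ((IsLocalRing.maximalIdeal R).primesOver C₀).Finite :=
    Algebra.QuasiFinite.finite_primesOver (IsLocalRing.maximalIdeal R)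
  have : Finite ((IsLocalRing.maximalIdeal R).primesOver C₀) := hfin.to_subtype
  have hint : Algebra.IsIntegral R C₀ := inferInstance
  refine Finite.of_injective
    (fun n : MaximalSpectrum C₀ =>
      (⟨n.asIdeal, n.isMaximal.isPrime, ⟨?_⟩⟩ : (IsLocalRing.maximalIdeal R).primesOver C₀)) ?_
  · have hmax : (n.asIdeal.comap (algebraMap R C₀)).IsMaximal :=
      haveI := n.isMaximal
      Ideal.isMaximal_comap_of_isIntegral_of_isMaximal (R := R) n.asIdeal
    exact (IsLocalRing.eq_maximalIdeal hmax).symm
  · intro n n' h
    have := congrArg Subtype.val h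
    exact MaximalSpectrum.ext this
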