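import Groth.Agent.H42.SiteDirIm3

/-!
# Helper library (helper42): higher direct images on sites as sheafified cohomology presheaves
-/

set_option autoImplicit false

universe u

open CategoryTheory Limits Opposite Abelian

namespace Groth.Agent.H42.SiteLib

attribute [local instance 2000] Abelian.toPreadditive

variable {C : Type u} [SmallCategory C] (J : GrothendieckTopology C)

section DirectImage

variable {J} {D : Type u} [SmallCategory D] (K : GrothendieckTopology D) (u : D ⥤ C)
  [u.IsContinuous K J] {F : Sheaf J AddCommGrpCat.{u}} (R : InjectiveResolution F) (n : ℕ)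

/-- Precomposition with `u`. -/
noncomputable abbrev Wu : (Cᵒᵖ ⥤ AddCommGrpCat.{u}) ⥤ (Dᵒᵖ ⥤ AddCommGrpCat.{u}) :=
  (Functor.whiskeringLeft Dᵒᵖ Cᵒᵖ AddCommGrpCat.{u}).obj u.op

/-- The direct image, as presheaves, is precomposition with `u`. -/
noncomputable def pushIso : CohSite.push J K u ⋙ sheafToPresheaf K AddCommGrpCat.{u} ≅
    sheafToPresheaf J AddCommGrpCat.{u} ⋙ Wu u :=
  Iso.refl _

/-- Three consecutive terms of `f_*` of the resolution. -/
noncomputable abbrev SY : ShortComplex (Sheaf K AddCommGrpCat.{u}) :=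
  (R.cocomplex.sc' n (n + 1) (n + 2)).map (CohSite.push J K u)

/-- The same, as presheaves. -/
noncomputable abbrev SP : ShortComplex (Dᵒᵖ ⥤ AddCommGrpCat.{u}) :=
  (SY K u R n).map (sheafToPresheaf K AddCommGrpCat.{u})

/-- The homology presheaf is `V ↦ Ext(Z_{u V}, F)`. -/
noncomputable def isoP : (SP K u R n).homology ≅ u.op ⋙ F.cohomologyPresheaf (n + 1) :=
  let S := R.cocomplex.sc' n (n + 1) (n + 2)
  let i1 : S.map (CohSite.push J K u ⋙ sheafToPresheaf K AddCommGrpCat.{u}) ≅
      S.map (sheafToPresheaf J AddCommGrpCat.{u} ⋙ Wu u) := S.mapNatIso (pushIso K u)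
  let i2 : (SP K u R n).homology ≅ ((SI R n).map (Wu u)).homology :=
    ShortComplex.homologyMapIso i1
  i2 ≪≫ (SI R n).mapHomologyIso (Wu u) ≪≫ (Wu u).mapIso (isoPI R n)

/-- The homology sheaf is the sheafification of the homology presheaf. -/
noncomputable def isoSheafify : (SY K u R n).homology ≅
    (presheafToSheaf K AddCommGrpCat.{u}).obj (SP K u R n).homology :=
  let a := presheafToSheaf K AddCommGrpCat.{u}
  let s2p := sheafToPresheaf K AddCommGrpCat.{u}
  let e : s2p ⋙ a ≅ 𝟭 _ := asIso (sheafificationAdjunction K AddCommGrpCat.{u}).counit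
  let i1 : (SY K u R n).map (s2p ⋙ a) ≅ (SY K u R n).map (𝟭 _) := (SY K u R n).mapNatIso e
  let i2 : ((SP K u R n).map a).homology ≅ (SY K u R n).homology := ShortComplex.homologyMapIso i1
  i2.symm ≪≫ (SP K u R n).mapHomologyIso a

include R in
theorem nonempty_Rpush_succ_iso :
    Nonempty ((CohSite.Rpush J K u (n + 1)).obj F ≅
      (presheafToSheaf K AddCommGrpCat.{u}).obj (u.op ⋙ F.cohomologyPresheaf (n + 1))) := by
  let L := ((CohSite.push J K u).mapHomologicalComplex (ComplexShape.up ℕ)).obj R.cocomplex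
  let i0 : (CohSite.Rpush J K u (n + 1)).obj F ≅ L.homology (n + 1) :=
    R.isoRightDerivedObj (CohSite.push J K u) (n + 1)
  let i1 : L.homology (n + 1) ≅ (SY K u R n).homology :=
    ShortComplex.homologyMapIso (L.isoSc' n (n + 1) (n + 2) (by simp) (by simp))
  exact ⟨i0 ≪≫ i1 ≪≫ isoSheafify K u R n ≪≫
    (presheafToSheaf K AddCommGrpCat.{u}).mapIso (isoP K u R n)⟩

theorem nonempty_Rpush_zero_iso (F : Sheaf J AddCommGrpCat.{u}) :
    Nonempty ((CohSite.Rpush J K u 0).obj F ≅
      (presheafToSheaf K AddCommGrpCat.{u}).obj (u.op ⋙ F.cohomologyPresheaf 0)) := by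
  have : PreservesLimitsOfSize.{u, u} (CohSite.push J K u) :=
    (Functor.sheafPullbackConstruction.sheafAdjunctionContinuous u AddCommGrpCat.{u}
      K J).rightAdjoint_preservesLimits
  have : PreservesFiniteLimits (CohSite.push J K u) := inferInstance
  let a := presheafToSheaf K AddCommGrpCat.{u}
  let i0 : (CohSite.Rpush J K u 0).obj F ≅ (CohSite.push J K u).obj F :=
    (CohSite.push J K u).rightDerivedZeroIsoSelf.app F
  let i1 : a.obj ((CohSite.push J K u).obj F).obj ≅ (CohSite.push J K u).obj F :=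
    asIso ((sheafificationAdjunction K AddCommGrpCat.{u}).counit.app
      ((CohSite.push J K u).obj F))
  let i2 : u.op ⋙ F.cohomologyPresheaf 0 ≅ ((CohSite.push J K u).obj F).obj :=
    Functor.isoWhiskerLeft u.op (cohomologyPresheafZeroIso F)
  exact ⟨i0 ≪≫ i1.symm ≪≫ a.mapIso i2.symm⟩

theorem nonempty_Rpush_iso (F : Sheaf J AddCommGrpCat.{u}) (i : ℕ) :
    Nonempty ((CohSite.Rpush J K u i).obj F ≅
      (presheafToSheaf K AddCommGrpCat.{u}).obj (u.op ⋙ F.cohomologyPresheaf i)) := by
  cases i with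
  | zero => exact nonempty_Rpush_zero_iso K u F
  | succ n => exact nonempty_Rpush_succ_iso K u (injectiveResolution F) n

end DirectImage

end Groth.Agent.H42.SiteLib
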