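import Groth.Agent.H42.SiteLib
import Mathlib.CategoryTheory.Sites.Pullback

/-!
# Helper library (helper42): cohomology presheaves on sites, part 1
-/

set_option autoImplicit false

universe u

open CategoryTheory Limits Opposite Abelian

namespace Groth.Agent.H42.SiteLib

attribute [local instance 2000] Abelian.toPreadditive

variable {C : Type u} [SmallCategory C] (J : GrothendieckTopology C)

instance preservesFiniteLimits_whiskeringLeft {C₁ C₂ : Type*} [Category C₁] [Category C₂]
    (G : C₁ ⥤ C₂) :
    PreservesFiniteLimits ((Functor.whiskeringLeft C₁ C₂ AddCommGrpCat.{u}).obj G) :=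
  ⟨fun _ _ _ => inferInstance⟩

instance preservesFiniteColimits_whiskeringLeft {C₁ C₂ : Type*} [Category C₁] [Category C₂]
    (G : C₁ ⥤ C₂) :
    PreservesFiniteColimits ((Functor.whiskeringLeft C₁ C₂ AddCommGrpCat.{u}).obj G) :=
  ⟨fun _ _ _ => inferInstance⟩

section Forget

variable {J} {F : Sheaf J AddCommGrpCat.{u}} (R : InjectiveResolution F) (n : ℕ)

/-- Three consecutive terms of the resolution, as presheaves. -/
noncomputable abbrev SI : ShortComplex (Cᵒᵖ ⥤ AddCommGrpCat.{u}) :=
  (R.cocomplex.sc' n (n + 1) (n + 2)).map (sheafToPresheaf J AddCommGrpCat.{u})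

/-- The cohomology presheaf is the restriction of `Ext(-, F)` to free sheaves. -/
noncomputable def cohomologyPresheafIso (F : Sheaf J AddCommGrpCat.{u}) (k : ℕ) :
    (W J).obj ((extFunctor k).flip.obj F) ≅ F.cohomologyPresheaf k :=
  Iso.refl _

end Forget

end Groth.Agent.H42.SiteLib
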