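import Groth.Agent.H42.SiteDirIm1

/-!
# Helper library (helper42): cohomology presheaves on sites, part 2
-/

set_option autoImplicit false

universe u

open CategoryTheory Limits Opposite Abelian

namespace Groth.Agent.H42.SiteLib

attribute [local instance 2000] Abelian.toPreadditive

variable {C : Type u} [SmallCategory C] (J : GrothendieckTopology C)

section Forget

variable {J} {F : Sheaf J AddCommGrpCat.{u}} (R : InjectiveResolution F) (n : ℕ)

/-- The homology presheaf of the resolution is the cohomology presheaf. -/
noncomputable def isoPI : (SI R n).homology ≅ F.cohomologyPresheaf (n + 1) :=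
  let S := R.cocomplex.sc' n (n + 1) (n + 2)
  let i1 : S.map (preadditiveYoneda ⋙ W J) ≅ SI R n := S.mapNatIso (ε J)
  let i2 : ((ExtYoneda.SYo R n).map (W J)).homology ≅ (SI R n).homology :=
    ShortComplex.homologyMapIso i1
  i2.symm ≪≫ (ExtYoneda.SYo R n).mapHomologyIso (W J) ≪≫
    (W J).mapIso (ExtYoneda.homologyIso R n) ≪≫ cohomologyPresheafIso F (n + 1)

end Forget

end Groth.Agent.H42.SiteLib
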