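import Groth.Agent.H42.SiteDirIm2

/-!
# Helper library (helper42): cohomology presheaves on sites, part 3
-/

set_option autoImplicit false

universe u

open CategoryTheory Limits Opposite Abelian

namespace Groth.Agent.H42.SiteLib

attribute [local instance 2000] Abelian.toPreadditive

variable {C : Type u} [SmallCategory C] (J : GrothendieckTopology C)

section Forget

variable {J} {F : Sheaf J AddCommGrpCat.{u}} (R : InjectiveResolution F) (n : ℕ)

/-- `cohomologyPresheaf F 0 ≅ F.obj`. -/
noncomputable def cohomologyPresheafZeroIso (F : Sheaf J AddCommGrpCat.{u}) :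
    F.cohomologyPresheaf 0 ≅ F.obj :=
  (cohomologyPresheafIso F 0).symm ≪≫ (W J).mapIso (ExtYoneda.ext0Iso F) ≪≫ εApp J F

theorem nonempty_rightDerived_sheafToPresheaf_iso (F : Sheaf J AddCommGrpCat.{u}) (p : ℕ) :
    Nonempty (((sheafToPresheaf J AddCommGrpCat.{u}).rightDerived p).obj F ≅
      F.cohomologyPresheaf p) := by
  let s2p := sheafToPresheaf J AddCommGrpCat.{u}
  cases p with
  | zero =>
    have : PreservesFiniteLimits s2p := inferInstance
    exact ⟨s2p.rightDerivedZeroIsoSelf.app F ≪≫ (cohomologyPresheafZeroIso F).symm⟩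
  | succ n =>
    let R := injectiveResolution F
    let K := (s2p.mapHomologicalComplex (ComplexShape.up ℕ)).obj R.cocomplex
    let i0 : (s2p.rightDerived (n + 1)).obj F ≅ K.homology (n + 1) :=
      R.isoRightDerivedObj s2p (n + 1)
    let i1 : K.homology (n + 1) ≅ (SI R n).homology :=
      ShortComplex.homologyMapIso (K.isoSc' n (n + 1) (n + 2) (by simp) (by simp))
    exact ⟨i0 ≪≫ i1 ≪≫ isoPI R n⟩

end Forget

end Groth.Agent.H42.SiteLib
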