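import Groth.Prelude.Def_CohSite
import Groth.Agent.H42.ExtYoneda

/-!
# Helper library (helper42): free abelian sheaves on a small site

* `Zf J : C ⥤ Sheaf J Ab`, the free abelian sheaf on an object; `E U G : (Z_U ⟶ G) ≃ G(U)`,
  natural in `G` (`E_comp`) and in `U` (`E_map`), additive (`EAdd`).
* `ε J : preadditiveYoneda ⋙ (whiskeringLeft _ _ _).obj (Zf J).op ≅ sheafToPresheaf J Ab`.
-/

set_option autoImplicit false

universe u

open CategoryTheory Limits Opposite Abelian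

namespace Groth.Agent.H42.SiteLib

attribute [local instance 2000] Abelian.toPreadditive

variable {C : Type u} [SmallCategory C] (J : GrothendieckTopology C)

/-- The free abelian sheaf on an object, as a functor. -/
noncomputable abbrev Zf : C ⥤ Sheaf J AddCommGrpCat.{u} :=
  yoneda ⋙ (Functor.whiskeringRight _ _ _).obj AddCommGrpCat.free ⋙ presheafToSheaf _ _

variable {J}

/-- Morphisms from the free abelian sheaf on `U` are sections over `U`. -/
noncomputable def E (U : C) (G : Sheaf J AddCommGrpCat.{u}) :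
    ((Zf J).obj U ⟶ G) ≃ G.obj.obj (op U) :=
  ((sheafificationAdjunction J AddCommGrpCat.{u}).homEquiv _ G).trans
    ((((AddCommGrpCat.adj.{u}).whiskerRight Cᵒᵖ).homEquiv (yoneda.obj U) G.obj).trans
      yonedaEquiv)

lemma E_comp (U : C) {G G' : Sheaf J AddCommGrpCat.{u}} (φ : (Zf J).obj U ⟶ G) (ψ : G ⟶ G') :
    E U G' (φ ≫ ψ) = ψ.hom.app (op U) (E U G φ) := by
  simp only [E, Equiv.trans_apply]
  rw [Adjunction.homEquiv_naturality_right, Adjunction.homEquiv_naturality_right,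
    yonedaEquiv_comp]
  rfl

lemma E_map {U V : C} (i : V ⟶ U) (G : Sheaf J AddCommGrpCat.{u}) (φ : (Zf J).obj U ⟶ G) :
    E V G ((Zf J).map i ≫ φ) = G.obj.map i.op (E U G φ) := by
  simp only [E, Equiv.trans_apply]
  have h1 : (Zf J).map i = (presheafToSheaf _ _).map
      (((Functor.whiskeringRight _ _ _).obj AddCommGrpCat.free).map (yoneda.map i)) := rfl
  rw [h1, Adjunction.homEquiv_naturality_left, Adjunction.homEquiv_naturality_left,
    ← yonedaEquiv_naturality]
  rfl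

lemma E_zero (U : C) (G : Sheaf J AddCommGrpCat.{u}) : E U G 0 = 0 := by
  have h := E_comp U (0 : (Zf J).obj U ⟶ G) (0 : G ⟶ G)
  rw [comp_zero] at h
  rw [h]
  rfl

lemma E_add (U : C) (G : Sheaf J AddCommGrpCat.{u}) (φ ψ : (Zf J).obj U ⟶ G) :
    E U G (φ + ψ) = E U G φ + E U G ψ := by
  have h1 : φ + ψ = biprod.lift φ ψ ≫ (biprod.fst + biprod.snd) := by
    rw [Preadditive.comp_add, biprod.lift_fst, biprod.lift_snd]
  have h2 := E_comp U (biprod.lift φ ψ) (biprod.fst + biprod.snd : G ⊞ G ⟶ G)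
  have h3 := E_comp U (biprod.lift φ ψ) (biprod.fst : G ⊞ G ⟶ G)
  have h4 := E_comp U (biprod.lift φ ψ) (biprod.snd : G ⊞ G ⟶ G)
  rw [biprod.lift_fst] at h3
  rw [biprod.lift_snd] at h4
  rw [h1, h2, h3, h4]
  rfl

/-- `E` as an additive equivalence. -/
noncomputable def EAdd (U : C) (G : Sheaf J AddCommGrpCat.{u}) :
    ((Zf J).obj U ⟶ G) ≃+ G.obj.obj (op U) :=
  { E U G with map_add' := E_add U G }

lemma EAdd_apply (U : C) (G : Sheaf J AddCommGrpCat.{u}) (φ : (Zf J).obj U ⟶ G) :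
    EAdd U G φ = E U G φ := rfl

variable (J)

/-- Precomposition with the free sheaf functor. -/
noncomputable abbrev W : ((Sheaf J AddCommGrpCat.{u})ᵒᵖ ⥤ AddCommGrpCat.{u}) ⥤
    (Cᵒᵖ ⥤ AddCommGrpCat.{u}) :=
  (Functor.whiskeringLeft Cᵒᵖ (Sheaf J AddCommGrpCat.{u})ᵒᵖ AddCommGrpCat.{u}).obj (Zf J).op

/-- `Hom(Z_U, G) ≅ G(U)`. -/
noncomputable def εObj (G : Sheaf J AddCommGrpCat.{u}) (U : Cᵒᵖ) :
    ((Zf J).op ⋙ preadditiveYoneda.obj G).obj U ≅ G.obj.obj U :=
  AddEquiv.toAddCommGrpIso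
    ((ExtYoneda.homEquiv (op ((Zf J).obj U.unop)) G).trans (EAdd U.unop G))

lemma εObj_hom_apply (G : Sheaf J AddCommGrpCat.{u}) (U : Cᵒᵖ)
    (a : ((preadditiveYoneda.obj G).obj (op ((Zf J).obj U.unop)) : AddCommGrpCat.{u})) :
    (εObj J G U).hom a = E U.unop G (ExtYoneda.homEquiv (op ((Zf J).obj U.unop)) G a) := rfl

/-- `Hom(Z_(-), G) ≅ G` as presheaves. -/
noncomputable def εApp (G : Sheaf J AddCommGrpCat.{u}) :
    (Zf J).op ⋙ preadditiveYoneda.obj G ≅ G.obj :=
  NatIso.ofComponents (εObj J G) (by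
    intro U U' r
    ext a
    change (εObj J G U').hom (((preadditiveYoneda.obj G).map ((Zf J).op.map r)).hom a) =
      G.obj.map r ((εObj J G U).hom a)
    rw [εObj_hom_apply, εObj_hom_apply, ExtYoneda.homEquiv_precomp]
    exact E_map r.unop G _)

/-- `Hom(Z_(-), -) ≅ sheafToPresheaf`. -/
noncomputable def ε : preadditiveYoneda ⋙ W J ≅ sheafToPresheaf J AddCommGrpCat.{u} :=
  NatIso.ofComponents (εApp J) (by
    intro G G' ψ
    ext U a
    change (εObj J G' U).hom (((preadditiveYoneda.map ψ).app (op ((Zf J).obj U.unop))).hom a) =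
      ψ.hom.app U ((εObj J G U).hom a)
    rw [εObj_hom_apply, εObj_hom_apply, ExtYoneda.homEquiv_postcomp]
    exact E_comp U.unop _ ψ)

end Groth.Agent.H42.SiteLib
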