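import Groth.Prelude.Def_FibClv
import Mathlib.CategoryTheory.Bicategory.Grothendieck
import Mathlib.CategoryTheory.Bicategory.Functor.LocallyDiscrete

/-!
# helper42: a splitting cleavage exhibits a fibred category as a strict CoGrothendieck construction
-/

set_option autoImplicit false
set_option backward.isDefEq.respectTransparency false
set_option backward.isDefEq.respectTransparency.types false

universe v₁ v₂ u₁ u₂ w₁ w₂ w₃ w₄ w₅ w₆

open CategoryTheory CategoryTheory.Functor Opposite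

namespace Groth.Agent.H42.SplitFib

/-- Cancel a faithful functor that is injective on objects. -/
theorem functor_cancel {A : Type w₁} [Category.{w₂} A] {B : Type w₃} [Category.{w₄} B]
    {C : Type w₅} [Category.{w₆} C] (H H' : A ⥤ B) (Ψ : B ⥤ C)
    (hobj : Function.Injective Ψ.obj) [Ψ.Faithful] (h : H ⋙ Ψ = H' ⋙ Ψ) : H = H' := by
  refine Functor.ext (fun X => hobj (Functor.congr_obj h X)) (fun X Y f => Ψ.map_injective ?_)
  rw [Functor.map_comp, Functor.map_comp, eqToHom_map, eqToHom_map]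
  exact Functor.congr_hom h f

variable {𝒮 : Type u₁} [Category.{v₁} 𝒮] {𝒳 : Type u₂} [Category.{v₂} 𝒳]
  {p : 𝒳 ⥤ 𝒮} (K : FibCat.Cleavage p)

theorem inverseImage_id (hK : K.IsNormalised) (S : 𝒮) :
    K.inverseImage (𝟙 S) = 𝟭 (p.Fiber S) := by
  apply functor_cancel _ _ Fiber.fiberInclusion Fiber.fiberInclusion_obj_inj
  refine Functor.ext (fun a => (hK a.2).1) (fun a b φ => ?_)
  obtain ⟨ha, hla⟩ := hK a.2
  obtain ⟨hb, hlb⟩ := hK b.2
  have h1 : IsCartesian.map p (𝟙 S) (K.lift b.2 (𝟙 S)) (K.lift a.2 (𝟙 S) ≫ Fiber.fiberInclusion.map φ)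
      ≫ K.lift b.2 (𝟙 S) = K.lift a.2 (𝟙 S) ≫ Fiber.fiberInclusion.map φ :=
    IsCartesian.fac p (𝟙 S) (K.lift b.2 (𝟙 S)) _
  change IsCartesian.map p (𝟙 S) (K.lift b.2 (𝟙 S))
    (K.lift a.2 (𝟙 S) ≫ Fiber.fiberInclusion.map φ) = _
  generalize IsCartesian.map p (𝟙 S) (K.lift b.2 (𝟙 S))
    (K.lift a.2 (𝟙 S) ≫ Fiber.fiberInclusion.map φ) = m at h1 ⊢
  rw [hlb, hla] at h1
  have h2 : m = (eqToHom ha ≫ Fiber.fiberInclusion.map φ) ≫ eqToHom hb.symm := by
    rw [← h1]; simp
  rw [h2]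
  simp

theorem inverseImage_comp (hK : K.IsSplitting) {S T U : 𝒮} (f : T ⟶ S) (g : U ⟶ T) :
    K.inverseImage (g ≫ f) = K.inverseImage f ⋙ K.inverseImage g := by
  apply functor_cancel _ _ Fiber.fiberInclusion Fiber.fiberInclusion_obj_inj
  refine Functor.ext (fun a => (hK.2 f g a.2).1.symm) (fun a b φ => ?_)
  obtain ⟨ha, hla⟩ := hK.2 f g a.2
  obtain ⟨hb, hlb⟩ := hK.2 f g b.2
  have key : IsCartesian.map p (g ≫ f) (K.lift b.2 (g ≫ f))
      (K.lift a.2 (g ≫ f) ≫ Fiber.fiberInclusion.map φ) =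
      eqToHom ha.symm ≫ Fiber.fiberInclusion.map ((K.inverseImage g).map ((K.inverseImage f).map φ)) ≫
        eqToHom hb := by
    symm
    apply IsCartesian.map_uniq
    simp only [Category.assoc]
    have h1 : Fiber.fiberInclusion.map ((K.inverseImage g).map ((K.inverseImage f).map φ)) ≫
        K.lift (K.obj_proj b.2 f) g =
        K.lift (K.obj_proj a.2 f) g ≫ Fiber.fiberInclusion.map ((K.inverseImage f).map φ) :=
      IsCartesian.fac p g (K.lift (K.obj_proj b.2 f) g) _
    have h2 : Fiber.fiberInclusion.map ((K.inverseImage f).map φ) ≫ K.lift b.2 f =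
        K.lift a.2 f ≫ Fiber.fiberInclusion.map φ :=
      IsCartesian.fac p f (K.lift b.2 f) _
    have h3 : eqToHom hb ≫ K.lift b.2 (g ≫ f) = K.lift (K.obj_proj b.2 f) g ≫ K.lift b.2 f :=
      hlb.symm
    have h4 : K.lift a.2 (g ≫ f) =
        eqToHom ha.symm ≫ K.lift (K.obj_proj a.2 f) g ≫ K.lift a.2 f := by
      rw [hla]; simp
    rw [h4, h3, reassoc_of% h1, h2]
    simp only [Category.assoc]
  exact key

/-- The strict functor of fibres of a splitting cleavage. -/
noncomputable def fibFunctor (hK : K.IsSplitting) : 𝒮ᵒᵖ ⥤ Cat.{v₂, u₂} where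
  obj S := Cat.of (p.Fiber S.unop)
  map {S T} f := (K.inverseImage f.unop).toCatHom
  map_id S := by
    apply Cat.Hom.ext
    exact inverseImage_id K hK.1 S.unop
  map_comp {S T U} f g := by
    apply Cat.Hom.ext
    exact inverseImage_comp K hK f.unop g.unop

open Pseudofunctor Pseudofunctor.CoGrothendieck

variable (hK : K.IsSplitting)

/-- The total category. -/
abbrev Tot := ∫ᶜ (fibFunctor K hK).toPseudofunctor'

/-- fibre object of a point of the total category, as an object of the fibre category. -/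
def fibObj (X : Tot K hK) : p.Fiber X.base := X.fiber

/-- fibre component of a morphism. -/
def fibHom {X Y : Tot K hK} (φ : X ⟶ Y) :
    fibObj K hK X ⟶ (K.inverseImage φ.base).obj (fibObj K hK Y) := φ.fiber

theorem fiberInclusion_eqToHom {S : 𝒮} {a b : p.Fiber S} (h : a = b) :
    Fiber.fiberInclusion.map (eqToHom h) = eqToHom (congrArg Subtype.val h) := by
  subst h; rfl

theorem fibHom_id (X : Tot K hK) :
    Fiber.fiberInclusion.map (fibHom K hK (𝟙 X)) = eqToHom (by
      obtain ⟨h, _⟩ := hK.1 (fibObj K hK X).2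
      exact h.symm) := by
  have h1 : fibHom K hK (𝟙 X) =
      ((fibFunctor K hK).toPseudofunctor'.mapId ⟨op X.base⟩).inv.toNatTrans.app X.fiber := rfl
  rw [h1]
  simp only [Functor.toPseudofunctor'_mapId, eqToIso.inv]
  rw [Cat.eqToHom_app]
  exact fiberInclusion_eqToHom _

theorem fibHom_comp {X Y Z : Tot K hK} (φ : X ⟶ Y) (ψ : Y ⟶ Z) :
    Fiber.fiberInclusion.map (fibHom K hK (φ ≫ ψ)) =
      Fiber.fiberInclusion.map (fibHom K hK φ) ≫
        Fiber.fiberInclusion.map ((K.inverseImage φ.base).map (fibHom K hK ψ)) ≫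
          eqToHom (hK.2 ψ.base φ.base (fibObj K hK Z).2).1 := by
  have h1 : fibHom K hK (φ ≫ ψ) = φ.fiber ≫
      ((fibFunctor K hK).toPseudofunctor'.map φ.base.op.toLoc).toFunctor.map ψ.fiber ≫
      ((fibFunctor K hK).toPseudofunctor'.mapComp ψ.base.op.toLoc φ.base.op.toLoc).inv.toNatTrans.app
        Z.fiber := rfl
  rw [h1]
  simp only [Functor.toPseudofunctor'_mapComp, eqToIso.inv]
  rw [Cat.eqToHom_app]
  rw [Functor.map_comp, Functor.map_comp, fiberInclusion_eqToHom]
  rfl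

/-- The morphism of the total space underlying a morphism of `Tot`. -/
noncomputable def psiMap {X Y : Tot K hK} (φ : X ⟶ Y) : (fibObj K hK X).1 ⟶ (fibObj K hK Y).1 :=
  Fiber.fiberInclusion.map (fibHom K hK φ) ≫ K.lift (fibObj K hK Y).2 φ.base

theorem psiMap_id (X : Tot K hK) : psiMap K hK (𝟙 X) = 𝟙 _ := by
  obtain ⟨h, hl⟩ := hK.1 (fibObj K hK X).2
  unfold psiMap
  rw [fibHom_id]
  have : K.lift (fibObj K hK X).2 (Hom.base (𝟙 X)) = eqToHom h := hl
  rw [this]
  simp

theorem psiMap_comp {X Y Z : Tot K hK} (φ : X ⟶ Y) (ψ : Y ⟶ Z) :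
    psiMap K hK (φ ≫ ψ) = psiMap K hK φ ≫ psiMap K hK ψ := by
  obtain ⟨h, hl⟩ := hK.2 ψ.base φ.base (fibObj K hK Z).2
  unfold psiMap
  rw [fibHom_comp]
  have h1 : Fiber.fiberInclusion.map ((K.inverseImage φ.base).map (fibHom K hK ψ)) ≫
      K.lift (K.obj_proj (fibObj K hK Z).2 ψ.base) φ.base =
      K.lift (fibObj K hK Y).2 φ.base ≫ Fiber.fiberInclusion.map (fibHom K hK ψ) :=
    IsCartesian.fac p φ.base (K.lift (K.obj_proj (fibObj K hK Z).2 ψ.base) φ.base) _
  have h2 : eqToHom h ≫ K.lift (fibObj K hK Z).2 (Hom.base (φ ≫ ψ)) =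
      K.lift (K.obj_proj (fibObj K hK Z).2 ψ.base) φ.base ≫ K.lift (fibObj K hK Z).2 ψ.base :=
    hl.symm
  simp only [Category.assoc]
  rw [h2, reassoc_of% h1]

/-- The functor from the total category of the fibre functor back to `𝒳`. -/
noncomputable def Psi : Tot K hK ⥤ 𝒳 where
  obj X := (fibObj K hK X).1
  map φ := psiMap K hK φ
  map_id X := psiMap_id K hK X
  map_comp φ ψ := psiMap_comp K hK φ ψ

theorem Psi_obj_injective : Function.Injective (Psi K hK).obj := by
  intro X Y h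
  obtain ⟨S, ⟨x, hx⟩⟩ := X
  obtain ⟨T, ⟨y, hy⟩⟩ := Y
  have h' : x = y := h
  subst h'
  have : S = T := hx.symm.trans hy
  subst this
  rfl

instance psiMap_isHomLift {X Y : Tot K hK} (φ : X ⟶ Y) : p.IsHomLift φ.base (psiMap K hK φ) := by
  unfold psiMap
  infer_instance

instance Psi_faithful : (Psi K hK).Faithful where
  map_injective := by
    intro X Y φ ψ h
    have h' : psiMap K hK φ = psiMap K hK ψ := h
    have hb : φ.base = ψ.base := by
      rw [IsHomLift.fac p φ.base (psiMap K hK φ), IsHomLift.fac p ψ.base (psiMap K hK ψ)]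
      simp only [h']
    obtain ⟨b, fb⟩ := φ
    obtain ⟨b', fb'⟩ := ψ
    dsimp only at hb
    subst hb
    congr 1
    apply Fiber.hom_ext
    exact IsCartesian.ext p b (K.lift (fibObj K hK Y).2 b) _ _ h'

/-- Object part of `Phi`. -/
def phiObj (x : 𝒳) : Tot K hK := ⟨p.obj x, Fiber.mk (p := p) (a := x) rfl⟩

/-- Morphism part of `Phi`. -/
noncomputable def phiMap {x y : 𝒳} (φ : x ⟶ y) : phiObj K hK x ⟶ phiObj K hK y :=
  ⟨p.map φ, Fiber.homMk p (p.obj x) (IsCartesian.map p (p.map φ) (K.lift rfl (p.map φ)) φ)⟩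

theorem psiMap_phiMap {x y : 𝒳} (φ : x ⟶ y) : (Psi K hK).map (phiMap K hK φ) = φ := by
  have := IsCartesian.fac p (p.map φ) (K.lift rfl (p.map φ)) φ
  exact this

/-- The functor from `𝒳` to the total category of the fibre functor. -/
noncomputable def Phi : 𝒳 ⥤ Tot K hK where
  obj x := phiObj K hK x
  map φ := phiMap K hK φ
  map_id x := by
    apply (Psi K hK).map_injective
    rw [psiMap_phiMap]
    exact ((Psi K hK).map_id (phiObj K hK x)).symm
  map_comp φ ψ := by
    apply (Psi K hK).map_injective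
    rw [psiMap_phiMap, Functor.map_comp, psiMap_phiMap, psiMap_phiMap]

theorem Phi_comp_Psi : Phi K hK ⋙ Psi K hK = 𝟭 𝒳 := by
  refine Functor.ext (fun x => rfl) (fun x y φ => ?_)
  simp only [eqToHom_refl, Category.comp_id, Category.id_comp, Functor.comp_map, Functor.id_map]
  exact psiMap_phiMap K hK φ

theorem Psi_comp_Phi : Psi K hK ⋙ Phi K hK = 𝟭 _ := by
  apply functor_cancel _ _ (Psi K hK) (Psi_obj_injective K hK)
  rw [Functor.assoc, Phi_comp_Psi, Functor.comp_id, Functor.id_comp]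

theorem Phi_comp_forget :
    Phi K hK ⋙ Pseudofunctor.CoGrothendieck.forget (fibFunctor K hK).toPseudofunctor' = p := by
  refine Functor.ext (fun x => rfl) (fun x y φ => ?_)
  simp only [eqToHom_refl, Category.comp_id, Category.id_comp]
  rfl

end Groth.Agent.H42.SplitFib




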