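import Mathlib.CategoryTheory.Triangulated.Pretriangulated
import Mathlib.Algebra.Homology.ShortComplex.Ab
import Mathlib.Algebra.Homology.ExactSequence
import Mathlib.CategoryTheory.Preadditive.Basic

/-!
# Helper library (helper42): the Mayer-Vietoris type long exact sequence of `Hom(-, K⟦n⟧)`
attached to a distinguished triangle `Z₁ ⟶ Z₂ ⊕ Z₃ ⟶ Z₄ ⟶ Z₁⟦1⟧`

The middle object `T.obj₂` is only assumed to be a biproduct of `Z₂` and `Z₃` through given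
injections and projections.
-/

set_option autoImplicit false

universe v u

open CategoryTheory Limits Category Pretriangulated

namespace Groth.Agent.H42.TriangleLES

variable {D : Type u} [Category.{v} D] [Preadditive D] [HasZeroObject D] [HasShift D ℤ]
  [∀ n : ℤ, (shiftFunctor D n).Additive] [Pretriangulated D]

section

variable (T : Triangle D) (K : D)

/-- The connecting homomorphism `Hom(T.obj₁, K⟦n⟧) → Hom(T.obj₃, K⟦n+1⟧)`. -/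
noncomputable def δ (n : ℤ) :
    (T.obj₁ ⟶ (shiftFunctor D n).obj K) →+ (T.obj₃ ⟶ (shiftFunctor D (n + 1)).obj K) :=
  AddMonoidHom.mk' (fun x => T.mor₃ ≫ (shiftFunctor D (1 : ℤ)).map x ≫
      (shiftFunctorAdd' D n 1 (n + 1) rfl).inv.app K) (by
    intro x y
    rw [Functor.map_add, Preadditive.add_comp, Preadditive.comp_add])

lemma δ_apply (n : ℤ) (x : T.obj₁ ⟶ (shiftFunctor D n).obj K) :
    δ T K n x = T.mor₃ ≫ (shiftFunctor D (1 : ℤ)).map x ≫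
      (shiftFunctorAdd' D n 1 (n + 1) rfl).inv.app K := rfl

end

variable {T : Triangle D} (hT : T ∈ distTriang D) (K : D)
  {Z₂ Z₃ : D} (i₂ : Z₂ ⟶ T.obj₂) (i₃ : Z₃ ⟶ T.obj₂) (p₂ : T.obj₂ ⟶ Z₂) (p₃ : T.obj₂ ⟶ Z₃)
  (h22 : i₂ ≫ p₂ = 𝟙 _) (h33 : i₃ ≫ p₃ = 𝟙 _) (h23 : i₂ ≫ p₃ = 0) (h32 : i₃ ≫ p₂ = 0)
  (htot : p₂ ≫ i₂ + p₃ ≫ i₃ = 𝟙 _)
  (a₁₂ : T.obj₁ ⟶ Z₂) (a₁₃ : T.obj₁ ⟶ Z₃) (a₂₄ : Z₂ ⟶ T.obj₃) (a₃₄ : Z₃ ⟶ T.obj₃)
  (h12 : T.mor₁ ≫ p₂ = a₁₂) (h13 : T.mor₁ ≫ p₃ = -a₁₃)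
  (h24 : i₂ ≫ T.mor₂ = a₂₄) (h34 : i₃ ≫ T.mor₂ = a₃₄)

include htot h24 h34 in
lemma mor₂_comp {X : D} (c : T.obj₃ ⟶ X) :
    T.mor₂ ≫ c = p₂ ≫ a₂₄ ≫ c + p₃ ≫ a₃₄ ≫ c := by
  calc T.mor₂ ≫ c = (p₂ ≫ i₂ + p₃ ≫ i₃) ≫ T.mor₂ ≫ c := by rw [htot, id_comp]
    _ = p₂ ≫ a₂₄ ≫ c + p₃ ≫ a₃₄ ≫ c := by
      rw [Preadditive.add_comp, assoc, assoc, ← h24, ← h34, assoc, assoc]

include htot h12 h13 in
lemma mor₁_comp {X : D} (ψ : T.obj₂ ⟶ X) :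
    T.mor₁ ≫ ψ = a₁₂ ≫ i₂ ≫ ψ - a₁₃ ≫ i₃ ≫ ψ := by
  calc T.mor₁ ≫ ψ = T.mor₁ ≫ (p₂ ≫ i₂ + p₃ ≫ i₃) ≫ ψ := by rw [htot, id_comp]
    _ = a₁₂ ≫ i₂ ≫ ψ - a₁₃ ≫ i₃ ≫ ψ := by
      rw [Preadditive.add_comp, Preadditive.comp_add, assoc, assoc, ← assoc T.mor₁ p₂,
        ← assoc T.mor₁ p₃, h12, h13, Preadditive.neg_comp, sub_eq_add_neg]

include h22 h33 h23 h32 in
lemma inl_desc {X : D} (a : Z₂ ⟶ X) (b : Z₃ ⟶ X) :
    i₂ ≫ (p₂ ≫ a + p₃ ≫ b) = a ∧ i₃ ≫ (p₂ ≫ a + p₃ ≫ b) = b := by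
  constructor
  · rw [Preadditive.comp_add, ← assoc, ← assoc, h22, h23, id_comp, zero_comp, add_zero]
  · rw [Preadditive.comp_add, ← assoc, ← assoc, h32, h33, id_comp, zero_comp, zero_add]

/-- The first map of the sequence: `c ↦ (a₂₄ ≫ c, a₃₄ ≫ c)`. -/
abbrev toProd (X : D) : (T.obj₃ ⟶ X) →+ (Z₂ ⟶ X) × (Z₃ ⟶ X) :=
  (Preadditive.leftComp X a₂₄).prod (Preadditive.leftComp X a₃₄)

/-- The second map of the sequence: `(a, b) ↦ a₁₂ ≫ a - a₁₃ ≫ b`. -/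
abbrev fromProd (X : D) : (Z₂ ⟶ X) × (Z₃ ⟶ X) →+ (T.obj₁ ⟶ X) :=
  (Preadditive.leftComp X a₁₂).coprod (-(Preadditive.leftComp X a₁₃))

lemma fromProd_apply (X : D) (a : Z₂ ⟶ X) (b : Z₃ ⟶ X) :
    fromProd a₁₂ a₁₃ X (a, b) = a₁₂ ≫ a - a₁₃ ≫ b := by
  change a₁₂ ≫ a + -(a₁₃ ≫ b) = _
  rw [sub_eq_add_neg]

include hT htot h12 h13 h24 h34 in
lemma toProd_fromProd (X : D) (c : T.obj₃ ⟶ X) :
    fromProd a₁₂ a₁₃ X (toProd a₂₄ a₃₄ X c) = 0 := by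
  change fromProd a₁₂ a₁₃ X (a₂₄ ≫ c, a₃₄ ≫ c) = 0
  rw [fromProd_apply, ← h24, ← h34, assoc, assoc,
    ← mor₁_comp i₂ i₃ p₂ p₃ htot a₁₂ a₁₃ h12 h13 (T.mor₂ ≫ c),
    ← assoc, comp_distTriang_mor_zero₁₂ _ hT, zero_comp]

include hT h22 h33 h23 h32 htot h12 h13 h24 h34 in
theorem exact₁ (n : ℤ) :
    (ComposableArrows.mk₂
      (AddCommGrpCat.ofHom (toProd a₂₄ a₃₄ ((shiftFunctor D n).obj K)))
      (AddCommGrpCat.ofHom (fromProd a₁₂ a₁₃ ((shiftFunctor D n).obj K)))).Exact := by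
  have w : AddCommGrpCat.ofHom (toProd a₂₄ a₃₄ ((shiftFunctor D n).obj K)) ≫
      AddCommGrpCat.ofHom (fromProd a₁₂ a₁₃ ((shiftFunctor D n).obj K)) = 0 := by
    ext c
    exact toProd_fromProd hT i₂ i₃ p₂ p₃ htot a₁₂ a₁₃ a₂₄ a₃₄ h12 h13 h24 h34 _ c
  have hex : (ShortComplex.mk _ _ w).Exact := by
    rw [ShortComplex.ab_exact_iff]
    rintro ⟨a, b⟩ hab
    change fromProd a₁₂ a₁₃ _ (a, b) = 0 at hab
    rw [fromProd_apply] at hab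
    have h0 : T.mor₁ ≫ (p₂ ≫ a + p₃ ≫ b) = 0 := by
      rw [mor₁_comp i₂ i₃ p₂ p₃ htot a₁₂ a₁₃ h12 h13,
        (inl_desc i₂ i₃ p₂ p₃ h22 h33 h23 h32 a b).1,
        (inl_desc i₂ i₃ p₂ p₃ h22 h33 h23 h32 a b).2]
      exact hab
    obtain ⟨c, hc⟩ := Triangle.yoneda_exact₂ T hT _ h0
    refine ⟨c, ?_⟩
    change (a₂₄ ≫ c, a₃₄ ≫ c) = (a, b)
    rw [← h24, ← h34, assoc, assoc, ← hc,
      (inl_desc i₂ i₃ p₂ p₃ h22 h33 h23 h32 a b).1,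
      (inl_desc i₂ i₃ p₂ p₃ h22 h33 h23 h32 a b).2]
  exact hex.exact_toComposableArrows

include hT h22 h33 h23 h32 htot h12 h13 in
theorem exact₂ (n : ℤ) :
    (ComposableArrows.mk₂
      (AddCommGrpCat.ofHom (fromProd a₁₂ a₁₃ ((shiftFunctor D n).obj K)))
      (AddCommGrpCat.ofHom (δ T K n))).Exact := by
  have w : AddCommGrpCat.ofHom (fromProd a₁₂ a₁₃ ((shiftFunctor D n).obj K)) ≫
      AddCommGrpCat.ofHom (δ T K n) = 0 := by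
    ext ⟨a, b⟩
    change δ T K n (fromProd a₁₂ a₁₃ _ (a, b)) = 0
    have h1 : fromProd a₁₂ a₁₃ _ (a, b) = T.mor₁ ≫ (p₂ ≫ a + p₃ ≫ b) := by
      rw [fromProd_apply, mor₁_comp i₂ i₃ p₂ p₃ htot a₁₂ a₁₃ h12 h13,
        (inl_desc i₂ i₃ p₂ p₃ h22 h33 h23 h32 a b).1,
        (inl_desc i₂ i₃ p₂ p₃ h22 h33 h23 h32 a b).2]
    rw [h1, δ_apply, Functor.map_comp, ← assoc, ← assoc, comp_distTriang_mor_zero₃₁ _ hT,
      zero_comp, zero_comp]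
  have hex : (ShortComplex.mk _ _ w).Exact := by
    rw [ShortComplex.ab_exact_iff]
    intro x hx
    change δ T K n x = 0 at hx
    rw [δ_apply] at hx
    have h0 : T.mor₃ ≫ (shiftFunctor D (1 : ℤ)).map x = 0 := by
      have h := hx =≫ (shiftFunctorAdd' D n 1 (n + 1) rfl).hom.app K
      simpa using h
    obtain ⟨g, hg⟩ : ∃ g : (shiftFunctor D (1 : ℤ)).obj T.obj₂ ⟶
        (shiftFunctor D (1 : ℤ)).obj ((shiftFunctor D n).obj K),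
        (shiftFunctor D (1 : ℤ)).map x = (-(shiftFunctor D (1 : ℤ)).map T.mor₁) ≫ g :=
      Triangle.yoneda_exact₂ T.rotate.rotate
        (rot_of_distTriang _ (rot_of_distTriang _ hT)) ((shiftFunctor D (1 : ℤ)).map x) h0
    obtain ⟨ψ, rfl⟩ := (shiftFunctor D (1 : ℤ)).map_surjective g
    have hx' : x = -(T.mor₁ ≫ ψ) := by
      apply (shiftFunctor D (1 : ℤ)).map_injective
      rw [hg, Functor.map_neg, Functor.map_comp, Preadditive.neg_comp]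
    refine ⟨(-(i₂ ≫ ψ), -(i₃ ≫ ψ)), ?_⟩
    change fromProd a₁₂ a₁₃ _ (-(i₂ ≫ ψ), -(i₃ ≫ ψ)) = x
    rw [fromProd_apply, hx', mor₁_comp i₂ i₃ p₂ p₃ htot a₁₂ a₁₃ h12 h13 ψ,
      Preadditive.comp_neg, Preadditive.comp_neg]
    abel
  exact hex.exact_toComposableArrows

include hT htot h24 h34 in
theorem exact₃ (n : ℤ) :
    (ComposableArrows.mk₂
      (AddCommGrpCat.ofHom (δ T K n))
      (AddCommGrpCat.ofHom (toProd a₂₄ a₃₄ ((shiftFunctor D (n + 1)).obj K)))).Exact := by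
  have w : AddCommGrpCat.ofHom (δ T K n) ≫
      AddCommGrpCat.ofHom (toProd a₂₄ a₃₄ ((shiftFunctor D (n + 1)).obj K)) = 0 := by
    ext x
    · change a₂₄ ≫ δ T K n x = 0
      rw [δ_apply, ← h24, assoc, ← assoc T.mor₂, comp_distTriang_mor_zero₂₃ _ hT,
        zero_comp, comp_zero]
    · change a₃₄ ≫ δ T K n x = 0
      rw [δ_apply, ← h34, assoc, ← assoc T.mor₂, comp_distTriang_mor_zero₂₃ _ hT,
        zero_comp, comp_zero]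
  have hex : (ShortComplex.mk _ _ w).Exact := by
    rw [ShortComplex.ab_exact_iff]
    intro c hc
    change (a₂₄ ≫ c, a₃₄ ≫ c) = 0 at hc
    have hc1 : a₂₄ ≫ c = 0 := congrArg Prod.fst hc
    have hc2 : a₃₄ ≫ c = 0 := congrArg Prod.snd hc
    have h0 : T.mor₂ ≫ c = 0 := by
      rw [mor₂_comp i₂ i₃ p₂ p₃ htot a₂₄ a₃₄ h24 h34 c, hc1, hc2, comp_zero, comp_zero, add_zero]
    obtain ⟨g, hg⟩ := Triangle.yoneda_exact₃ T hT c h0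
    obtain ⟨x, hx⟩ := (shiftFunctor D (1 : ℤ)).map_surjective
      (g ≫ (shiftFunctorAdd' D n 1 (n + 1) rfl).hom.app K)
    refine ⟨x, ?_⟩
    change δ T K n x = c
    rw [δ_apply, hx, assoc, Iso.hom_inv_id_app, comp_id, hg]
  exact hex.exact_toComposableArrows

end Groth.Agent.H42.TriangleLES
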