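import Groth.Prelude.Def_DCoh4
import Groth.Agent.H31.FlatSite
import Groth.Agent.H31.TensorAssoc
import Groth.Agent.H40.UnitIso

/-!
# Helper library (helper42): tensoring with an invertible module is an equivalence

* `tw L`: the functor `L ⊗ -` on `O_X`-modules.
* `twAssoc A B : tw (A ⊗ B) ≅ tw B ⋙ tw A`, `twUnit : tw O ≅ 𝟭`.
* `twEquiv A B e₁ e₂`: if `B ⊗ A ≅ O` and `A ⊗ B ≅ O`, then `tw A` is an equivalence with
  inverse `tw B`; hence `tw B` is right adjoint to `tw A` and `ℋom(A, -) ≅ tw B`.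
* `nonempty_splitting_of_ext_subsingleton`: a short exact sequence with `Ext¹(X₃, X₁) = 0` splits.
-/

set_option autoImplicit false

universe u w v' u'

open CategoryTheory CategoryTheory.Limits AlgebraicGeometry

namespace Groth.Agent.H42.TwistEquiv

section Split

variable {C : Type u'} [Category.{v'} C] [Abelian C] [HasExt.{w} C]

theorem nonempty_splitting_of_ext_subsingleton (S : ShortComplex C) (hS : S.ShortExact)
    (h : Subsingleton (Abelian.Ext S.X₃ S.X₁ 1)) : Nonempty S.Splitting := by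
  obtain ⟨x₂, hx₂⟩ := Abelian.Ext.covariant_sequence_exact₃ S.X₃ hS
    (Abelian.Ext.mk₀ (𝟙 S.X₃)) (n₁ := 1) (by norm_num) (Subsingleton.elim _ _)
  obtain ⟨s, rfl⟩ := (Abelian.Ext.mk₀_bijective S.X₃ S.X₂).surjective x₂
  rw [Abelian.Ext.mk₀_comp_mk₀] at hx₂
  have hs : s ≫ S.g = 𝟙 _ := (Abelian.Ext.mk₀_bijective S.X₃ S.X₃).injective hx₂
  exact ⟨ShortComplex.Splitting.ofExactOfSection S hS.exact s hs hS.mono_f⟩

end Split

variable {X : Scheme.{u}}

/-- The functor `L ⊗ -`. -/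
noncomputable def tw (L : X.Modules) : X.Modules ⥤ X.Modules :=
  (DCoh.tensorBi (X := X)).obj L

theorem tw_obj (L F : X.Modules) : (tw L).obj F = CohB1.tensorMod L F := rfl

/-- `(A ⊗ B) ⊗ - ≅ A ⊗ (B ⊗ -)`. -/
noncomputable def twAssoc (A B : X.Modules) : tw (CohB1.tensorMod A B) ≅ tw B ⋙ tw A :=
  NatIso.ofComponents
    (fun F => (((Groth.Agent.H31.tensorBiAssociator (O := X.sheaf)).app A).app B).app F)
    (fun f => (((Groth.Agent.H31.tensorBiAssociator (O := X.sheaf)).app A).app B).hom.naturality f)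

/-- Functoriality of `tw` in the module. -/
noncomputable def twMapIso {A B : X.Modules} (e : A ≅ B) : tw A ≅ tw B :=
  (DCoh.tensorBi (X := X)).mapIso e

/-- `O ⊗ - ≅ 𝟭`. -/
noncomputable def twUnit : tw (Coh.structureModule X) ≅ 𝟭 X.Modules :=
  Groth.Agent.H31.braidIso (O := X.sheaf) (Coh.structureModule X) ≪≫
    Groth.Agent.H40.UnitIso.rightUnitNatIso X.sheaf

/-- If `B ⊗ A ≅ O` and `A ⊗ B ≅ O`, then `A ⊗ -` is an equivalence with inverse `B ⊗ -`. -/
noncomputable def twEquiv (A B : X.Modules)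
    (e₁ : CohB1.tensorMod B A ≅ Coh.structureModule X)
    (e₂ : CohB1.tensorMod A B ≅ Coh.structureModule X) : X.Modules ≌ X.Modules :=
  CategoryTheory.Equivalence.mk (tw A) (tw B)
    (twUnit.symm ≪≫ (twMapIso e₁).symm ≪≫ twAssoc B A)
    ((twAssoc A B).symm ≪≫ twMapIso e₂ ≪≫ twUnit)

/-- `A ⊗ - ⊣ B ⊗ -` when `A` and `B` are mutually inverse. -/
noncomputable def twAdj (A B : X.Modules)
    (e₁ : CohB1.tensorMod B A ≅ Coh.structureModule X)
    (e₂ : CohB1.tensorMod A B ≅ Coh.structureModule X) : tw A ⊣ tw B :=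
  (twEquiv A B e₁ e₂).toAdjunction

theorem hasSheafHom_of_inverse (A B : X.Modules)
    (e₁ : CohB1.tensorMod B A ≅ Coh.structureModule X)
    (e₂ : CohB1.tensorMod A B ≅ Coh.structureModule X) : DCoh.HasSheafHom A :=
  (twAdj A B e₁ e₂).isLeftAdjoint

/-- `ℋom(A, -) ≅ B ⊗ -` when `A` and `B` are mutually inverse. -/
noncomputable def sheafHomIsoTw (A B : X.Modules) [DCoh.HasSheafHom A]
    (e₁ : CohB1.tensorMod B A ≅ Coh.structureModule X)
    (e₂ : CohB1.tensorMod A B ≅ Coh.structureModule X) : DCoh.sheafHom A ≅ tw B :=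
  (DCoh.sheafHomAdj A).rightAdjointUniq (twAdj A B e₁ e₂)

end Groth.Agent.H42.TwistEquiv
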