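import Mathlib
import Groth.Agent.H42.PtCountSP

/-!
# Finiteness of the set of `F`-points (lemma (G3) for helper74, S13086/S13084)
-/

set_option autoImplicit false

universe u

open CategoryTheory AlgebraicGeometry

namespace Groth.Agent.H42.ZetaG3

open Groth.Agent.H42.PtCountSP

theorem finite_hom_Spec {X : Scheme.{u}}
    (f : X ⟶ Spec (CommRingCat.of (ULift.{u} ℤ))) [LocallyOfFiniteType f] [QuasiCompact f]
    (F : Type u) [Field F] [Finite F] : Finite (Spec (CommRingCat.of F) ⟶ X) := by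
  classical
  have : CompactSpace X := QuasiCompact.compactSpace_of_compactSpace f
  let 𝒰 : X.OpenCover := X.affineCover.finiteSubcover
  obtain ⟨n, ⟨e⟩⟩ := Finite.exists_equiv_fin 𝒰.I₀
  let U : Fin n → X.Opens := fun i => (𝒰.f (e.symm i)).opensRange
  have hU : ∀ i, IsAffineOpen (U i) := fun i => isAffineOpen_opensRange (𝒰.f (e.symm i))
  have hcov : ∀ x : X, ∃ i, x ∈ U i := by
    intro x
    obtain ⟨j, y, rfl⟩ := 𝒰.exists_eq x
    refine ⟨e j, ?_⟩
    have hj := e.symm_apply_apply j
    simp only [U]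
    rw [hj]
    exact ⟨y, rfl⟩
  have hAff : ∀ i, IsAffine (U i : Scheme.{u}) := fun i => hU i
  have hFT : ∀ i, Algebra.FiniteType ℤ Γ((U i : Scheme.{u}), ⊤) := by
    intro i
    have hlft : LocallyOfFiniteType ((U i).ι ≫ f) := inferInstance
    have hft : ((U i).ι ≫ f).appTop.hom.FiniteType :=
      (HasRingHomProperty.iff_of_isAffine (P := @LocallyOfFiniteType)).mp hlft
    let ge : ℤ ≃+* Γ(Spec (CommRingCat.of (ULift.{u} ℤ)), ⊤) :=
      (ULift.ringEquiv.symm : ℤ ≃+* ULift.{u} ℤ).trans
        ((Scheme.ΓSpecIso (CommRingCat.of (ULift.{u} ℤ))).symm.commRingCatIsoToRingEquiv)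
    let g : ℤ →+* Γ(Spec (CommRingCat.of (ULift.{u} ℤ)), ⊤) := ge.toRingHom
    have hg : Function.Surjective g := ge.surjective
    have hcomp : (((U i).ι ≫ f).appTop.hom.comp g).FiniteType :=
      hft.comp (RingHom.FiniteType.of_surjective g hg)
    have heq : ((U i).ι ≫ f).appTop.hom.comp g = algebraMap ℤ Γ((U i : Scheme.{u}), ⊤) :=
      Subsingleton.elim _ _
    rw [heq] at hcomp
    exact RingHom.finiteType_algebraMap.mp hcomp
  let _ : Unique (Spec (CommRingCat.of F)) := inferInstanceAs (Unique (PrimeSpectrum F))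
  have hrange : ∀ (x : Spec (CommRingCat.of F) ⟶ X) (i : Fin n),
      x.base default ∈ U i → Set.range x.base ⊆ Set.range (U i).ι.base := by
    intro x i hi
    rintro _ ⟨s, rfl⟩
    rw [Unique.eq_default s]
    simpa using hi
  let ix : (Spec (CommRingCat.of F) ⟶ X) → Fin n := fun x => (hcov (x.base default)).choose
  have hix : ∀ x, x.base default ∈ U (ix x) := fun x => (hcov (x.base default)).choose_spec
  let Φ : (Spec (CommRingCat.of F) ⟶ X) → Σ i : Fin n, (Γ((U i : Scheme.{u}), ⊤) →+* F) :=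
    fun x => ⟨ix x, pointHom F (U (ix x)) x (hrange x _ (hix x))⟩
  have hΦ : Function.Injective Φ := by
    intro x y h
    have hi : ix x = ix y := congrArg Sigma.fst h
    have h2 : HEq (pointHom F (U (ix x)) x (hrange x _ (hix x)))
        (pointHom F (U (ix y)) y (hrange y _ (hix y))) := (Sigma.mk.inj_iff.mp h).2
    exact eq_of_pointHom_heq F (U (ix x)) (U (ix y)) (by rw [hi]) (hU _) x y _ _ h2
  have : ∀ i : Fin n, Finite (Γ((U i : Scheme.{u}), ⊤) →+* F) := fun i =>
    haveI := hFT i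
    finite_ringHom_of_finiteType _ F
  exact Finite.of_injective Φ hΦ

end Groth.Agent.H42.ZetaG3
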